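import Groth.Agent.Mod48.TruncTower
import Groth.Agent.Mod48.CmpAdj
import Groth.Agent.Mod48.DerivedProd

/-!
Morphisms out of an acyclic test object are maps into the cohomology object, for unbounded complexes.
-/

universe u u₀ t

open CategoryTheory CategoryTheory.Limits CategoryTheory.Pretriangulated DerivedCategory

attribute [local instance] HasDerivedCategory.standard

set_option autoImplicit false
set_option backward.isDefEq.respectTransparency false
set_option backward.isDefEq.respectTransparency.types false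

namespace Groth.Agent.DerComp18

open Groth.Agent.Mod48 Groth.Agent.Mod48.LocGen

variable {A : Type (u + 1)} [Category.{u} A] [Abelian A]

lemma vanishAt_of_neg (X F : A) {k : ℤ} (hk : k < 0) : VanishAt X F k := fun m q hmq f =>
  TStructure.t.zero_of_isLE_of_isGE f m q (by omega)
    (inferInstanceAs (TStructure.t.IsLE ((singleFunctor A m).obj X) m)) inferInstance

lemma vanishAt_of_iso {X X' F : A} {k : ℤ} (e : X ≅ X') (h : VanishAt X F k) : VanishAt X' F k :=
  fun m q hmq f => by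
    rw [← cancel_epi (Pm e.hom m), comp_zero]
    exact h m q hmq _

lemma ev_add {X : A} {m : ℤ} {K : DerivedCategory A} (x y : Pd X m ⟶ K) : ev (x + y) = ev x + ev y := by
  rw [ev, ev, ev, Functor.map_add, Preadditive.comp_add]

/-- In degree zero, maps out of an object into a complex concentrated in nonnegative degrees are maps into the
zeroth cohomology object. -/
lemma ev_bijective_of_isGE (X : A) (Z : DerivedCategory A) (hZ : TStructure.t.IsGE Z 0) :
    Function.Bijective fun x : Pd X 0 ⟶ Z => ev x := by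
  let t : Triangulated.TStructure (DerivedCategory A) := TStructure.t
  have hT := t.triangleLTGE_distinguished 1 Z
  let W := (t.truncLT 1).obj Z
  let ι : W ⟶ Z := (t.truncLTι 1).app Z
  have hW₁ : t.IsLE W 0 := t.isLE_truncLT_obj Z 1 0 (by omega)
  have hW₂ : t.IsGE W 0 := inferInstance
  have hPd : t.IsLE (Pd X 0) 0 := inferInstanceAs (t.IsLE ((singleFunctor _ 0).obj X) 0)
  obtain ⟨M, ⟨eW⟩⟩ := exists_iso_singleFunctor_obj_of_isGE_of_isLE W 0
  have hι : Function.Bijective fun x : Pd X 0 ⟶ W => x ≫ ι := by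
    constructor
    · intro x x' h
      rw [← sub_eq_zero]
      obtain ⟨g, hg⟩ := Triangle.coyoneda_exact₂ _ (inv_rot_of_distTriang _ hT) (x - x') (by
        change (x - x') ≫ ι = 0
        rw [Preadditive.sub_comp, sub_eq_zero]
        exact h)
      have : g = 0 := t.zero_of_isLE_of_isGE _ 0 2 (by omega) hPd
        (t.isGE_shift ((t.truncGE 1).obj Z) 1 (-1) 2 (by omega))
      rw [hg, this]
      exact zero_comp
    · intro y
      obtain ⟨x, hx⟩ := Triangle.coyoneda_exact₂ _ hT y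
        (t.zero_of_isLE_of_isGE _ 0 1 (by omega) hPd inferInstance)
      exact ⟨x, hx.symm⟩
  have hevW : Function.Bijective fun x : Pd X 0 ⟶ (singleFunctor _ 0).obj M => ev x := by
    have h1 : IsIso (ev (X := M) (m := 0) (𝟙 (Pd M 0))) := by
      rw [ev, CategoryTheory.Functor.map_id]
      exact IsIso.comp_isIso' (IsIso.comp_isIso' inferInstance inferInstance) (IsIso.id _)
    have hs : ∀ r : X ⟶ M, ev (Pm r 0) = r ≫ ev (X := M) (m := 0) (𝟙 (Pd M 0)) := fun r => by
      rw [← ev_precomp, Category.comp_id]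
    constructor
    · intro x x' h
      obtain ⟨r, rfl⟩ := (singleFunctor _ 0).map_surjective x
      obtain ⟨r', rfl⟩ := (singleFunctor _ 0).map_surjective x'
      have h' : ev (Pm r 0) = ev (Pm r' 0) := h
      rw [hs, hs, cancel_mono] at h'
      rw [h']
    · intro b
      refine ⟨Pm (b ≫ inv (ev (X := M) (m := 0) (𝟙 (Pd M 0)))) 0, (hs _).trans ?_⟩
      rw [Category.assoc, IsIso.inv_hom_id, Category.comp_id]
  have := isIso_homology_truncLTι Z 1 0 (by omega)
  have hev : ∀ x : Pd X 0 ⟶ W, ev (x ≫ ι) = ev (x ≫ eW.hom) ≫ (homologyFunctor _ 0).map eW.inv ≫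
      (homologyFunctor _ 0).map ι := fun x => by
    rw [← Category.assoc, ← ev_comp, Category.assoc, Iso.hom_inv_id, Category.comp_id, ev_comp]
  refine ⟨fun y y' h => ?_, fun b => ?_⟩
  · obtain ⟨x, rfl⟩ := hι.2 y
    obtain ⟨x', rfl⟩ := hι.2 y'
    change ev (x ≫ ι) = ev (x' ≫ ι) at h
    rw [hev, hev] at h
    have h' := hevW.1 ((cancel_mono ((homologyFunctor _ 0).map eW.inv ≫ (homologyFunctor _ 0).map ι)).1 h)
    exact congrArg (· ≫ ι) ((cancel_mono eW.hom).1 h')
  · obtain ⟨z, hz⟩ := hevW.2 (b ≫ inv ((homologyFunctor _ 0).map eW.inv ≫ (homologyFunctor _ 0).map ι))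
    change ev z = _ at hz
    refine ⟨(z ≫ eW.inv) ≫ ι, ?_⟩
    change ev ((z ≫ eW.inv) ≫ ι) = b
    rw [hev, Category.assoc z, Iso.inv_hom_id, Category.comp_id, hz, Category.assoc, IsIso.inv_hom_id,
      Category.comp_id]

/-- **Acyclic test objects see cohomology objects**, for an arbitrary complex. -/
theorem ev_bijective_of_vanish [IsGrothendieckAbelian.{u} A] {C : Type u₀} [SmallCategory C]
    {J : GrothendieckTopology C} (G : LocGen J A) (B : Set C)
    (hB : ∀ U : C, ∃ (ι : Type t) (Y : ι → C) (g : ∀ i, Y i ⟶ U), Sieve.ofArrows Y g ∈ J U ∧ ∀ i, Y i ∈ B)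
    (href : ∀ V ∈ B, ∀ T ∈ J V, ∃ (ι : Type t) (Y : ι → C) (g : ∀ i, Y i ⟶ V),
      (∀ i, T.arrows (g i)) ∧ Sieve.ofArrows Y g ∈ J V ∧ ∀ i, Y i ∈ B)
    (E : DerivedCategory A)
    (hv : ∀ V ∈ B, ∀ (q k : ℤ), 0 < k → VanishAt (G.P V) ((homologyFunctor A q).obj E) k)
    {X : A} (hX : ∀ (q k : ℤ), 0 < k → VanishAt X ((homologyFunctor A q).obj E) k) :
    Function.Bijective fun x : Pd X 0 ⟶ E => ev x := by
  have : HasProduct (CohCx.truncTower E) := hasProduct_of_enoughKInj Mod48.enoughKInj _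
  have hR : CohCx.IsRlimVia (CohCx.truncTower E) (CohCx.truncTowerMap E) E (CohCx.toTruncTower E) :=
    isRlimVia_truncTower G E B hB fun V hV m => ⟨(-m).toNat + 1, fun T hT => by
      obtain ⟨ι, Y, g, h₁, h₂, h₃⟩ := href V hV T hT
      exact ⟨ι, Y, g, h₁, h₂, fun i n hn q k _ hk _ => hv _ (h₃ i) q k (by omega)⟩⟩
  have b₁ := rlim_truncTower_bijective (X := X) E hR 0 1 (fun n hn q k hq hk₁ hk₂ => hX q k (by omega)) 1 le_rfl
  have b₀ := truncTower_postcomp_bijective (X := X) E 0 (-1) (by simp) 0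
    (hX (-1) _ (by omega)) (hX (-1) _ (by omega))
  have hπ : CohCx.toTruncTower E 1 ≫ CohCx.truncTowerMap E 0 = CohCx.toTruncTower E 0 :=
    TStructure.t.π_natTransTruncGEOfLE_app _ _ _ E
  have hge : TStructure.t.IsGE (CohCx.truncTower E 0) 0 :=
    TStructure.t.isGE_of_ge _ 0 (-((0 : ℕ) : ℤ)) (by omega)
  have hb := (ev_bijective_of_isGE X _ hge).comp (b₀.comp b₁)
  have hiso : IsIso ((homologyFunctor _ 0).map (CohCx.toTruncTower E 0)) :=
    isIso_homology_truncGEπ E (-((0 : ℕ) : ℤ)) 0 (by omega)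
  have key : ∀ x : Pd X 0 ⟶ E,
      ev ((x ≫ CohCx.toTruncTower E 1) ≫ CohCx.truncTowerMap E 0) =
        ev x ≫ (homologyFunctor _ 0).map (CohCx.toTruncTower E 0) := fun x => by
    rw [Category.assoc, hπ, ev_comp]
  refine ⟨fun x x' hxx' => hb.1 ?_, fun b => ?_⟩
  · change ev ((x ≫ CohCx.toTruncTower E 1) ≫ CohCx.truncTowerMap E 0) =
      ev ((x' ≫ CohCx.toTruncTower E 1) ≫ CohCx.truncTowerMap E 0)
    rw [key, key]
    exact congrArg (· ≫ _) hxx'
  · obtain ⟨x, hx⟩ := hb.2 (b ≫ (homologyFunctor _ 0).map (CohCx.toTruncTower E 0))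
    change ev ((x ≫ CohCx.toTruncTower E 1) ≫ CohCx.truncTowerMap E 0) = _ at hx
    rw [key, cancel_mono] at hx
    exact ⟨x, hx⟩

end Groth.Agent.DerComp18
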