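import Groth.Agent.DerComp18.Local
import Mathlib.RingTheory.Finiteness.Basic
import Mathlib.RingTheory.Noetherian.Basic

/-!
Global sections on a site with a terminal object.
-/

universe u

open CategoryTheory CategoryTheory.Limits Opposite

set_option autoImplicit false

namespace Groth.Agent.DerComp18

open Groth.Agent.Mod48

variable {C : Type u} [SmallCategory C] {J : GrothendieckTopology C} {O : Sheaf J CommRingCat.{u}}
  {T : C} (hT : IsTerminal T)

variable (O) in
/-- Global sections of `O` are sections over the terminal object. -/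
noncomputable def gsecEquiv : DerComp.GSec O ≃+* O.obj.obj (op T) where
  toFun s := s.1 T
  invFun f := ⟨fun V => (O.obj.map (hT.from V).op).hom f, fun U V g => by
    rw [← CommRingCat.comp_apply, ← Functor.map_comp, ← op_comp, hT.hom_ext (g ≫ hT.from U) (hT.from V)]⟩
  left_inv s := Subtype.ext (funext fun V => s.2 (hT.from V))
  right_inv f := by
    change (O.obj.map (hT.from T).op).hom f = f
    rw [hT.hom_ext (hT.from T) (𝟙 T), op_id, O.obj.map_id]
    rfl
  map_mul' s t := rfl
  map_add' s t := rfl

lemma gsecEquiv_apply (s : DerComp.GSec O) : gsecEquiv O hT s = s.1 T := rfl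

include hT in
lemma isNoetherianRing_gsec [IsNoetherianRing (O.obj.obj (op T))] : IsNoetherianRing (DerComp.GSec O) :=
  isNoetherianRing_of_ringEquiv _ (gsecEquiv O hT).symm

variable (M : ModSite.Mod O)

/-- The value at the terminal object of a map out of the unit. -/
noncomputable def unitVal (g : ModSite.unit O ⟶ M) : M.val.obj (op T) :=
  (M.unitHomEquiv g).val (op T)

include hT in
lemma unitVal_bijective : Function.Bijective (unitVal (T := T) M) := by
  have h : Function.Bijective fun s : M.sections => (s.val (op T) : M.val.obj (op T)) := by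
    refine ⟨fun s t hst => PresheafOfModules.sections_ext _ _ fun Y => ?_, fun x => ?_⟩
    · have h1 := s.property (j := op T) (j' := Y) (hT.from Y.unop).op
      have h2 := t.property (j := op T) (j' := Y) (hT.from Y.unop).op
      exact h1.symm.trans (Eq.trans (congrArg _ hst) h2)
    · refine ⟨PresheafOfModules.sectionsMk (fun Y => res (pre M) (hT.from Y.unop).op x) (fun Y Z g => ?_), ?_⟩
      · refine (res_res (pre M) (hT.from Y.unop).op g x).trans ?_
        rw [show (hT.from Y.unop).op ≫ g = (hT.from Z.unop).op from
          Quiver.Hom.unop_inj (hT.hom_ext _ _)]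
      · change res (pre M) (hT.from T).op x = x
        rw [show (hT.from T).op = 𝟙 (op T) from Quiver.Hom.unop_inj (hT.hom_ext _ _)]
        change (pre M).map (𝟙 (op T)) x = x
        first | (simp; rfl) | simp
  exact h.comp M.unitHomEquiv.bijective

lemma unitVal_comp {N : ModSite.Mod O} (g : ModSite.unit O ⟶ M) (φ : M ⟶ N) :
    unitVal (T := T) N (g ≫ φ) = (fgt.map φ).app (op T) (unitVal M g) := by
  rw [unitVal, SheafOfModules.unitHomEquiv_comp_apply]
  rfl

lemma unitVal_add (g g' : ModSite.unit O ⟶ M) :
    unitVal (T := T) M (g + g') = unitVal M g + unitVal M g' := rfl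

lemma unitVal_smul (s : DerComp.GSec O) (g : ModSite.unit O ⟶ M) :
    unitVal (T := T) M (s • g) = (DerComp.GSec.val' s (op T)) • unitVal (T := T) M g := by
  have h : s • g = g ≫ DerComp.smulEnd s M := DerComp.smulEnd_comm s g
  rw [h, unitVal_comp]
  rfl

include hT in
/-- Maps out of the unit into a module with finitely generated sections form a finite module. -/
theorem finite_hom_unit (h : Module.Finite ((ModSite.ringSh O).obj.obj (op T)) (M.val.obj (op T))) :
    Module.Finite (DerComp.GSec O) (ModSite.unit O ⟶ M) := by
  obtain ⟨n, x, hx⟩ := Module.Finite.exists_fin (R := (ModSite.ringSh O).obj.obj (op T)) (M := M.val.obj (op T))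
  choose g hg using fun i => (unitVal_bijective hT M).2 (x i)
  refine Module.Finite.of_fg_top ⟨(Set.finite_range g).toFinset, ?_⟩
  rw [Set.Finite.coe_toFinset, eq_top_iff]
  rintro y -
  have key : ∀ z ∈ Submodule.span ((ModSite.ringSh O).obj.obj (op T)) (Set.range x),
      ∃ w ∈ Submodule.span (DerComp.GSec O) (Set.range g), unitVal (T := T) M w = z := by
    intro z hz
    induction hz using Submodule.span_induction with
    | mem z hz =>
      obtain ⟨i, rfl⟩ := hz
      exact ⟨g i, Submodule.subset_span ⟨i, rfl⟩, hg i⟩
    | zero => exact ⟨0, zero_mem _, rfl⟩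
    | add a b _ _ ha hb =>
      obtain ⟨v, hv, rfl⟩ := ha
      obtain ⟨w, hw, rfl⟩ := hb
      exact ⟨v + w, add_mem hv hw, unitVal_add M v w⟩
    | smul r a _ ha =>
      obtain ⟨v, hv, rfl⟩ := ha
      refine ⟨(gsecEquiv O hT).symm r • v, Submodule.smul_mem _ _ hv, ?_⟩
      rw [unitVal_smul]
      exact congrArg (· • unitVal (T := T) M v) ((gsecEquiv O hT).apply_symm_apply r)
  obtain ⟨w, hw, hwy⟩ := key (unitVal M y) (hx ▸ Submodule.mem_top)
  exact (unitVal_bijective hT M).1 hwy ▸ hw

end Groth.Agent.DerComp18
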