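import Groth.Prelude.Def_DCoh2
import Groth.Agent.DerComp18.EvBij
import Groth.Agent.DerComp18.TermSec
import Groth.Agent.Mod48.ModVanish
import Groth.Agent.Coh69.AffVanish

/-!
Cohomology over affine opens of objects with quasi-coherent cohomology sheaves.
-/

universe u

open CategoryTheory CategoryTheory.Limits Opposite DerivedCategory AlgebraicGeometry TopologicalSpace

attribute [local instance] HasDerivedCategory.standard

set_option autoImplicit false
set_option synthInstance.maxHeartbeats 200000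

namespace Groth.Agent.DerComp18

open Groth.Agent.Mod48 Groth.Agent.Mod48.LocGen

variable {X : Scheme.{u}}

lemma vanishAt_affine {V : X.Opens} (hV : IsAffineOpen V) {F : ModSite.Mod X.sheaf}
    (hF : Coh.IsQCoh (X := X) F) {k : ℤ} (hk : k ≠ 0) : VanishAt (ModSite.freeOn X.sheaf V) F k := by
  rcases lt_or_gt_of_ne hk with h | h
  · exact vanishAt_of_neg _ _ h
  obtain ⟨k', rfl⟩ : ∃ k' : ℕ, k = ((k' + 1 : ℕ) : ℤ) := ⟨(k - 1).toNat, by omega⟩
  haveI := hF
  exact vanishAt_of_subsingleton_hu (k' + 1) (Coh69.qcoh_subsingleton_HE (X := X) F hV k')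

lemma affine_cover (U : X.Opens) : ∃ (ι : Type u) (Y : ι → X.Opens) (g : ∀ i, Y i ⟶ U),
    Sieve.ofArrows Y g ∈ Opens.grothendieckTopology X U ∧ ∀ i, Y i ∈ {V : X.Opens | IsAffineOpen V} := by
  refine ⟨{V : X.Opens // IsAffineOpen V ∧ V ≤ U}, fun V => V.1, fun V => homOfLE V.2.2, fun x hx => ?_,
    fun V => V.2.1⟩
  obtain ⟨V, hV, hxV, hVU⟩ := exists_isAffineOpen_mem_and_subset (U := U) hx
  exact ⟨V, homOfLE hVU, Sieve.ofArrows_mk _ _ (⟨V, hV, hVU⟩ : {V : X.Opens // IsAffineOpen V ∧ V ≤ U}), hxV⟩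

/-- Sections over an affine open of a complex with quasi-coherent cohomology. -/
theorem ev_bijective_affine {V : X.Opens} (hV : IsAffineOpen V) (E : DerivedCategory (ModSite.Mod X.sheaf))
    (hE : DCoh.IsQCohD (X := X) E) :
    Function.Bijective fun x : Pd (ModSite.freeOn X.sheaf V) 0 ⟶ E => ev x :=
  ev_bijective_of_vanish (modGen X.sheaf) {V | IsAffineOpen V} affine_cover
    (fun _ _ T hT => Mod48.exists_refinement _ affine_cover T hT) E
    (fun W hW q k hk => vanishAt_affine hW (hE q) hk.ne') (fun q k hk => vanishAt_affine hV (hE q) hk.ne')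

lemma subsingleton_hom_single {V : X.Opens} (hV : IsAffineOpen V) {F : ModSite.Mod X.sheaf}
    (hF : Coh.IsQCoh (X := X) F) {p : ℤ} (hp : p ≠ 0) :
    Subsingleton (SiteCmp.inD X.sheaf (ModSite.freeOn X.sheaf V) ⟶ (SiteCmp.inD X.sheaf F)⟦p⟧) := by
  refine subsingleton_of_forall_eq 0 fun f => ?_
  let e : (SiteCmp.inD X.sheaf F)⟦p⟧ ≅ (singleFunctor (ModSite.Mod X.sheaf) (-p)).obj F :=
    ((singleFunctors (ModSite.Mod X.sheaf)).shiftIso p (-p) 0 (by omega)).app F
  have h : f ≫ e.hom = 0 := vanishAt_affine hV hF hp 0 (-p) (by omega) _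
  exact (e.homToEquiv).injective (h.trans (Limits.zero_comp (f := e.hom)).symm)

variable (X) in
/-- The structure module is `j_! O_X`. -/
noncomputable def unitIsoFreeOnTop : ModSite.freeOn X.sheaf ⊤ ≅ ModSite.unit X.sheaf :=
  let u := (freeOnEquiv (O := X.sheaf) ⊤ (ModSite.unit X.sheaf)).symm
    (unitVal (T := (⊤ : X.Opens)) (ModSite.unit X.sheaf) (𝟙 _))
  have h : ∀ (F : ModSite.Mod X.sheaf) (g : ModSite.unit X.sheaf ⟶ F),
      freeOnEquiv ⊤ F (u ≫ g) = unitVal (T := (⊤ : X.Opens)) F g := fun F g => by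
    rw [freeOnEquiv_comp, Equiv.apply_symm_apply, ← unitVal_comp, Category.id_comp]
  have hb : ∀ F : ModSite.Mod X.sheaf, Function.Bijective fun g : ModSite.unit X.sheaf ⟶ F => u ≫ g := fun F =>
    (Function.Bijective.of_comp_iff' (freeOnEquiv (⊤ : X.Opens) F).bijective _).1 (by
      refine Eq.mpr ?_ (unitVal_bijective (isTerminalTop (α := X.Opens)) F)
      exact congrArg Function.Bijective (funext fun g => h F g))
  haveI : IsIso u := isIso_of_coyoneda_map_bijective u hb
  asIso u

end Groth.Agent.DerComp18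

namespace Groth.Agent.DerComp18

open Groth.Agent.Mod48 Groth.Agent.Mod48.LocGen

variable {C : Type u} [SmallCategory C] {J : GrothendieckTopology C} {O : Sheaf J CommRingCat.{u}}

/-- The cohomology class, linearly in global sections. -/
noncomputable def evLin (E : DerivedCategory (ModSite.Mod O)) :
    (Pd (ModSite.unit O) 0 ⟶ E) →ₗ[DerComp.GSec O]
      (ModSite.unit O ⟶ (homologyFunctor (ModSite.Mod O) 0).obj E) where
  toFun x := ev x
  map_add' x y := ev_add x y
  map_smul' s x := by
    have h : s • x = Pm (DerComp.smulEnd s (ModSite.unit O)) 0 ≫ x := by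
      rw [Pm_smulEnd_eq, Linear.smul_comp, Category.id_comp]
    rw [h, ev_precomp]
    rfl

variable {X : Scheme.{u}}

/-- On an affine scheme, global classes of an object with quasi-coherent cohomology. -/
theorem evLin_bijective [IsAffine X] (E : DerivedCategory (ModSite.Mod X.sheaf))
    (hE : DCoh.IsQCohD (X := X) E) : Function.Bijective (evLin E) :=
  ev_bijective_of_vanish (modGen X.sheaf) {V | IsAffineOpen V} affine_cover
    (fun _ _ T hT => Mod48.exists_refinement _ affine_cover T hT) E
    (fun W hW q k hk => vanishAt_affine hW (hE q) hk.ne')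
    (fun q k hk => vanishAt_of_iso (unitIsoFreeOnTop X) (vanishAt_affine (isAffineOpen_top X) (hE q) hk.ne'))

end Groth.Agent.DerComp18
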