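import Groth.Agent.Mod48.KFlatResolution

/-!
Resolutions inside a class of complexes closed under sums, cones and sequential colimits.
-/

universe u

open CategoryTheory CategoryTheory.Limits Opposite HomologicalComplex

set_option autoImplicit false

namespace Groth.Agent.DerComp18

open Groth.Agent.Mod48

variable {C : Type u} [SmallCategory C] {J : GrothendieckTopology C} {O : Sheaf J CommRingCat.{u}}

/-- A class of complexes large enough to contain resolutions, `B` providing the terms. -/
structure IsResClass (B : ModSite.Mod O → Prop) (N : CC O → Prop) : Prop where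
  cover : ∀ F : ModSite.Mod O, ∃ (P : ModSite.Mod O) (π : P ⟶ F), B P ∧ Epi π
  zd : ∀ W : ℤ → ModSite.Mod O, (∀ n, B (W n)) → N (Mod48.zd W)
  cone : ∀ (W : ℤ → ModSite.Mod O) {P : CC O} (q : Mod48.zd W ⟶ P), (∀ n, B (W n)) → N P →
    N (CochainComplex.mappingCone q)
  biprod : ∀ {P P' : CC O}, N P → N P' → N (P ⊞ P')
  colim : ∀ D : ℕ ⥤ CC O, (∀ k, N (D.obj k)) → N (colimit D)

section Resolution

variable (G : CC O) {B : ModSite.Mod O → Prop} (N : CC O → Prop) (hN : IsResClass B N)

/-- An approximation of `G` by a K-flat complex, with flat terms if `Q` holds. -/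
structure Stage where
  /-- The complex. -/
  P : CC O
  /-- The map to `G`. -/
  f : P ⟶ G
  cls : N P
  epi : ∀ n, Epi (f.f n)
  epiH : ∀ n, Epi (HomologicalComplex.homologyMap f n)

variable {N}

include hN in
lemma exists_stage : Nonempty (Stage G N) := by
  choose W e hW he using fun n : ℤ => hN.cover (G.cycles n)
  choose V ε hV hε using fun n : ℤ => hN.cover (G.X (n - 1))
  let g : zd W ⟶ G := zdDesc W (fun n => e n ≫ G.iCycles n)
    fun n m => by rw [Category.assoc, HomologicalComplex.iCycles_d, comp_zero]
  let α : CochainComplex.HomComplex.Cochain (zd V) G (-1) :=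
    CochainComplex.HomComplex.Cochain.mk fun p q hpq =>
      ε p ≫ eqToHom (congrArg G.X (show p - 1 = q by omega))
  let β : zd V ⟶ G := zdDesc V (fun n => ε n ≫ G.d (n - 1) n)
    fun n m => by rw [Category.assoc, HomologicalComplex.d_comp_d, comp_zero]
  let t : CochainComplex.mappingCone (𝟙 (zd V)) ⟶ G :=
    CochainComplex.mappingCone.desc (𝟙 (zd V)) α β (CochainComplex.HomComplex.Cochain.ext₀ _ _ fun p => by
      rw [zd_δ_v, CochainComplex.HomComplex.Cochain.ofHom_v, Category.id_comp]
      exact congrArg (fun t => (ε p ≫ t) ≫ G.d (p - 1) p) (eqToHom_refl _ _) |>.trans (by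
        rw [Category.comp_id]; rfl))
  refine ⟨⟨zd W ⊞ CochainComplex.mappingCone (𝟙 (zd V)), biprod.desc g t, ?_, ?_, ?_⟩⟩
  · exact hN.biprod (hN.zd W hW) (hN.cone V _ hV (hN.zd V hV))
  · intro n
    have hn : (CochainComplex.mappingCone.inl (𝟙 (zd V))).v (n + 1) n (by omega) ≫
        (biprod.inr : _ ⟶ zd W ⊞ CochainComplex.mappingCone (𝟙 (zd V))).f n ≫ (biprod.desc g t).f n =
        ε (n + 1) ≫ eqToHom (congrArg G.X (show n + 1 - 1 = n by omega)) := by
      rw [← HomologicalComplex.comp_f, biprod.inr_desc, CochainComplex.mappingCone.inl_v_desc_f]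
      exact CochainComplex.HomComplex.Cochain.mk_v _ _ _ _
    rw [← Category.assoc] at hn
    have : Epi (ε (n + 1) ≫ eqToHom (congrArg G.X (show n + 1 - 1 = n by omega))) :=
      have := hε (n + 1)
      epi_comp' (hε (n + 1)) inferInstance
    exact epi_of_epi_fac (h := ε (n + 1) ≫ eqToHom (congrArg G.X (show n + 1 - 1 = n by omega))) hn
  · intro n
    have hg : Epi (HomologicalComplex.homologyMap g n) := by
      have hc : HomologicalComplex.cyclesMap g n = (zd W).iCycles n ≫ e n :=
        (cancel_mono (G.iCycles n)).1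
          ((HomologicalComplex.cyclesMap_i g n).trans (Category.assoc _ _ _).symm)
      have h1 := (zd W).isIso_iCycles n _ rfl rfl
      have : Epi (HomologicalComplex.cyclesMap g n) := hc ▸ epi_comp' inferInstance (he n)
      have : Epi ((zd W).homologyπ n ≫ HomologicalComplex.homologyMap g n) := by
        rw [HomologicalComplex.homologyπ_naturality]
        infer_instance
      exact epi_of_epi ((zd W).homologyπ n) _
    exact epi_of_epi_fac (f := HomologicalComplex.homologyMap (biprod.inl : zd W ⟶ _) n)
      (h := HomologicalComplex.homologyMap g n)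
      (by rw [← HomologicalComplex.homologyMap_comp, biprod.inl_desc])

include hN in
lemma exists_next (S : Stage G N) : ∃ (T : Stage G N) (i : S.P ⟶ T.P), i ≫ T.f = S.f ∧
    ∀ n, kernel.ι (HomologicalComplex.homologyMap S.f n) ≫ HomologicalComplex.homologyMap i n = 0 := by
  choose W e hW he using fun n : ℤ =>
    hN.cover (pullback (S.P.iCycles n ≫ S.f.f n) (G.d (n - 1) n))
  let a : ∀ n, W n ⟶ S.P.cycles n := fun n => e n ≫ pullback.fst _ _
  let b : ∀ n, W n ⟶ G.X (n - 1) := fun n => e n ≫ pullback.snd _ _
  have hab : ∀ n, a n ≫ S.P.iCycles n ≫ S.f.f n = b n ≫ G.d (n - 1) n := fun n => by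
    simp only [a, b, Category.assoc, pullback.condition]
  let q : zd W ⟶ S.P := zdDesc W (fun n => a n ≫ S.P.iCycles n)
    fun n m => by rw [Category.assoc, HomologicalComplex.iCycles_d, comp_zero]
  let α : CochainComplex.HomComplex.Cochain (zd W) G (-1) :=
    CochainComplex.HomComplex.Cochain.mk fun p r hpr =>
      b p ≫ eqToHom (congrArg G.X (show p - 1 = r by omega))
  let f' : CochainComplex.mappingCone q ⟶ G :=
    CochainComplex.mappingCone.desc q α S.f (CochainComplex.HomComplex.Cochain.ext₀ _ _ fun p => by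
      rw [zd_δ_v, CochainComplex.HomComplex.Cochain.ofHom_v, HomologicalComplex.comp_f]
      exact (congrArg (fun t => (b p ≫ t) ≫ G.d (p - 1) p) (eqToHom_refl _ _)).trans
        ((congrArg (· ≫ _) (Category.comp_id _)).trans ((hab p).symm.trans (Category.assoc _ _ _).symm)))
  let i := CochainComplex.mappingCone.inr q
  have hi : i ≫ f' = S.f := CochainComplex.mappingCone.inr_desc _ _ _ _
  refine ⟨⟨CochainComplex.mappingCone q, f', hN.cone W q hW S.cls, fun n => ?_, fun n => ?_⟩,
    i, hi, fun n => ?_⟩
  · have := S.epi n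
    exact epi_of_epi_fac (f := i.f n) (h := S.f.f n) (by rw [← HomologicalComplex.comp_f, hi])
  · have := S.epiH n
    exact epi_of_epi_fac (f := HomologicalComplex.homologyMap i n) (h := HomologicalComplex.homologyMap S.f n)
      (by rw [← HomologicalComplex.homologyMap_comp, hi])
  · have hqi : HomologicalComplex.homologyMap q n ≫ HomologicalComplex.homologyMap i n = 0 := by
      let H : Homotopy (q ≫ i) 0 := (CochainComplex.HomComplex.Cochain.equivHomotopy _ _).symm
        ⟨CochainComplex.mappingCone.inl q, by simp [i]⟩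
      rw [← HomologicalComplex.homologyMap_comp, H.homologyMap_eq, HomologicalComplex.homologyMap_zero]
    obtain ⟨A₁, π₁, hπ₁, z, hz, hzk⟩ := S.P.eq_liftCycles_homologyπ_up_to_refinements
      (kernel.ι (HomologicalComplex.homologyMap S.f n)) (n + 1) (CochainComplex.next ℤ n)
    have h0 : G.liftCycles (z ≫ S.f.f n) (n + 1) (CochainComplex.next ℤ n)
        (by rw [Category.assoc, S.f.comm, reassoc_of% hz, zero_comp]) ≫ G.homologyπ n = 0 := by
      rw [← HomologicalComplex.liftCycles_comp_cyclesMap (hk := hz), Category.assoc,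
        ← HomologicalComplex.homologyπ_naturality, ← reassoc_of% hzk, kernel.condition, comp_zero]
    obtain ⟨A₂, π₂, hπ₂, y, hy⟩ := (G.liftCycles_comp_homologyπ_eq_zero_iff_up_to_refinements (n - 1) n (n + 1)
      (CochainComplex.prev ℤ n) (CochainComplex.next ℤ n) _ _).1 h0
    let x : A₂ ⟶ pullback (S.P.iCycles n ≫ S.f.f n) (G.d (n - 1) n) :=
      pullback.lift (π₂ ≫ S.P.liftCycles z (n + 1) (CochainComplex.next ℤ n) hz) y
        (by rw [Category.assoc, HomologicalComplex.liftCycles_i_assoc, hy])
    have := he n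
    obtain ⟨A₃, π₃, hπ₃, w, hw⟩ := surjective_up_to_refinements_of_epi (e n) x
    rw [← cancel_epi (π₃ ≫ π₂ ≫ π₁), comp_zero]
    simp only [Category.assoc]
    rw [reassoc_of% hzk]
    have hw' : π₃ ≫ π₂ ≫ S.P.liftCycles z (n + 1) (CochainComplex.next ℤ n) hz =
        (zd W).liftCycles w (n + 1) (CochainComplex.next ℤ n) comp_zero ≫ cyclesMap q n := by
      rw [← cancel_mono (S.P.iCycles n), HomologicalComplex.liftCycles_comp_cyclesMap,
        HomologicalComplex.liftCycles_i]
      change _ = w ≫ (e n ≫ pullback.fst _ _) ≫ S.P.iCycles n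
      rw [← Category.assoc w, ← Category.assoc w, ← hw]
      simp only [Category.assoc, x, pullback.lift_fst_assoc, HomologicalComplex.liftCycles_i]
    rw [reassoc_of% hw', ← HomologicalComplex.homologyπ_naturality_assoc, hqi, comp_zero, comp_zero]

include hN in
/-- Every complex has a resolution in the class. -/
theorem exists_resolution_class : ∃ (P : CC O) (q : P ⟶ G), N P ∧ QuasiIso q := by
  choose next i hi hkill using exists_next G hN
  let S : ℕ → Stage G N := fun n => Nat.rec (exists_stage G hN).some (fun _ T => next T) n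
  let D : ℕ ⥤ CC O := Functor.ofSequence (X := fun n => (S n).P) fun n => i (S n)
  let η : D ⟶ (Functor.const ℕ).obj G := NatTrans.ofSequence (fun n => (S n).f) fun n => by
    rw [Functor.ofSequence_map_homOfLE_succ]
    exact (hi (S n)).trans (Category.comp_id _).symm
  refine ⟨colimit D, colimit.desc D (Cocone.mk G η), hN.colim D fun k => (S k).cls, ?_⟩
  refine quasiIso_colimit_desc D G η (fun k => (S k).epi) (fun k => (S k).epiH) fun k n => ?_
  rw [show D.map (homOfLE (Nat.le_add_right k 1)) = i (S k) from Functor.ofSequence_map_homOfLE_succ _ k]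
  exact hkill (S k) n

end Resolution

end Groth.Agent.DerComp18
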