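import Groth.Agent.Mod48.Exact
import Groth.Agent.Mod48.Flat
import Groth.Agent.SiteCoh.Over
import Groth.Prelude.Def_ModSite

/-! Restriction to `C/U` is exact. -/

universe u

open CategoryTheory CategoryTheory.Limits Opposite

namespace Groth.Agent.DerComp18

open Groth.Agent.Mod48

variable {C : Type u} [SmallCategory C] {J : GrothendieckTopology C} {O : Sheaf J CommRingCat.{u}}

/-- Restriction to `C/X` is exact. -/
lemma restr_exact (X : C) :
    PreservesFiniteLimits (ModSite.restr O X) ∧ PreservesFiniteColimits (ModSite.restr O X) := by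
  refine ⟨⟨fun I _ _ => (ModSite.extZeroAdj O X).rightAdjoint_preservesLimits.preservesLimitsOfShape⟩, ?_⟩
  let T := SheafOfModules.toSheaf.{u} (ModSite.ringSh O)
  let T' := SheafOfModules.toSheaf.{u} (ModSite.ringSh (O.over X))
  have : PreservesFiniteColimits T := (toSheaf_preservesColimits (O := O)).preservesFiniteColimits
  have hT' : PreservesFiniteColimits T' :=
    (toSheaf_preservesColimits (O := O.over X)).preservesFiniteColimits
  have : PreservesFiniteColimits (T ⋙ J.overPullback AddCommGrpCat.{u} X) := comp_preservesFiniteColimits _ _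
  have e : ModSite.restr O X ⋙ T' ≅ T ⋙ J.overPullback AddCommGrpCat.{u} X :=
    NatIso.ofComponents (fun _ => Iso.refl _)
  have : PreservesFiniteColimits (ModSite.restr O X ⋙ T') := preservesFiniteColimits_of_natIso e.symm
  refine ⟨fun I _ _ => ?_⟩
  have : ReflectsColimitsOfShape I T' := reflectsColimitsOfShape_of_reflectsIsomorphisms
  exact preservesColimitsOfShape_of_reflects_of_preserves _ T'

end Groth.Agent.DerComp18
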