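import Groth.Agent.DerComp18.Away
import Groth.Agent.Mod48.SecQis

/-!
Morphisms out of a test object into the values of a derived functor, computed by sections.
-/

universe w w' v v' u u'

open CategoryTheory Category Limits DerivedCategory HomologicalComplex

set_option autoImplicit false
set_option linter.unusedSectionVars false

namespace Groth.Agent.DerComp18

open Groth.Agent.Mod48 Groth.Agent.Mod48.LocGen

section SecHom

variable {B : Type u} [Category.{v} B] [Abelian B] [HasDerivedCategory.{w} B]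

/-- Maps `X[-m] ⟶ M` in the derived category are the cohomology of the sections of `M` over `X`. -/
def SecHom (X : B) (M : CochainComplex B ℤ) : Prop :=
  ∀ m : ℤ, (∀ y : Pd X m ⟶ Q.obj M, ∃ z : X ⟶ M.cycles m, Q.map (cycleHom z) = y) ∧
    ∀ z : X ⟶ M.cycles m, Q.map (cycleHom z) = 0 → ∃ w : X ⟶ M.X (m - 1), w ≫ M.d (m - 1) m = z ≫ M.iCycles m

omit [HasDerivedCategory B] in
lemma exists_boundary_of_homotopy {X : B} {m : ℤ} {M : CochainComplex B ℤ} (z : X ⟶ M.cycles m)
    (h : Homotopy (cycleHom z) 0) : ∃ w : X ⟶ M.X (m - 1), w ≫ M.d (m - 1) m = z ≫ M.iCycles m := by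
  refine ⟨(singleObjXSelf (ComplexShape.up ℤ) m X).inv ≫ h.hom m (m - 1), ?_⟩
  have := h.comm m
  rw [cycleHom_f, dNext_eq h.hom (show (ComplexShape.up ℤ).Rel m (m + 1) from rfl),
    prevD_eq h.hom (show (ComplexShape.up ℤ).Rel (m - 1) m from sub_add_cancel m 1),
    single_obj_d, zero_comp, zero_add, zero_f, add_zero] at this
  rw [assoc, ← this, Iso.inv_hom_id_assoc]

lemma secHom_of_isKInjective (X : B) (M : CochainComplex B ℤ) [M.IsKInjective] : SecHom X M := fun m => by
  refine ⟨fun y => ?_, fun z hz => ?_⟩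
  · obtain ⟨φ, rfl⟩ := CohDer42.Q_map_surjective_of_isKInjective y
    obtain ⟨z, rfl⟩ := eq_cycleHom φ
    exact ⟨z, rfl⟩
  · obtain ⟨h⟩ := CohDer42.homotopy_of_Q_map_eq (g := 0) (hz.trans (Functor.map_zero _ _ _).symm)
    exact exists_boundary_of_homotopy z h

lemma secHom_of_qis {X : B} {M M' : CochainComplex B ℤ} (s : M ⟶ M') [QuasiIso s] [M'.IsKInjective]
    (hi : SecInj X s) (hs : SecSurj X s) : SecHom X M := fun m => by
  refine ⟨fun y => ?_, fun z hz => ?_⟩
  · obtain ⟨z', hz'⟩ := (secHom_of_isKInjective X M' m).1 (y ≫ Q.map s)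
    obtain ⟨c, hc, b, hb⟩ := hs m (z' ≫ M'.iCycles m) (by rw [assoc, iCycles_d, comp_zero])
    let z := M.liftCycles c (m + 1) (CochainComplex.next ℤ m) hc
    refine ⟨z, ?_⟩
    have hh : Q.map (cycleHom (z ≫ cyclesMap s m - z')) = 0 := by
      rw [Q_map_eq_of_homotopy B (cycleHomHomotopy _ b (by
        rw [hb, Preadditive.sub_comp, assoc, cyclesMap_i, liftCycles_i_assoc])), Functor.map_zero]
    have hadd : cycleHom (z ≫ cyclesMap s m - z') = cycleHom (z ≫ cyclesMap s m) - cycleHom z' := by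
      refine from_single_hom_ext ?_
      simp [cycleHom_f, Preadditive.sub_comp]
    rw [hadd, Functor.map_sub, sub_eq_zero] at hh
    rw [← cancel_mono (Q.map s), ← Functor.map_comp, cycleHom_comp, hh, hz']
  · have h1 : Q.map (cycleHom (z ≫ cyclesMap s m)) = 0 := by
      rw [← cycleHom_comp, Functor.map_comp, hz, zero_comp]
    obtain ⟨w, hw⟩ := (secHom_of_isKInjective X M' m).2 _ h1
    exact hi m (z ≫ M.iCycles m) (by rw [assoc, iCycles_d, comp_zero])
      ⟨w, by rw [hw]; simp only [assoc, cyclesMap_i]⟩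

end SecHom

section Push

variable {A : Type u} [Category.{v} A] [Abelian A] [HasDerivedCategory.{w} A]
  {B : Type u'} [Category.{v'} B] [Abelian B] [HasDerivedCategory.{w'} B] {R : A ⥤ B} [R.Additive]
  (RF : DerivedCategory A ⥤ DerivedCategory B)
  (α : R.mapHomotopyCategory (ComplexShape.up ℤ) ⋙ Qh ⟶ Qh ⋙ RF)

/-- The adjunct of a cycle along a universal arrow. -/
noncomputable def adjCycle {X : B} {Y : A} (η : X ⟶ R.obj Y) {m : ℤ} {M : CochainComplex A ℤ}
    (z : Y ⟶ M.cycles m) : X ⟶ ((R.mapHomologicalComplex (ComplexShape.up ℤ)).obj M).cycles m :=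
  ((R.mapHomologicalComplex (ComplexShape.up ℤ)).obj M).liftCycles (η ≫ R.map (z ≫ M.iCycles m)) (m + 1)
    (CochainComplex.next ℤ m) (by
      change (η ≫ R.map (z ≫ M.iCycles m)) ≫ R.map (M.d m (m + 1)) = 0
      rw [assoc, ← R.map_comp, assoc, iCycles_d, comp_zero, R.map_zero, comp_zero])

omit [HasDerivedCategory A] [HasDerivedCategory B] in
lemma adjCycle_i {X : B} {Y : A} (η : X ⟶ R.obj Y) {m : ℤ} {M : CochainComplex A ℤ} (z : Y ⟶ M.cycles m) :
    adjCycle η z ≫ ((R.mapHomologicalComplex (ComplexShape.up ℤ)).obj M).iCycles m =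
      η ≫ R.map (z ≫ M.iCycles m) :=
  liftCycles_i _ _ _ _ _

/-- The test map `X[-m] ⟶ RF (Y[-m])`. -/
noncomputable def tu {X : B} {Y : A} (η : X ⟶ R.obj Y) (m : ℤ) : Pd X m ⟶ RF.obj (Pd Y m) :=
  Q.map (cycleHom (adjCycle η (idCycle Y m))) ≫ unitQ RF α _

lemma tu_comp {X : B} {Y : A} (η : X ⟶ R.obj Y) {m : ℤ} {M : CochainComplex A ℤ} (z : Y ⟶ M.cycles m) :
    tu RF α η m ≫ RF.map (Q.map (cycleHom z)) = Q.map (cycleHom (adjCycle η z)) ≫ unitQ RF α M := by
  rw [tu, assoc, ← unitQ_naturality, ← assoc, ← Functor.map_comp]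
  congr 2
  refine from_single_hom_ext ?_
  rw [comp_f, cycleHom_f, cycleHom_f, adjCycle_i, adjCycle_i]
  change (_ ≫ η ≫ R.map _) ≫ R.map ((cycleHom z).f m) = _
  simp only [assoc, ← R.map_comp, cycleHom_f]
  simp [idCycle]
  all_goals rfl

lemma tu_natural {X X' : B} {Y Y' : A} (η : X ⟶ R.obj Y) (η' : X' ⟶ R.obj Y') (a : X' ⟶ X) (b : Y' ⟶ Y)
    (h : a ≫ η = η' ≫ R.map b) (m : ℤ) :
    Pm a m ≫ tu RF α η m = tu RF α η' m ≫ RF.map (Pm b m) := by
  have e : (HomologicalComplex.single A (ComplexShape.up ℤ) m).map b = cycleHom (b ≫ idCycle Y m) := by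
    rw [← single_map_cycleHom, cycleHom_idCycle, comp_id]
  rw [Pm, Pm, e, tu_comp, tu, ← assoc, ← Functor.map_comp, single_map_cycleHom]
  congr 3
  rw [← cancel_mono (HomologicalComplex.iCycles _ m), assoc, adjCycle_i, adjCycle_i]
  refine (assoc a η _).symm.trans ((congrArg (· ≫ _) h).trans ((assoc _ _ _).trans ?_))
  refine congrArg (η' ≫ ·) ((R.map_comp _ _).symm.trans (congrArg R.map ?_))
  exact (assoc _ _ _).symm

variable {X : B} {Y : A} (η : X ⟶ R.obj Y) (hη : ∀ T : A, Function.Bijective fun g : Y ⟶ T => η ≫ R.map g)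

include hη in
theorem tu_bijective (hA : EnoughKInj A) (hα : ∀ I : CochainComplex A ℤ, I.IsKInjective →
      IsIso (α.app ((HomotopyCategory.quotient A (ComplexShape.up ℤ)).obj I)))
    (hsec : ∀ I : CochainComplex A ℤ, I.IsKInjective →
      SecHom X ((R.mapHomologicalComplex (ComplexShape.up ℤ)).obj I)) (m : ℤ) (M : DerivedCategory A) :
    Function.Bijective fun x : Pd Y m ⟶ M => tu RF α η m ≫ RF.map x := by
  obtain ⟨I, hI, ⟨e₀⟩⟩ := exists_Qh_iso_kInjective A hA M
  let e : Q.obj I ≅ M := ((quotientCompQhIso A).app I).symm ≪≫ e₀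
  have := isIso_unitQ RF α hα I hI
  have key : ∀ z : Y ⟶ I.cycles m, tu RF α η m ≫ RF.map (Q.map (cycleHom z) ≫ e.hom) =
      Q.map (cycleHom (adjCycle η z)) ≫ unitQ RF α I ≫ RF.map e.hom := fun z => by
    rw [RF.map_comp, ← assoc, tu_comp, assoc]
  refine ⟨fun x x' hx => ?_, fun y => ?_⟩
  · obtain ⟨z, hz⟩ := (secHom_of_isKInjective Y I m).1 (x ≫ e.inv)
    obtain ⟨z', hz'⟩ := (secHom_of_isKInjective Y I m).1 (x' ≫ e.inv)
    have hxz : x = Q.map (cycleHom z) ≫ e.hom := by rw [hz, assoc, e.inv_hom_id, comp_id]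
    have hxz' : x' = Q.map (cycleHom z') ≫ e.hom := by rw [hz', assoc, e.inv_hom_id, comp_id]
    dsimp only at hx
    rw [hxz, hxz', key, key, cancel_mono] at hx
    have hadd : cycleHom (z - z') = cycleHom z - cycleHom z' := by
      refine from_single_hom_ext ?_
      simp [cycleHom_f, Preadditive.sub_comp]
    have hadj : cycleHom (adjCycle η (z - z')) = cycleHom (adjCycle η z) - cycleHom (adjCycle η z') := by
      refine from_single_hom_ext ?_
      simp [cycleHom_f, adjCycle_i, Preadditive.sub_comp]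
      exact Preadditive.comp_sub _ _ _
    obtain ⟨w, hw⟩ := (hsec I hI m).2 (adjCycle η (z - z')) (by rw [hadj, Functor.map_sub, hx, sub_self])
    obtain ⟨w', rfl⟩ := (hη _).2 w
    have hb : w' ≫ I.d (m - 1) m = (z - z') ≫ I.iCycles m := (hη _).1 (by
      dsimp only
      rw [R.map_comp, ← assoc]
      exact hw.trans (adjCycle_i η _))
    rw [hxz, hxz', ← sub_eq_zero, ← Preadditive.sub_comp, ← Functor.map_sub, ← hadd,
      Q_map_eq_of_homotopy A (cycleHomHomotopy _ _ hb), Functor.map_zero, zero_comp]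
  · obtain ⟨z₁, hz₁⟩ := (hsec I hI m).1 (y ≫ inv (unitQ RF α I ≫ RF.map e.hom))
    obtain ⟨c, hc⟩ := (hη _).2 (z₁ ≫ ((R.mapHomologicalComplex (ComplexShape.up ℤ)).obj I).iCycles m)
    dsimp only at hc
    let z := I.liftCycles c (m + 1) (CochainComplex.next ℤ m) ((hη _).1 (by
      dsimp only
      rw [R.map_comp, ← assoc, hc, assoc, R.map_zero, comp_zero]
      exact (congrArg (z₁ ≫ ·) (iCycles_d _ _ _)).trans comp_zero))
    refine ⟨Q.map (cycleHom z) ≫ e.hom, ?_⟩
    have hz : adjCycle η z = z₁ := by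
      rw [← cancel_mono (HomologicalComplex.iCycles _ m), adjCycle_i, liftCycles_i]
      exact hc
    dsimp only
    rw [key, hz, hz₁, assoc, IsIso.inv_hom_id, comp_id]

variable [RF.Additive]

/-- The equivalence given by the test map. -/
noncomputable def tuEquiv (hA : EnoughKInj A) (hα : ∀ I : CochainComplex A ℤ, I.IsKInjective →
      IsIso (α.app ((HomotopyCategory.quotient A (ComplexShape.up ℤ)).obj I)))
    (hsec : ∀ I : CochainComplex A ℤ, I.IsKInjective →
      SecHom X ((R.mapHomologicalComplex (ComplexShape.up ℤ)).obj I)) (m : ℤ) (M : DerivedCategory A) :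
    (Pd Y m ⟶ M) ≃+ (Pd X m ⟶ RF.obj M) :=
  AddEquiv.ofBijective (AddMonoidHom.mk' (fun x => tu RF α η m ≫ RF.map x)
    fun x x' => by rw [Functor.map_add, Preadditive.comp_add]) (tu_bijective RF α η hη hA hα hsec m M)

include hη in
theorem compEnd_push (hA : EnoughKInj A) (hα : ∀ I : CochainComplex A ℤ, I.IsKInjective →
      IsIso (α.app ((HomotopyCategory.quotient A (ComplexShape.up ℤ)).obj I)))
    (hsec : ∀ I : CochainComplex A ℤ, I.IsKInjective →
      SecHom X ((R.mapHomologicalComplex (ComplexShape.up ℤ)).obj I))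
    (a : X ⟶ X) (b : Y ⟶ Y) (h : a ≫ η = η ≫ R.map b) (m : ℤ) (M : DerivedCategory A) :
    CompEnd (Pm b m) M ↔ CompEnd (Pm a m) (RF.obj M) :=
  compEnd_congr _ _ (tuEquiv RF α η hη hA hα hsec m M) fun x => by
    change tu RF α η m ≫ RF.map (Pm b m ≫ x) = Pm a m ≫ tu RF α η m ≫ RF.map x
    rw [← assoc (Pm a m), tu_natural RF α η η a b h, RF.map_comp, assoc]

end Push

end Groth.Agent.DerComp18
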