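import Groth.Agent.DerComp18.Crit
import Groth.Agent.DerComp18.SecHom
import Groth.Agent.Mod48.ModGen
import Groth.Agent.DerComp18.RestrExact
import Groth.Agent.Mod48.ModPush
import Groth.Agent.Fib44.KInjAdj
import Groth.Agent.CohDer42.DerProd
import Mathlib.Algebra.Homology.DerivedCategory.Linear

/-!
Completeness of cohomology groups is local on the site.
-/

universe u

open CategoryTheory CategoryTheory.Limits Opposite DerivedCategory

attribute [local instance] HasDerivedCategory.standard

set_option autoImplicit false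

namespace Groth.Agent.DerComp18

open Groth.Agent.Mod48 Groth.Agent.Mod48.LocGen

variable {C : Type u} [SmallCategory C] {J : GrothendieckTopology C} {O : Sheaf J CommRingCat.{u}}

/-- Multiplication by a global section on `j_! O_W`. -/
lemma smulEnd_freeOn (s : DerComp.GSec O) (W : C) :
    DerComp.smulEnd s (ModSite.freeOn O W) = fe O W (s.1 W) := by
  apply (freeOnEquiv W _).injective
  rw [← Category.comp_id (DerComp.smulEnd s (ModSite.freeOn O W)), DerComp.smulEnd_comm,
    ← Category.comp_id (fe O W (s.1 W)), freeOnEquiv_fe, freeOnEquiv_comp]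
  rfl

/-- Multiplication by a global section on a test object is multiplication on the target. -/
lemma Pm_smulEnd_comp (s : DerComp.GSec O) (X : ModSite.Mod O) (m : ℤ) {T : DerivedCategory (ModSite.Mod O)}
    (x : Pd X m ⟶ T) : Pm (DerComp.smulEnd s X) m ≫ x = x ≫ (s • 𝟙 T) := by
  have h : DerComp.smulEnd s X = s • 𝟙 X := ((DerComp.smul_def s (𝟙 X)).trans (Category.comp_id _)).symm
  rw [h]
  change (singleFunctor (ModSite.Mod O) m).map (s • 𝟙 X) ≫ x = _
  rw [Functor.map_smul, CategoryTheory.Functor.map_id, Linear.smul_comp, Linear.comp_smul, Category.comp_id]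
  exact congrArg (s • ·) (Category.id_comp x)

/-- Multiplication by a global section on a test object. -/
lemma Pm_smulEnd_eq (s : DerComp.GSec O) (X : ModSite.Mod O) (m : ℤ) :
    Pm (DerComp.smulEnd s X) m = s • 𝟙 (Pd X m) := by
  have h : DerComp.smulEnd s X = s • 𝟙 X := ((DerComp.smul_def s (𝟙 X)).trans (Category.comp_id _)).symm
  rw [h]
  change (singleFunctor (ModSite.Mod O) m).map (s • 𝟙 X) = _
  rw [Functor.map_smul, CategoryTheory.Functor.map_id]
  rfl

/-- Completeness for a global section is local on the site: no maps out of anything. -/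
theorem compEnd_smul_of_local (s : DerComp.GSec O) (T : DerivedCategory (ModSite.Mod O))
    (hcov : ∀ U : C, ∃ S ∈ J U, ∀ ⦃V : C⦄ (g : V ⟶ U), S g → ∀ m : ℤ, CompEnd (Pm (fe O V (s.1 V)) m) T)
    (X : DerivedCategory (ModSite.Mod O)) : CompEnd (s • 𝟙 X) T := by
  have : IsGrothendieckAbelian.{u} (ModSite.Mod O) :=
    Coh69.sheafOfModules_isGrothendieckAbelian (ModSite.ringSh O)
  have hprod : HasProduct fun _ : ℕ => T :=
    CohDer42.hasProduct_of_isKInjective (fun _ : ℕ => T) (fun _ => by
      obtain ⟨I, φ, hI, hφ, -, -⟩ := CohDer42.exists_kinjective_resolution (Q.objPreimage T)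
      exact ⟨I, hI, ⟨(Q.objObjPreimageIso T).symm ≪≫ asIso (Q.map φ)⟩⟩) (fun I => inferInstance)
  let Ψ : (∏ᶜ fun _ : ℕ => T) ⟶ ∏ᶜ fun _ : ℕ => T :=
    Pi.lift fun n => Pi.π (fun _ : ℕ => T) n - Pi.π (fun _ : ℕ => T) (n + 1) ≫ (s • 𝟙 T)
  -- maps into the product
  let E : ∀ (X : DerivedCategory (ModSite.Mod O)), (X ⟶ ∏ᶜ fun _ : ℕ => T) ≃ (ℕ → (X ⟶ T)) := fun X =>
    { toFun := fun g n => g ≫ Pi.π _ n
      invFun := fun x => Pi.lift x
      left_inv := fun g => Pi.hom_ext _ _ fun n => Pi.lift_π _ _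
      right_inv := fun x => funext fun n => Pi.lift_π _ _ }
  have hE : ∀ (X : DerivedCategory (ModSite.Mod O)), CompEnd (s • 𝟙 X) T ↔
      Function.Bijective fun g : X ⟶ ∏ᶜ fun _ : ℕ => T => g ≫ Ψ := fun X => by
    have key : Phi (s • 𝟙 X) T ∘ E X = E X ∘ fun g => g ≫ Ψ := by
      funext g n
      change g ≫ Pi.π _ n - (s • 𝟙 X) ≫ g ≫ Pi.π _ (n + 1) = (g ≫ Ψ) ≫ Pi.π _ n
      rw [Category.assoc g Ψ, Pi.lift_π, Preadditive.comp_sub, Linear.smul_comp, Category.id_comp,
        Linear.comp_smul, Category.comp_id, Linear.comp_smul]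
    rw [CompEnd, ← Function.Bijective.of_comp_iff _ (E X).bijective, key,
      Function.Bijective.of_comp_iff' (E X).bijective]
  suffices IsIso Ψ by
    refine (hE X).2 ⟨fun g g' h => ?_, fun g => ⟨g ≫ inv Ψ, by simp⟩⟩
    exact (cancel_mono Ψ).1 h
  rw [DerivedCategory.isIso_iff]
  intro k
  refine ((modGen O).homologyPres k).isIso_map Ψ fun U => ?_
  obtain ⟨S, hS, hS'⟩ := hcov U
  refine ⟨Σ V : C, {g : V ⟶ U // S g}, fun i => i.1, fun i => i.2.1, ?_, fun i => ⟨_, Ψ, 𝟙 _,
    Category.comp_id _, inferInstance, fun R hR => ?_⟩⟩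
  · refine J.superset_covering (fun V g hg => ?_) hS
    exact Sieve.ofArrows_mk (fun i : Σ V : C, {g : V ⟶ U // S g} => i.1) (fun i => i.2.1) ⟨V, g, hg⟩
  · refine ⟨Σ V : C, {g : V ⟶ i.1 // R g}, fun k' => k'.1, fun k' => k'.2.1, fun k' => k'.2.2, ?_, fun k' => ?_⟩
    · refine J.superset_covering (fun V g hg => ?_) hR
      exact Sieve.ofArrows_mk (fun k' : Σ V : C, {g : V ⟶ i.1 // R g} => k'.1) (fun k' => k'.2.1) ⟨V, g, hg⟩
    · refine (hE (Pd (ModSite.freeOn O k'.1) k)).1 ?_
      rw [← Pm_smulEnd_eq, smulEnd_freeOn]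
      exact hS' (k'.2.1 ≫ i.2.1) (S.downward_closed i.2.2 _) k

/-- Completeness for a global section is local on the site. -/
theorem compEnd_of_local (s : DerComp.GSec O) (T : DerivedCategory (ModSite.Mod O))
    (hcov : ∀ U : C, ∃ S ∈ J U, ∀ ⦃V : C⦄ (g : V ⟶ U), S g → ∀ m : ℤ, CompEnd (Pm (fe O V (s.1 V)) m) T)
    (X : ModSite.Mod O) (m : ℤ) : CompEnd (Pm (DerComp.smulEnd s X) m) T := by
  rw [Pm_smulEnd_eq]
  exact compEnd_smul_of_local s T hcov _

section Over

variable (U : C)

/-- The universal section of the restriction of `j_! O_{W}` to `C/U`. -/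
noncomputable def etaRestr (W : Over U) :
    ModSite.freeOn (O.over U) W ⟶ (ModSite.restr O U).obj (ModSite.freeOn O W.left) :=
  (freeOnEquiv W _).symm (freeOnEquiv W.left (ModSite.freeOn O W.left) (𝟙 _))

lemma etaRestr_bijective (W : Over U) (T : ModSite.Mod O) :
    Function.Bijective fun g : ModSite.freeOn O W.left ⟶ T => etaRestr U W ≫ (ModSite.restr O U).map g := by
  have h : (fun g : ModSite.freeOn O W.left ⟶ T => etaRestr U W ≫ (ModSite.restr O U).map g) =
      (freeOnEquiv W ((ModSite.restr O U).obj T)).symm ∘ (freeOnEquiv W.left T) := by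
    funext g
    apply (freeOnEquiv W _).injective
    rw [Function.comp_apply, Equiv.apply_symm_apply, freeOnEquiv_comp, etaRestr, Equiv.apply_symm_apply,
      freeOnEquiv_eq g]
    rfl
  rw [h]
  exact (freeOnEquiv W _).symm.bijective.comp (freeOnEquiv W.left T).bijective

lemma fe_etaRestr (W : Over U) (a : O.obj.obj (op W.left)) :
    fe (O.over U) W a ≫ etaRestr U W = etaRestr U W ≫ (ModSite.restr O U).map (fe O W.left a) := by
  apply (freeOnEquiv W _).injective
  rw [freeOnEquiv_fe, freeOnEquiv_comp, etaRestr, Equiv.apply_symm_apply]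
  refine Eq.trans ?_ (freeOnEquiv_eq (fe O W.left a))
  rw [fe, Equiv.apply_symm_apply]
  rfl

lemma restr_additive : (ModSite.restr O U).Additive :=
  (ModSite.extZeroAdj O U).right_adjoint_additive

/-- Restriction to `C/U` on derived categories. -/
noncomputable abbrev restrD : DerivedCategory (ModSite.Mod O) ⥤ DerivedCategory (ModSite.Mod (O.over U)) :=
  haveI := restr_additive (O := O) U
  haveI := (restr_exact (O := O) U).1
  haveI := (restr_exact (O := O) U).2
  (ModSite.restr O U).mapDerivedCategory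

/-- `H^m(W, K|_U) = H^m(W, K)`. -/
theorem compEnd_restrD (W : Over U) (a : O.obj.obj (op W.left)) (m : ℤ) (K : DerivedCategory (ModSite.Mod O)) :
    CompEnd (Pm (fe O W.left a) m) K ↔ CompEnd (Pm (fe (O.over U) W a) m) ((restrD U).obj K) := by
  have := restr_additive (O := O) U
  have := (restr_exact (O := O) U).1
  have := (restr_exact (O := O) U).2
  have := SiteMod.extZero_preservesFiniteLimits (O := O) U
  have : PreservesFiniteColimits (ModSite.extZero O U) :=
    ⟨fun _ _ _ => ((ModSite.extZeroAdj O U).leftAdjoint_preservesColimits :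
      PreservesColimitsOfSize.{0, 0} (ModSite.extZero O U)).preservesColimitsOfShape⟩
  have : (ModSite.extZero O U).PreservesHomology := Functor.preservesHomologyOfExact _
  refine compEnd_push (restrD U) (ModSite.restr O U).mapDerivedCategoryFactorsh.inv (etaRestr U W)
    (etaRestr_bijective U W) (enoughKInj_mod O) (fun I _ => inferInstance) (fun I hI => ?_) _ _
    (fe_etaRestr U W a) m K
  have := Fib44.isKInjective_map_of_adj (ModSite.extZeroAdj O U) I hI
  exact secHom_of_isKInjective _ _

/-- **Locality**: completeness at a section may be checked on a covering. -/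
theorem compEnd_of_cover (f : O.obj.obj (op U)) (K : DerivedCategory (ModSite.Mod O)) {S : Sieve U} (hS : S ∈ J U)
    (h : ∀ ⦃V : C⦄ (g : V ⟶ U), S g → ∀ m : ℤ, CompEnd (Pm (fe O V ((O.obj.map g.op).hom f)) m) K) (m : ℤ) :
    CompEnd (Pm (fe O U f) m) K := by
  let s := DerComp.GSec.ofSect O U f
  have h1 := compEnd_of_local s ((restrD U).obj K) (fun W => ⟨(Sieve.overEquiv W).symm (S.pullback W.hom),
    J.overEquiv_symm_mem_over W _ (J.pullback_stable W.hom hS), fun V g hg k => ?_⟩)
    (ModSite.freeOn (O.over U) (Over.mk (𝟙 U))) m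
  · rw [smulEnd_freeOn, ← compEnd_restrD] at h1
    have e : s.1 (Over.mk (𝟙 U)) = f := by
      change (O.obj.map (𝟙 U).op).hom f = f
      rw [op_id, CategoryTheory.Functor.map_id]
      rfl
    rw [e] at h1
    exact h1
  · refine (compEnd_restrD U V _ k K).1 (h V.hom ?_ k)
    have hg' : S (g.left ≫ W.hom) := (Sieve.overEquiv_symm_iff (S.pullback W.hom) g).1 hg
    rwa [Over.w g] at hg'

end Over

end Groth.Agent.DerComp18
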