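import Groth.Agent.DerComp18.Away
import Groth.Agent.DR39.DCModule
import Groth.Agent.Mod48.ModGen
import Groth.Agent.SiteMod.ExtZero
import Groth.Agent.Coh69.Grothendieck
import Groth.Prelude.Def_DerComp

/-!
Derived completeness on a ringed site through cohomology groups over the objects.
-/

universe u

open CategoryTheory CategoryTheory.Limits Opposite DerivedCategory

attribute [local instance] HasDerivedCategory.standard

set_option autoImplicit false

namespace Groth.Agent.DerComp18

open Groth.Agent.Mod48 Groth.Agent.Mod48.LocGen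

variable {C : Type u} [SmallCategory C] {J : GrothendieckTopology C} (O : Sheaf J CommRingCat.{u})

/-- Multiplication by a section `a ∈ O(U)` on `j_! O_U`. -/
noncomputable def fe (U : C) (a : O.obj.obj (op U)) : ModSite.freeOn O U ⟶ ModSite.freeOn O U :=
  (freeOnEquiv U _).symm (a • freeOnEquiv U (ModSite.freeOn O U) (𝟙 _))

variable {O}

lemma freeOnEquiv_fe (U : C) (a : O.obj.obj (op U)) {M : ModSite.Mod O} (x : ModSite.freeOn O U ⟶ M) :
    freeOnEquiv U M (fe O U a ≫ x) = a • freeOnEquiv U M x := by
  rw [freeOnEquiv_comp, fe, Equiv.apply_symm_apply, freeOnEquiv_eq x]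
  exact ((fgt.map x).app (op U)).hom.map_smul _ _

lemma freeOnEquiv_add (U : C) {M : ModSite.Mod O} (x y : ModSite.freeOn O U ⟶ M) :
    freeOnEquiv U M (x + y) = freeOnEquiv U M x + freeOnEquiv U M y := by
  rw [freeOnEquiv_eq, freeOnEquiv_eq x, freeOnEquiv_eq y]
  rfl

lemma fe_one (U : C) : fe O U 1 = 𝟙 _ := by
  apply (freeOnEquiv U _).injective
  rw [fe, Equiv.apply_symm_apply]
  exact one_smul _ _

lemma fe_zero (U : C) : fe O U 0 = 0 := by
  apply (freeOnEquiv U _).injective
  rw [fe, Equiv.apply_symm_apply, freeOnEquiv_zero]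
  exact zero_smul _ _

lemma fe_add (U : C) (a b : O.obj.obj (op U)) : fe O U (a + b) = fe O U a + fe O U b := by
  apply (freeOnEquiv U _).injective
  rw [freeOnEquiv_add, fe, fe, fe, Equiv.apply_symm_apply, Equiv.apply_symm_apply, Equiv.apply_symm_apply]
  exact add_smul _ _ _

lemma fe_mul (U : C) (a b : O.obj.obj (op U)) : fe O U (a * b) = fe O U a ≫ fe O U b := by
  apply (freeOnEquiv U _).injective
  rw [freeOnEquiv_fe, fe, fe, Equiv.apply_symm_apply, Equiv.apply_symm_apply]
  exact mul_smul _ _ _

/-- Restriction commutes with multiplication. -/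
lemma fe_natural {V U : C} (g : V ⟶ U) (a : O.obj.obj (op U)) :
    freeOnMap O g ≫ fe O U a = fe O V ((O.obj.map g.op).hom a) ≫ freeOnMap O g := by
  apply (freeOnEquiv V _).injective
  rw [freeOnEquiv_fe, freeOnEquiv_map_comp, fe, Equiv.apply_symm_apply, res_smul, freeOnMap,
    Equiv.apply_symm_apply]

/-- Multiplication by a section is extended by zero from multiplication on the localised site. -/
lemma extZero_map_smulEnd (U : C) (a : O.obj.obj (op U)) :
    (ModSite.extZero O U).map (DerComp.smulEnd (DerComp.GSec.ofSect O U a) (ModSite.unit (O.over U))) = fe O U a := by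
  apply (freeOnEquiv U _).injective
  rw [← Category.comp_id ((ModSite.extZero O U).map _)]
  conv_rhs => rw [← Category.comp_id (fe O U a), freeOnEquiv_fe]
  change restrSectionsEquiv U _ (((ModSite.restr O U).obj (ModSite.freeOn O U)).unitHomEquiv
    ((ModSite.extZeroAdj O U).homEquiv _ _ (_ ≫ 𝟙 _))) =
    a • restrSectionsEquiv U _ (((ModSite.restr O U).obj (ModSite.freeOn O U)).unitHomEquiv
    ((ModSite.extZeroAdj O U).homEquiv _ _ (𝟙 _)))
  rw [Adjunction.homEquiv_naturality_left, DerComp.smulEnd_comm, SheafOfModules.unitHomEquiv_comp_apply]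
  generalize ((ModSite.restr O U).obj (ModSite.freeOn O U)).unitHomEquiv
    ((ModSite.extZeroAdj O U).homEquiv _ _ (𝟙 _)) = s
  change ((O.obj.map (𝟙 U).op).hom a) • (_ : (pre (ModSite.freeOn O U)).obj (op U)) = a • _
  rw [op_id, CategoryTheory.Functor.map_id]
  rfl

/-- No maps out of `j_! O_{U,f}` iff the cohomology over `U` is complete for `f`. -/
theorem subsingleton_awayOver_iff (U : C) (f : O.obj.obj (op U)) (K : DerivedCategory (ModSite.Mod O)) :
    (∀ n : ℤ, Subsingleton (SiteCmp.inD O ((ModSite.extZero O U).obj (DerComp.awayOver O U f)) ⟶ K⟦n⟧)) ↔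
      ∀ m : ℤ, CompEnd (Pm (fe O U f) m) K := by
  have h0 : IsGrothendieckAbelian.{u} (ModSite.Mod O) :=
    Coh69.sheafOfModules_isGrothendieckAbelian (ModSite.ringSh O)
  have hU : IsGrothendieckAbelian.{u} (ModSite.Mod (O.over U)) :=
    Coh69.sheafOfModules_isGrothendieckAbelian (ModSite.ringSh (O.over U))
  have := SiteMod.extZero_preservesFiniteLimits (O := O) U
  have : PreservesFiniteColimits (ModSite.extZero O U) :=
    ⟨fun _ _ _ => ((ModSite.extZeroAdj O U).leftAdjoint_preservesColimits :
      PreservesColimitsOfSize.{0, 0} (ModSite.extZero O U)).preservesColimitsOfShape⟩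
  have : PreservesColimitsOfShape (Discrete ℕ) (ModSite.extZero O U) :=
    ((ModSite.extZeroAdj O U).leftAdjoint_preservesColimits :
      PreservesColimitsOfSize.{0, 0} (ModSite.extZero O U)).preservesColimitsOfShape
  refine (subsingleton_iff_compEnd (ModSite.extZero O U) (ModSite.unit (O.over U))
    (DerComp.smulEnd (DerComp.GSec.ofSect O U f) (ModSite.unit (O.over U))) K).trans ?_
  rw [extZero_map_smulEnd]

variable (O) in
/-- **The criterion**: a complex is derived complete iff its cohomology groups over every object are. -/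
theorem isDerComp_iff (I : DerComp.IdealSh O) (K : DerivedCategory (ModSite.Mod O)) :
    DerComp.IsDerComp O I K ↔ ∀ (U : C), ∀ f ∈ I.ideal U, ∀ m : ℤ, CompEnd (Pm (fe O U f) m) K :=
  forall_congr' fun U => forall₂_congr fun f _ => subsingleton_awayOver_iff U f K

section Module

variable (U : C) (m : ℤ) (K : DerivedCategory (ModSite.Mod O))

/-- Cohomology over `U` as a module over `O(U)`. -/
@[reducible] noncomputable def homModule :
    Module (O.obj.obj (op U)) (Pd (ModSite.freeOn O U) m ⟶ K) where
  smul a x := Pm (fe O U a) m ≫ x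
  one_smul x := by
    change Pm (fe O U 1) m ≫ x = x
    rw [fe_one, Pm, CategoryTheory.Functor.map_id, CategoryTheory.Functor.map_id, Category.id_comp]
  mul_smul a b x := by
    change Pm (fe O U (a * b)) m ≫ x = Pm (fe O U a) m ≫ Pm (fe O U b) m ≫ x
    rw [fe_mul, Pm, Functor.map_comp, Functor.map_comp, Category.assoc]
  smul_zero a := Limits.comp_zero
  smul_add a x y := Preadditive.comp_add _ _ _ _ _ _
  add_smul a b x := by
    change Pm (fe O U (a + b)) m ≫ x = Pm (fe O U a) m ≫ x + Pm (fe O U b) m ≫ x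
    rw [fe_add, Pm, Functor.map_add, Functor.map_add, Preadditive.add_comp]
  zero_smul x := by
    change Pm (fe O U 0) m ≫ x = 0
    rw [fe_zero, Pm, Functor.map_zero, Functor.map_zero, Limits.zero_comp]

lemma compEnd_iff_comp (a : O.obj.obj (op U)) :
    letI := homModule U m K
    CompEnd (Pm (fe O U a) m) K ↔ DR39.DCM.Comp a (Pd (ModSite.freeOn O U) m ⟶ K) := Iff.rfl

lemma compEnd_fe_zero : CompEnd (Pm (fe O U 0) m) K :=
  letI := homModule U m K
  (compEnd_iff_comp U m K 0).2 DR39.DCM.comp_zero

lemma compEnd_fe_add {a b : O.obj.obj (op U)} (ha : CompEnd (Pm (fe O U a) m) K)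
    (hb : CompEnd (Pm (fe O U b) m) K) : CompEnd (Pm (fe O U (a + b)) m) K :=
  letI := homModule U m K
  (compEnd_iff_comp U m K (a + b)).2 (DR39.DCM.comp_add ((compEnd_iff_comp U m K a).1 ha) ((compEnd_iff_comp U m K b).1 hb))

lemma compEnd_fe_mul {a : O.obj.obj (op U)} (ha : CompEnd (Pm (fe O U a) m) K) (b : O.obj.obj (op U)) :
    CompEnd (Pm (fe O U (b * a)) m) K :=
  letI := homModule U m K
  (compEnd_iff_comp U m K (b * a)).2 (DR39.DCM.comp_mul ((compEnd_iff_comp U m K a).1 ha) b)

end Module

end Groth.Agent.DerComp18
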