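import Groth.Agent.SiteMod.RestrTensor
import Groth.Agent.Mod48.FreeOn
import Groth.Agent.DerComp18.Crit

/-!
`j_! O_U ⊗ N = j_!(N|_U)`, naturally in `N` and compatibly with multiplication by sections over `U`.
-/

universe u

open CategoryTheory CategoryTheory.Limits Opposite MonoidalCategory

set_option autoImplicit false

namespace Groth.Agent.DerComp18

open Groth.Agent.Mod48 Groth.Agent.SiteMod

variable {C : Type u} [SmallCategory C] {J : GrothendieckTopology C} {O : Sheaf J CommRingCat.{u}} (U : C)

lemma projP_natural_right (P : PreM (O.over U)) {Q Q' : PreM O} (g : Q ⟶ Q') :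
    (extP U).map (P ◁ (preR U).map g) ≫ projP U Q' P = projP U Q P ≫ ((extP U).obj P ◁ g) := by
  rw [projP, projP, ← Adjunction.homEquiv_naturality_left_symm, ← Adjunction.homEquiv_naturality_right_symm]
  refine congrArg _ ?_
  exact tensor_hom_ext (M := P) (N := (preR U).obj Q) fun _ _ _ => rfl

/-- The model of `j_! O_U`. -/
noncomputable abbrev freeModel : ModSite.Mod O := shf.obj ((extP U).obj (pre (ModSite.unit (O.over U))))

/-- The model is `j_! O_U`. -/
noncomputable def freeModelIso : freeModel (O := O) U ≅ ModSite.freeOn O U :=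
  (extShfIso U).app (pre (ModSite.unit (O.over U))) ≪≫
    (ModSite.extZero O U).mapIso (shfCounitIso.app (ModSite.unit (O.over U)))

/-- The left unit. -/
noncomputable def lamU (Q : PreM (O.over U)) : pre (ModSite.unit (O.over U)) ⊗ Q ≅ Q := λ_ Q

lemma lamU_inv_natural {Q Q' : PreM (O.over U)} (g : Q ⟶ Q') :
    g ≫ (lamU U Q').inv = (lamU U Q).inv ≫ pre (ModSite.unit (O.over U)) ◁ g :=
  leftUnitor_inv_naturality g

/-- The comparison on presheaves. -/
noncomputable def projPre (Q : PreM O) :
    (extP U).obj ((preR U).obj Q) ⟶ (extP U).obj (pre (ModSite.unit (O.over U))) ⊗ Q :=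
  (extP U).map (lamU U ((preR U).obj Q)).inv ≫ projP U Q (pre (ModSite.unit (O.over U)))

lemma projPre_natural {Q Q' : PreM O} (g : Q ⟶ Q') :
    (extP U).map ((preR U).map g) ≫ projPre U Q' =
      projPre U Q ≫ ((extP U).obj (pre (ModSite.unit (O.over U))) ◁ g) := by
  rw [projPre, projPre, ← Functor.map_comp_assoc, lamU_inv_natural, Functor.map_comp, Category.assoc,
    Category.assoc]
  exact congrArg (_ ≫ ·) (projP_natural_right U _ g)

lemma isIso_shf_map_projPre (Q : PreM O) : IsIso (shf.map (projPre U Q)) := by
  have h : IsIso (shf.map (projP U Q (pre (ModSite.unit (O.over U))))) :=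
    (isIso_shf_map_iff_isLocalIso _).2
      (isLocalIso_of_bijective _ fun X => bijective_projP U Q (pre (ModSite.unit (O.over U))) X.unop)
  rw [projPre, Functor.map_comp]
  exact IsIso.comp_isIso' inferInstance h

/-- **The projection formula** `j_!(N|_U) ≅ j_! O_U ⊗ N`, naturally in `N`. -/
noncomputable def projFree : ModSite.restr O U ⋙ ModSite.extZero O U ≅ tL (freeModel (O := O) U) :=
  NatIso.ofComponents
    (fun N => ((ModSite.extZero O U).mapIso (shfCounitIso.app ((ModSite.restr O U).obj N))).symm ≪≫
      ((extShfIso U).app ((preR U).obj (pre N))).symm ≪≫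
      @asIso _ _ _ _ (shf.map (projPre U (pre N))) (isIso_shf_map_projPre U (pre N)) ≪≫
      @asIso _ _ _ _ (shf.map (shfU ((extP U).obj (pre (ModSite.unit (O.over U)))) ▷ pre N))
        (isIso_shf_map_whiskerRight _ (pre N)))
    (fun {N N'} g => by
      have h1 := shfCounitIso.inv.naturality ((ModSite.restr O U).map g)
      have h2 := (extShfIso (O := O) U).inv.naturality ((preR U).map (fgt.map g))
      dsimp only [Functor.comp_obj, Functor.comp_map, Functor.id_obj, Functor.id_map] at h1 h2
      simp only [Iso.trans_hom, Iso.symm_hom, Functor.mapIso_inv, Iso.app_inv, asIso_hom, Functor.comp_map]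
      rw [← Functor.map_comp_assoc, h1, Functor.map_comp_assoc]
      refine (congrArg (_ ≫ ·) ((Category.assoc _ _ _).symm.trans ((congrArg (· ≫ _) h2).trans
        (Category.assoc _ _ _)))).trans ?_
      simp only [Category.assoc]
      refine congrArg (_ ≫ ·) (congrArg (_ ≫ ·) ?_)
      change shf.map ((extP U).map ((preR U).map (fgt.map g))) ≫ shf.map _ ≫ shf.map _ =
        shf.map _ ≫ shf.map _ ≫ shf.map (pre (freeModel (O := O) U) ◁ fgt.map g)
      refine ((Category.assoc _ _ _).symm.trans (congrArg (· ≫ _) ((shf.map_comp _ _).symm.trans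
        ((congrArg shf.map (projPre_natural U (fgt.map g))).trans (shf.map_comp _ _))))).trans
          ((Category.assoc _ _ _).trans (congrArg (_ ≫ ·) ?_))
      exact (shf.map_comp _ _).symm.trans ((congrArg shf.map (whisker_exchange _ _)).trans (shf.map_comp _ _)))

/-- A scalar on the unit against a scalar on a module. -/
lemma leftUnitor_smulEnd (s : DerComp.GSec (O.over U)) (M : ModSite.Mod (O.over U)) :
    fgt.map (DerComp.smulEnd s (ModSite.unit (O.over U))) ▷ pre M ≫ (lamU U (pre M)).hom =
      (lamU U (pre M)).hom ≫ fgt.map (DerComp.smulEnd s M) :=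
  tensor_hom_ext (M := pre (ModSite.unit (O.over U))) (N := pre M) fun X r x => by
    exact mul_smul (show (O.over U).obj.obj X from DerComp.GSec.val' s X) (show (O.over U).obj.obj X from r) x

/-- Compatibility with multiplication. -/
lemma projFree_smulEnd (s : DerComp.GSec (O.over U)) (N : ModSite.Mod O) :
    (ModSite.extZero O U).map (DerComp.smulEnd s ((ModSite.restr O U).obj N)) ≫ (projFree U).hom.app N =
      (projFree U).hom.app N ≫
        ((ModSite.tensorBi O).map (shf.map ((extP U).map
          (fgt.map (DerComp.smulEnd s (ModSite.unit (O.over U))))))).app N := by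
  let μ := fgt.map (DerComp.smulEnd s (ModSite.unit (O.over U)))
  have h1 := shfCounitIso.inv.naturality (DerComp.smulEnd s ((ModSite.restr O U).obj N))
  have h2 := (extShfIso (O := O) U).inv.naturality (fgt.map (DerComp.smulEnd s ((ModSite.restr O U).obj N)))
  dsimp only [Functor.comp_obj, Functor.comp_map, Functor.id_obj, Functor.id_map] at h1 h2
  simp only [projFree, NatIso.ofComponents_hom_app, Iso.trans_hom, Iso.symm_hom, Functor.mapIso_inv, Iso.app_inv,
    asIso_hom]
  rw [← Functor.map_comp_assoc, h1, Functor.map_comp_assoc]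
  refine (congrArg (_ ≫ ·) ((Category.assoc _ _ _).symm.trans ((congrArg (· ≫ _) h2).trans
    (Category.assoc _ _ _)))).trans ?_
  simp only [Category.assoc]
  refine congrArg (_ ≫ ·) (congrArg (_ ≫ ·) ?_)
  change shf.map ((extP U).map (fgt.map (DerComp.smulEnd s ((ModSite.restr O U).obj N)))) ≫ shf.map _ ≫ shf.map _ =
    shf.map _ ≫ shf.map _ ≫ shf.map (fgt.map (shf.map ((extP U).map μ)) ▷ pre N)
  have e : (extP U).map (fgt.map (DerComp.smulEnd s ((ModSite.restr O U).obj N))) ≫ projPre U (pre N) =
      projPre U (pre N) ≫ (extP U).map μ ▷ pre N := by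
    rw [projPre, Category.assoc, ← projP_natural, ← Functor.map_comp_assoc]
    refine ((Category.assoc _ _ _).symm.trans (congrArg (· ≫ projP U (pre N) _) ((extP U).map_comp _ _).symm)).trans ?_
    refine congrArg (fun t => (extP U).map t ≫ projP U (pre N) _) ?_
    have e0 := leftUnitor_smulEnd U s ((ModSite.restr O U).obj N)
    exact ((Iso.eq_inv_comp (lamU U (pre ((ModSite.restr O U).obj N)))).2
      ((Category.assoc _ _ _).symm.trans
        ((Iso.comp_inv_eq (lamU U (pre ((ModSite.restr O U).obj N)))).2 e0.symm)))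
  refine ((Category.assoc _ _ _).symm.trans (congrArg (· ≫ _) ((shf.map_comp _ _).symm.trans
    ((congrArg shf.map e).trans (shf.map_comp _ _))))).trans
      ((Category.assoc _ _ _).trans (congrArg (_ ≫ ·) ?_))
  refine (shf.map_comp _ _).symm.trans ((congrArg shf.map ?_).trans (shf.map_comp _ _))
  exact (MonoidalCategory.comp_whiskerRight _ _ _).symm.trans
    ((congrArg (· ▷ pre N) (shfU_naturality _)).trans (MonoidalCategory.comp_whiskerRight _ _ _))

/-- Multiplication on the model is multiplication on `j_! O_U`. -/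
lemma freeModelIso_fe (a : O.obj.obj (op U)) :
    shf.map ((extP U).map (fgt.map (DerComp.smulEnd (DerComp.GSec.ofSect O U a) (ModSite.unit (O.over U))))) ≫
      (freeModelIso U).hom = (freeModelIso U).hom ≫ fe O U a := by
  have h2 := (extShfIso (O := O) U).hom.naturality
    (fgt.map (DerComp.smulEnd (DerComp.GSec.ofSect O U a) (ModSite.unit (O.over U))))
  have h1 := shfCounitIso.hom.naturality (DerComp.smulEnd (DerComp.GSec.ofSect O U a) (ModSite.unit (O.over U)))
  dsimp only [Functor.comp_obj, Functor.comp_map, Functor.id_obj, Functor.id_map] at h1 h2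
  simp only [freeModelIso, Iso.trans_hom, Functor.mapIso_hom, Iso.app_hom]
  refine ((Category.assoc _ _ _).symm.trans ((congrArg (· ≫ _) h2).trans (Category.assoc _ _ _))).trans ?_
  rw [← extZero_map_smulEnd, Category.assoc, ← Functor.map_comp, ← Functor.map_comp, h1]

end Groth.Agent.DerComp18
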