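import Groth.Agent.Mod48.KFlatColim
import Mathlib.Algebra.Homology.HomotopyCategory.Shift

/-!
The tensor product with a module placed in degree `m` on the left.
-/

universe u

open CategoryTheory CategoryTheory.Limits HomologicalComplex

set_option autoImplicit false
set_option backward.isDefEq.respectTransparency false

namespace Groth.Agent.DerComp18

open Groth.Agent.Mod48

variable {C : Type u} [SmallCategory C] {J : GrothendieckTopology C} {O : Sheaf J CommRingCat.{u}}
  (X : ModSite.Mod O) (m : ℤ) (P : CC O)

/-- A module in degree `m`. -/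
noncomputable abbrev sglAt : CC O := (HomologicalComplex.single (ModSite.Mod O) (ComplexShape.up ℤ) m).obj X

/-- `X ⊗ P`, shifted. -/
noncomputable abbrev tensAt : CC O :=
  (CategoryTheory.shiftFunctor (CC O) (-m)).obj
    ((((ModSite.tensorBi O).obj X).mapHomologicalComplex (ComplexShape.up ℤ)).obj P)

/-- One degree of the comparison. -/
noncomputable def toTcLApp (n : ℤ) : (tensAt X m P).X n ⟶ (tc (sglAt X m) P).X n :=
  ((ModSite.tensorBi O).map (singleObjXSelf (ComplexShape.up ℤ) m X).inv).app (P.X (n + -m)) ≫
    ιMapBifunctor (sglAt X m) P (ModSite.tensorBi O) (ComplexShape.up ℤ) m (n + -m) n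
      (by change m + (n + -m) = n; omega)

/-- The comparison. -/
noncomputable def toTcL : tensAt X m P ⟶ tc (sglAt X m) P where
  f n := toTcLApp X m P n
  comm' i j hij := by
    change i + 1 = j at hij
    have hi : m + (i + -m) = i := by omega
    have hj : m + (j + -m) = j := by omega
    have hr : (ComplexShape.up ℤ).Rel (i + -m) (j + -m) := by change i + -m + 1 = j + -m; omega
    have key : ιMapBifunctor (sglAt X m) P (ModSite.tensorBi O) (ComplexShape.up ℤ) m (i + -m) i hi ≫
        (tc (sglAt X m) P).d i j = m.negOnePow • (((ModSite.tensorBi O).obj ((sglAt X m).X m)).map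
          (P.d (i + -m) (j + -m)) ≫
            ιMapBifunctor (sglAt X m) P (ModSite.tensorBi O) (ComplexShape.up ℤ) m (j + -m) j hj) := by
      rw [mapBifunctor.d_eq, Preadditive.comp_add, mapBifunctor.ι_D₁, mapBifunctor.ι_D₂,
        mapBifunctor.d₁_eq' _ _ _ _ (show (ComplexShape.up ℤ).Rel m (m + 1) from rfl) (i + -m) j,
        single_obj_d, CategoryTheory.Functor.map_zero, NatTrans.app_zero, zero_comp, smul_zero, zero_add,
        mapBifunctor.d₂_eq _ _ _ _ m hr j hj]
      rfl
    change toTcLApp X m P i ≫ (tc (sglAt X m) P).d i j =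
      ((-m).negOnePow • ((ModSite.tensorBi O).obj X).map (P.d (i + -m) (j + -m))) ≫ toTcLApp X m P j
    rw [toTcLApp, toTcLApp, Category.assoc, key, Int.negOnePow_neg, Linear.units_smul_comp, Linear.comp_units_smul,
      NatTrans.naturality_assoc]

/-- The inverse in one degree. -/
noncomputable def fromTcLApp (n : ℤ) : (tc (sglAt X m) P).X n ⟶ (tensAt X m P).X n :=
  mapBifunctorDesc fun p q h =>
    if hp : p = m then
      ((ModSite.tensorBi O).map (singleObjXIsoOfEq (ComplexShape.up ℤ) m X p hp).hom).app (P.X q) ≫
        ((ModSite.tensorBi O).obj X).map (eqToHom (congrArg P.X (show q = n + -m by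
          change p + q = n at h; omega)))
    else 0

instance isIso_toTcL : IsIso (toTcL X m P) := by
  have : ∀ n, IsIso ((toTcL X m P).f n) := fun n => by
    refine ⟨fromTcLApp X m P n, ?_, ?_⟩
    · change toTcLApp X m P n ≫ fromTcLApp X m P n = 𝟙 _
      rw [toTcLApp, fromTcLApp, Category.assoc, ι_mapBifunctorDesc, dif_pos rfl, eqToHom_refl,
        CategoryTheory.Functor.map_id, Category.comp_id, ← NatTrans.comp_app, ← CategoryTheory.Functor.map_comp]
      exact (congrArg (fun t => ((ModSite.tensorBi O).map t).app _)
        (singleObjXSelf (ComplexShape.up ℤ) m X).inv_hom_id).trans (by simp; rfl)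
    · change fromTcLApp X m P n ≫ toTcLApp X m P n = 𝟙 _
      refine mapBifunctor.hom_ext fun p q h => ?_
      by_cases hp : p = m
      · subst hp
        obtain rfl : q = n + -p := by change p + q = n at h; omega
        rw [toTcLApp, fromTcLApp, ← Category.assoc, ι_mapBifunctorDesc, dif_pos rfl, eqToHom_refl,
          CategoryTheory.Functor.map_id, Category.comp_id, Category.comp_id, ← Category.assoc, ← NatTrans.comp_app,
          ← CategoryTheory.Functor.map_comp]
        exact (congrArg (fun t => ((ModSite.tensorBi O).map t).app _ ≫ _)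
          (singleObjXSelf (ComplexShape.up ℤ) p X).hom_inv_id).trans (by simp)
      · exact (((Functor.map_isZero (ModSite.tensorBi O)
          (isZero_single_obj_X (ComplexShape.up ℤ) m X p hp))).obj (P.X q)).eq_of_src _ _
  exact Hom.isIso_of_components (toTcL X m P)

/-- `X[-m] ⊗ P ≅ (X ⊗ P)[-m]`. -/
noncomputable def tcLIso : tensAt X m P ≅ tc (sglAt X m) P := asIso (toTcL X m P)

variable {X}

lemma tcLIso_natural {Y : ModSite.Mod O} (φ : X ⟶ Y) :
    (CategoryTheory.shiftFunctor (CC O) (-m)).map
        ((NatTrans.mapHomologicalComplex ((ModSite.tensorBi O).map φ) (ComplexShape.up ℤ)).app P) ≫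
          (tcLIso Y m P).hom =
      (tcLIso X m P).hom ≫
        ((ModSite.tensorCx O).flip.obj P).map
          ((HomologicalComplex.single (ModSite.Mod O) (ComplexShape.up ℤ) m).map φ) := by
  refine HomologicalComplex.hom_ext _ _ fun n => ?_
  change ((ModSite.tensorBi O).map φ).app (P.X (n + -m)) ≫ toTcLApp Y m P n =
    toTcLApp X m P n ≫ (mapBifunctorMap ((HomologicalComplex.single (ModSite.Mod O) (ComplexShape.up ℤ) m).map φ)
      (𝟙 P) (ModSite.tensorBi O) (ComplexShape.up ℤ)).f n
  rw [toTcLApp, toTcLApp, Category.assoc, ι_mapBifunctorMap, ← Category.assoc, ← NatTrans.comp_app,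
    ← CategoryTheory.Functor.map_comp, id_f, CategoryTheory.Functor.map_id, Category.id_comp, ← Category.assoc,
    ← NatTrans.comp_app, ← CategoryTheory.Functor.map_comp, single_map_f_self]
  simp

end Groth.Agent.DerComp18
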