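import Groth.Agent.DerComp18.LTensor
import Groth.Agent.DerComp18.TensorSingle
import Groth.Agent.DerComp18.Proj
import Groth.Agent.DerComp18.Local

/-!
`j_! O_U ⊗^L P` has no maps into objects which are complete over `U`.
-/

universe u

open CategoryTheory CategoryTheory.Limits Opposite DerivedCategory

attribute [local instance] HasDerivedCategory.standard

set_option autoImplicit false

namespace Groth.Agent.DerComp18

open Groth.Agent.Mod48 Groth.Agent.Mod48.LocGen

variable {C : Type u} [SmallCategory C] {J : GrothendieckTopology C} {O : Sheaf J CommRingCat.{u}}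

lemma compEnd_shift {D : Type*} [Category D] [Preadditive D] [HasShift D ℤ]
    [∀ n : ℤ, (shiftFunctor D n).Additive] {X : D} (e : X ⟶ X) (L : D) (n : ℤ) :
    CompEnd (e⟦-n⟧') L ↔ CompEnd e (L⟦n⟧) :=
  haveI : (shiftEquiv' D (-n) n (neg_add_cancel n)).functor.Additive :=
    inferInstanceAs (shiftFunctor D (-n)).Additive
  compEnd_congr _ _ ((shiftEquiv' D (-n) n (neg_add_cancel n)).toAdjunction.homAddEquiv X L) fun x =>
    (shiftEquiv' D (-n) n (neg_add_cancel n)).toAdjunction.homEquiv_naturality_left e x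

lemma compEnd_cover_shift (U : C) (f : O.obj.obj (op U)) (L : DerivedCategory (ModSite.Mod O))
    (h : ∀ ⦃V : C⦄ (g : V ⟶ U) (k : ℤ), CompEnd (Pm (fe O V ((O.obj.map g.op).hom f)) k) L)
    (n : ℤ) ⦃V : C⦄ (g : V ⟶ U) (k : ℤ) :
    CompEnd (Pm (fe O V ((O.obj.map g.op).hom f)) k) (L⟦n⟧) := by
  rw [← compEnd_degEquiv]
  refine (compEnd_iff_of_iso ((singleFunctor (ModSite.Mod O) 0).map (fe O V ((O.obj.map g.op).hom f))) _ (Iso.refl _)
    ((shiftFunctorAdd' (DerivedCategory (ModSite.Mod O)) n k (n + k) rfl).app L) ?_).1 ?_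
  · simp
  · exact (compEnd_degEquiv _ _ _).2 (h g (n + k))

lemma compEnd_extZeroD (U : C) (f : O.obj.obj (op U)) (L : DerivedCategory (ModSite.Mod O))
    (h : ∀ ⦃V : C⦄ (g : V ⟶ U) (k : ℤ), CompEnd (Pm (fe O V ((O.obj.map g.op).hom f)) k) L)
    (R : CC (O.over U)) [(ModSite.extZero O U).Additive] [PreservesFiniteLimits (ModSite.extZero O U)]
    [PreservesFiniteColimits (ModSite.extZero O U)] :
    CompEnd ((ModSite.extZero O U).mapDerivedCategory.map
      ((DerComp.GSec.ofSect O U f) • 𝟙 (Q.obj R))) L := by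
  let s := DerComp.GSec.ofSect O U f
  have := restr_additive (O := O) U
  have := (restr_exact (O := O) U).1
  have := (restr_exact (O := O) U).2
  have : ((ModSite.restr O U).mapDerivedCategory).IsRightDerivedFunctor
      (ModSite.restr O U).mapDerivedCategoryFactorsh.inv
      (HomotopyCategory.quasiIso (ModSite.Mod O) (ComplexShape.up ℤ)) :=
    Functor.isRightDerivedFunctor_of_inverts _ (ModSite.restr O U).mapDerivedCategory
      (ModSite.restr O U).mapDerivedCategoryFactorsh
  let adj : (ModSite.extZero O U).mapDerivedCategory ⊣ (ModSite.restr O U).mapDerivedCategory :=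
    derivedAdj (ModSite.extZeroAdj O U) (enoughKInj_mod O) (ModSite.restr O U).mapDerivedCategory
      (ModSite.restr O U).mapDerivedCategoryFactorsh.inv
  have h1 := compEnd_smul_of_local s ((restrD U).obj L) (fun W => ⟨⊤, (J.over U).top_mem W, fun V _ _ k =>
    (compEnd_restrD U V _ k L).1 (h V.hom k)⟩) (Q.obj R)
  exact (compEnd_congr _ _ (adj.homAddEquiv (Q.obj R) L) fun x => adj.homEquiv_naturality_left _ x).2 h1

/-- Multiplication by a global section on a complex. -/
lemma Q_map_smulEnd (s : DerComp.GSec O) (R : CC O) (G : R ⟶ R)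
    (hG : ∀ n, G.f n = DerComp.smulEnd s (R.X n)) : Q.map G = s • 𝟙 (Q.obj R) := by
  have : G = s • 𝟙 R := by
    refine HomologicalComplex.hom_ext _ _ fun n => ?_
    rw [hG]
    exact ((DerComp.smul_def s (𝟙 (R.X n))).trans (Category.comp_id _)).symm
  rw [this, Functor.map_smul, CategoryTheory.Functor.map_id]

/-- Tensoring with multiplication by `a` on the model of `j_! O_U`. -/
noncomputable abbrev modelEnd (U : C) (a : O.obj.obj (op U)) : freeModel (O := O) U ⟶ freeModel U :=
  shf.map ((SiteMod.extP U).map (fgt.map (DerComp.smulEnd (DerComp.GSec.ofSect O U a) (ModSite.unit (O.over U)))))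

/-- `j_! O_U ⊗ P`, with the endomorphism of a section, is extended by zero from `C/U`. -/
theorem compEnd_tensorBi (U : C) (f : O.obj.obj (op U)) (L : DerivedCategory (ModSite.Mod O))
    (h : ∀ ⦃V : C⦄ (g : V ⟶ U) (k : ℤ), CompEnd (Pm (fe O V ((O.obj.map g.op).hom f)) k) L) (P : CC O) :
    CompEnd (Q.map ((NatTrans.mapHomologicalComplex ((ModSite.tensorBi O).map (fe O U f))
      (ComplexShape.up ℤ)).app P)) L := by
  have := restr_additive (O := O) U
  have : (ModSite.extZero O U).Additive := DerComp.additive_extZero U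
  have := SiteMod.extZero_preservesFiniteLimits (O := O) U
  have : PreservesFiniteColimits (ModSite.extZero O U) :=
    ⟨fun _ _ _ => ((ModSite.extZeroAdj O U).leftAdjoint_preservesColimits :
      PreservesColimitsOfSize.{0, 0} (ModSite.extZero O U)).preservesColimitsOfShape⟩
  let s := DerComp.GSec.ofSect O U f
  let R : CC (O.over U) := ((ModSite.restr O U).mapHomologicalComplex (ComplexShape.up ℤ)).obj P
  let G : R ⟶ R :=
    { f := fun n => DerComp.smulEnd s (R.X n)
      comm' := fun i j _ => DerComp.smulEnd_comm s (R.d i j) }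
  let ψ : ((ModSite.tensorBi O).obj (freeModel U)) ≅ (ModSite.tensorBi O).obj (ModSite.freeOn O U) :=
    (ModSite.tensorBi O).mapIso (freeModelIso U)
  let c : ((ModSite.extZero O U).mapHomologicalComplex (ComplexShape.up ℤ)).obj R ≅
      (((ModSite.tensorBi O).obj (ModSite.freeOn O U)).mapHomologicalComplex (ComplexShape.up ℤ)).obj P :=
    (NatIso.mapHomologicalComplex (projFree U ≪≫ (tLIso (freeModel U)).symm ≪≫ ψ) (ComplexShape.up ℤ)).app P
  have hc : ((ModSite.extZero O U).mapHomologicalComplex (ComplexShape.up ℤ)).map G ≫ c.hom =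
      c.hom ≫ (NatTrans.mapHomologicalComplex ((ModSite.tensorBi O).map (fe O U f)) (ComplexShape.up ℤ)).app P := by
    refine HomologicalComplex.hom_ext _ _ fun n => ?_
    change (ModSite.extZero O U).map (DerComp.smulEnd s ((ModSite.restr O U).obj (P.X n))) ≫
        (projFree U).hom.app (P.X n) ≫ 𝟙 _ ≫ ((ModSite.tensorBi O).map (freeModelIso U).hom).app (P.X n) =
      ((projFree U).hom.app (P.X n) ≫ 𝟙 _ ≫ ((ModSite.tensorBi O).map (freeModelIso U).hom).app (P.X n)) ≫
        ((ModSite.tensorBi O).map (fe O U f)).app (P.X n)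
    have h2 := congrArg (fun t => ((ModSite.tensorBi O).map t).app (P.X n)) (freeModelIso_fe U f)
    simp only [Functor.map_comp, NatTrans.comp_app] at h2
    rw [Category.id_comp]
    refine ((Category.assoc _ _ _).symm.trans ((congrArg (· ≫ _) (projFree_smulEnd U s (P.X n))).trans
      (Category.assoc _ _ _))).trans ?_
    rw [Category.assoc]
    exact congrArg (_ ≫ ·) h2
  let e := (ModSite.extZero O U).mapDerivedCategoryFactors
  refine (compEnd_iff_of_iso _ _ ((e.app R) ≪≫ Q.mapIso c) (Iso.refl L) ?_).1 (compEnd_extZeroD U f L h R)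
  rw [← Q_map_smulEnd s R G (fun n => rfl)]
  simp only [Iso.trans_hom, Iso.app_hom, Functor.mapIso_hom, Category.assoc, ← Functor.map_comp, ← hc]
  rw [Functor.map_comp]
  exact (Category.assoc _ _ _).symm.trans ((congrArg (· ≫ Q.map c.hom) (e.hom.naturality G)).trans (Category.assoc _ _ _))

variable (P : CC O) [ModSite.HasLTensorCx P]

/-- **Key lemma**: maps out of `j_! O_U ⊗^L P` into an object complete over `U` are complete. -/
theorem compEnd_ltensor (U : C) (f : O.obj.obj (op U)) (L : DerivedCategory (ModSite.Mod O))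
    (h : ∀ ⦃V : C⦄ (g : V ⟶ U) (k : ℤ), CompEnd (Pm (fe O V ((O.obj.map g.op).hom f)) k) L) (m : ℤ) :
    CompEnd ((ModSite.LTensorCx P).map (Pm (fe O U f) m)) L := by
  let X := ModSite.freeOn O U
  have := isIso_ltCounit P (sglAt X m) (isKFlat_single_shift (isFlat_freeOn U) m)
  let G := (NatTrans.mapHomologicalComplex ((ModSite.tensorBi O).map (fe O U f)) (ComplexShape.up ℤ)).app P
  let i : (ModSite.LTensorCx P).obj (Pd X m) ≅
      (Q.obj ((((ModSite.tensorBi O).obj X).mapHomologicalComplex (ComplexShape.up ℤ)).obj P))⟦-m⟧ :=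
    asIso ((ltCounit P).app (sglAt X m)) ≪≫ Q.mapIso (tcLIso X m P).symm ≪≫ (Q.commShiftIso (-m)).app _
  have hi : (ModSite.LTensorCx P).map (Pm (fe O U f) m) ≫ i.hom = i.hom ≫ (Q.map G)⟦-m⟧' := by
    have h1 := (ltCounit P).naturality ((HomologicalComplex.single (ModSite.Mod O) (ComplexShape.up ℤ) m).map (fe O U f))
    have h2 : ((ModSite.tensorCx O).flip.obj P).map
          ((HomologicalComplex.single (ModSite.Mod O) (ComplexShape.up ℤ) m).map (fe O U f)) ≫ (tcLIso X m P).inv =
        (tcLIso X m P).inv ≫ (CategoryTheory.shiftFunctor (CC O) (-m)).map G :=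
      (Iso.comp_inv_eq (tcLIso X m P)).2 ((congrArg ((tcLIso X m P).inv ≫ ·) (tcLIso_natural m P (fe O U f))).symm.trans
        (Category.assoc _ _ _).symm |> fun e => (Iso.inv_hom_id_assoc (tcLIso X m P) _).symm.trans e)
    have h3 := (Q.map_comp _ _).symm.trans ((congrArg Q.map h2).trans (Q.map_comp _ _))
    have h4 := (Q.commShiftIso (-m)).hom.naturality G
    dsimp only [Functor.comp_obj, Functor.comp_map] at h1 h4
    simp only [i, Iso.trans_hom, asIso_hom, Functor.mapIso_hom, Iso.symm_hom, Iso.app_hom, Category.assoc]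
    refine ((Category.assoc _ _ _).symm.trans ((congrArg (· ≫ _) h1).trans (Category.assoc _ _ _))).trans ?_
    refine congrArg (_ ≫ ·) ?_
    refine ((Category.assoc _ _ _).symm.trans ((congrArg (· ≫ _) h3).trans (Category.assoc _ _ _))).trans ?_
    exact congrArg (_ ≫ ·) h4
  refine (compEnd_iff_of_iso _ _ i (Iso.refl L) hi).2 ((compEnd_shift (Q.map G) L m).2 ?_)
  exact compEnd_tensorBi U f (L⟦m⟧) (compEnd_cover_shift U f L h m) P

end Groth.Agent.DerComp18
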