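import Groth.Agent.DerComp18.NoHom
import Groth.Agent.DerComp18.KResolution
import Groth.Agent.DerComp18.TensorComp

/-!
Vanishing of morphisms in the derived category of modules is local on the site.
-/

universe u

open CategoryTheory CategoryTheory.Limits Opposite DerivedCategory

attribute [local instance] HasDerivedCategory.standard

set_option autoImplicit false

namespace Groth.Agent.DerComp18

open Groth.Agent.Mod48 Groth.Agent.Mod48.LocGen

variable {C : Type u} [SmallCategory C] {J : GrothendieckTopology C} {O : Sheaf J CommRingCat.{u}}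

/-- `F ⊗ O` is `F`. -/
noncomputable def tcUnitIso (F : CC O) : tc F (sgl (ModSite.unit O)) ≅ F :=
  (tcSingleIso F (ModSite.unit O)).symm ≪≫
    (NatIso.mapHomologicalComplex (tRIso (ModSite.unit O) ≪≫ (tensSymm (ModSite.unit O)).symm ≪≫ tensUnit)
      (ComplexShape.up ℤ)).app F ≪≫
    (Functor.mapHomologicalComplexIdIso (ModSite.Mod O) (ComplexShape.up ℤ)).app F

lemma isKFlat_unit : ModSite.IsKFlat (sgl (ModSite.unit O)) :=
  (isKFlat_iff _).2 fun F hF => acyclic_of_iso (tcUnitIso F).symm hF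

variable (P : CC O) (L : DerivedCategory (ModSite.Mod O))

/-- Objects over which there are no maps from `P` to `L`. -/
def Good (V : C) : Prop := NoHom ((restrD V).obj (Q.obj P)) ((restrD V).obj L)

variable {P L}

/-- `j_! O_V ⊗ P` has no maps to `L` for good `V`. -/
lemma noHom_tensorBi_freeOn {V : C} (hV : Good P L V) :
    NoHom (Q.obj ((((ModSite.tensorBi O).obj (ModSite.freeOn O V)).mapHomologicalComplex
      (ComplexShape.up ℤ)).obj P)) L := fun n => by
  have := restr_additive (O := O) V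
  have := (restr_exact (O := O) V).1
  have := (restr_exact (O := O) V).2
  have : (ModSite.extZero O V).Additive := DerComp.additive_extZero V
  have := SiteMod.extZero_preservesFiniteLimits (O := O) V
  have : PreservesFiniteColimits (ModSite.extZero O V) :=
    ⟨fun _ _ _ => ((ModSite.extZeroAdj O V).leftAdjoint_preservesColimits :
      PreservesColimitsOfSize.{0, 0} (ModSite.extZero O V)).preservesColimitsOfShape⟩
  have : ((ModSite.restr O V).mapDerivedCategory).IsRightDerivedFunctor
      (ModSite.restr O V).mapDerivedCategoryFactorsh.inv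
      (HomotopyCategory.quasiIso (ModSite.Mod O) (ComplexShape.up ℤ)) :=
    Functor.isRightDerivedFunctor_of_inverts _ (ModSite.restr O V).mapDerivedCategory
      (ModSite.restr O V).mapDerivedCategoryFactorsh
  let adj : (ModSite.extZero O V).mapDerivedCategory ⊣ (ModSite.restr O V).mapDerivedCategory :=
    derivedAdj (ModSite.extZeroAdj O V) (enoughKInj_mod O) (ModSite.restr O V).mapDerivedCategory
      (ModSite.restr O V).mapDerivedCategoryFactorsh.inv
  let R : CC (O.over V) := ((ModSite.restr O V).mapHomologicalComplex (ComplexShape.up ℤ)).obj P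
  let ψ : ((ModSite.tensorBi O).obj (freeModel V)) ≅ (ModSite.tensorBi O).obj (ModSite.freeOn O V) :=
    (ModSite.tensorBi O).mapIso (freeModelIso V)
  let c : ((ModSite.extZero O V).mapHomologicalComplex (ComplexShape.up ℤ)).obj R ≅
      (((ModSite.tensorBi O).obj (ModSite.freeOn O V)).mapHomologicalComplex (ComplexShape.up ℤ)).obj P :=
    (NatIso.mapHomologicalComplex (projFree V ≪≫ (tLIso (freeModel V)).symm ≪≫ ψ) (ComplexShape.up ℤ)).app P
  let e : (ModSite.extZero O V).mapDerivedCategory.obj (Q.obj R) ≅ Q.obj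
      ((((ModSite.tensorBi O).obj (ModSite.freeOn O V)).mapHomologicalComplex (ComplexShape.up ℤ)).obj P) :=
    (ModSite.extZero O V).mapDerivedCategoryFactors.app R ≪≫ Q.mapIso c
  let r : (ModSite.restr O V).mapDerivedCategory.obj (Q.obj P) ≅ Q.obj R :=
    (ModSite.restr O V).mapDerivedCategoryFactors.app P
  let s : (ModSite.restr O V).mapDerivedCategory.obj (L⟦n⟧) ≅ ((restrD V).obj L)⟦n⟧ :=
    ((ModSite.restr O V).mapDerivedCategory.commShiftIso n).app L
  exact (Equiv.subsingleton_congr (e.symm.homFromEquiv.trans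
    ((adj.homEquiv _ _).trans (r.symm.homFromEquiv.trans s.homToEquiv)))).2 (hV n)

variable (P L)

/-- Sums of `j_! O_V` for good `V`. -/
def GoodSum (M : ModSite.Mod O) : Prop :=
  ∃ (ι : Type u) (V : ι → C), (∀ j, Good P L (V j)) ∧ Nonempty (M ≅ ∐ fun j => ModSite.freeOn O (V j))

/-- K-flat complexes whose tensor product with `P` has no maps to `L`. -/
def TensNoHom (K : CC O) : Prop := ModSite.IsKFlat K ∧ NoHom (Q.obj (tc P K)) L

variable {P L}

lemma isFlat_goodSum {M : ModSite.Mod O} (h : GoodSum P L M) : ModSite.IsFlat M := by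
  obtain ⟨ι, V, -, ⟨e⟩⟩ := h
  exact isFlat_of_iso e.symm (isFlat_of_isColimit_cofan _ (fun j => isFlat_freeOn (V j)) _ (coproductIsCoproduct _))

lemma noHom_tc_single [IsGrothendieckAbelian.{u} (ModSite.Mod O)] {M : ModSite.Mod O} (h : GoodSum P L M)
    (m : ℤ) : NoHom (Q.obj (tc P (sglAt M m))) L := by
  obtain ⟨ι, V, hV, ⟨e⟩⟩ := h
  let X : ι → CC O := fun j =>
    (((ModSite.tensorBi O).obj (ModSite.freeOn O (V j))).mapHomologicalComplex (ComplexShape.up ℤ)).obj P
  let F := fun j => ModSite.freeOn O (V j)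
  let c : Cofan X := Cofan.mk ((((ModSite.tensorBi O).obj M).mapHomologicalComplex (ComplexShape.up ℤ)).obj P)
    fun j => (NatTrans.mapHomologicalComplex ((ModSite.tensorBi O).map (Sigma.ι F j ≫ e.inv))
      (ComplexShape.up ℤ)).app P
  have hM : IsColimit (Cofan.mk M fun j => Sigma.ι F j ≫ e.inv) :=
    (coproductIsCoproduct F).ofIsoColimit (Cofan.ext e.symm (fun j => rfl))
  have hc : IsColimit c := HomologicalComplex.isColimitOfEval _ _ fun p => by
    have : PreservesColimitsOfShape (Discrete ι) ((ModSite.tensorBi O).flip.obj (P.X p)) :=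
      preservesColimitsOfShape_of_natIso (tRIso (P.X p)).symm
    let G := (ModSite.tensorBi O).flip.obj (P.X p)
    let α : Discrete.functor X ⋙ HomologicalComplex.eval (ModSite.Mod O) (ComplexShape.up ℤ) p ≅
        Discrete.functor fun j => G.obj (F j) := Discrete.natIso fun _ => Iso.refl _
    exact ((IsColimit.precomposeHomEquiv α _).symm (isColimitCofanMkObjOfIsColimit G _ _ hM)).ofIsoColimit
      (Cocone.ext (Iso.refl _) fun j => (Category.comp_id _).trans (Category.id_comp _))
  have h0 : NoHom (Q.obj c.pt) L := NoHom.cofan hc fun j => noHom_tensorBi_freeOn (hV j)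
  exact (h0.shift (-m)).of_iso (((Q.commShiftIso (-m)).app _).symm ≪≫ Q.mapIso (tcLIso M m P) ≪≫
    Q.mapIso (tcSymm (sglAt M m) P))

lemma noHom_tc_shift {K : CC O} (h : NoHom (Q.obj (tc P K)) L) (k : ℤ) : NoHom (Q.obj (tc P (K⟦k⟧))) L :=
  (h.shift k).of_iso (((Q.commShiftIso k).app _).symm ≪≫
    Q.mapIso (CochainComplex.mapBifunctorShift₂Iso P K (ModSite.tensorBi O) k).symm)

/-- The class used in the descent. -/
lemma isResClass (hcov : ∀ U : C, ∃ S ∈ J U, ∀ ⦃V : C⦄ (g : V ⟶ U), S g → Good P L V) :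
    IsResClass (GoodSum P L) (TensNoHom P L) := by
  have : IsGrothendieckAbelian.{u} (ModSite.Mod O) :=
    Coh69.sheafOfModules_isGrothendieckAbelian (ModSite.ringSh O)
  have hzd : ∀ W : ℤ → ModSite.Mod O, (∀ n, GoodSum P L (W n)) → NoHom (Q.obj (tc P (zd W))) L := fun W hW =>
    NoHom.cofan (isColimitCofanMkObjOfIsColimit ((ModSite.tensorCx O).obj P) _ _ (isColimitZd W))
      fun n => noHom_tc_single (hW n) n
  refine ⟨fun F => ?_, fun W hW => ⟨isKFlat_zd W fun n => isFlat_goodSum (hW n), hzd W hW⟩,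
    fun W K q hW hK => ?_, fun {K K'} hK hK' => ?_, fun D hD => ?_⟩
  · let T := Σ V : { V : C // Good P L V }, ((pre F).obj (op V.1) : Type u)
    let π : (∐ fun t : T => ModSite.freeOn O t.1.1) ⟶ F :=
      Sigma.desc fun t => (freeOnEquiv t.1.1 F).symm t.2
    refine ⟨_, π, ⟨T, fun t => t.1.1, fun t => t.1.2, ⟨Iso.refl _⟩⟩, ⟨fun {Z} g h hgh => ?_⟩⟩
    refine (fgt (O := O)).map_injective (PresheafOfModules.hom_ext fun X => ModuleCat.hom_ext (LinearMap.ext fun s => ?_))
    obtain ⟨U⟩ := X
    obtain ⟨S, hS, hS'⟩ := hcov U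
    refine ext_of_sieve hS fun V k hk => ?_
    rw [← app_res, ← app_res]
    have h1 : (freeOnEquiv V F).symm (res (pre F) k.op s) ≫ g = (freeOnEquiv V F).symm (res (pre F) k.op s) ≫ h := by
      rw [← show Sigma.ι (fun t : T => ModSite.freeOn O t.1.1) ⟨⟨V, hS' k hk⟩, res (pre F) k.op s⟩ ≫ π =
        (freeOnEquiv V F).symm (res (pre F) k.op s) from Sigma.ι_desc _ _, Category.assoc, Category.assoc, hgh]
    have h2 := congrArg (freeOnEquiv V Z) h1
    rw [freeOnEquiv_comp, freeOnEquiv_comp, Equiv.apply_symm_apply] at h2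
    exact h2
  · refine ⟨(isKFlat_cone_two_out_of_three q).1 (isKFlat_zd W fun n => isFlat_goodSum (hW n)) hK.1, ?_⟩
    exact NoHom.X₂_of_shortExact (shortExact_tensorCx_obj_of_split P (coneSC q) (coneSC_splitting q)) hK.2
      (noHom_tc_shift (hzd W hW) 1)
  · refine ⟨isKFlat_biprod hK.1 hK'.1, ?_⟩
    exact NoHom.X₂_of_shortExact (shortExact_tensorCx_obj_of_split P
      (ShortComplex.mk (biprod.inl : K ⟶ K ⊞ K') biprod.snd (by simp)) fun n =>
        ⟨(ShortComplex.Splitting.mk (S := ShortComplex.mk (biprod.inl : K ⟶ K ⊞ K') biprod.snd (by simp))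
          biprod.fst biprod.inr).map (ev n)⟩) hK.2 hK'.2
  · exact ⟨isKFlat_of_isColimit D _ (colimit.isColimit D) fun k => (hD k).1,
      NoHom.nat _ (isColimitOfPreserves ((ModSite.tensorCx O).obj P) (colimit.isColimit D)) fun k => (hD k).2⟩

/-- **Descent**: morphisms vanish if they vanish on the members of coverings. -/
theorem noHom_of_cover (K L : DerivedCategory (ModSite.Mod O))
    (hcov : ∀ U : C, ∃ S ∈ J U, ∀ ⦃V : C⦄ (g : V ⟶ U), S g → NoHom ((restrD V).obj K) ((restrD V).obj L)) :
    NoHom K L := by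
  let P := Q.objPreimage K
  have hP : ∀ U : C, ∃ S ∈ J U, ∀ ⦃V : C⦄ (g : V ⟶ U), S g → Good P L V := fun U => by
    obtain ⟨S, hS, h⟩ := hcov U
    exact ⟨S, hS, fun V g hg => (h g hg).of_iso ((restrD V).mapIso (Q.objObjPreimageIso K).symm)⟩
  obtain ⟨R, q, ⟨hR, hR'⟩, hq⟩ := exists_resolution_class (sgl (ModSite.unit O)) (isResClass hP)
  have := quasiIso_tensor_left' hR isKFlat_unit q P
  have : IsIso (Q.map (((ModSite.tensorCx O).obj P).map q)) :=
    (isIso_Q_map_iff_quasiIso (ModSite.Mod O) _).2 inferInstance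
  exact hR'.of_iso (@asIso _ _ _ _ (Q.map (((ModSite.tensorCx O).obj P).map q)) ‹_› ≪≫ Q.mapIso (tcUnitIso P) ≪≫
    Q.objObjPreimageIso K)

end Groth.Agent.DerComp18
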