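import Groth.Agent.DerComp18.PushPerp
import Groth.Agent.DerComp18.Descent
import Groth.Agent.CohDer42.RdAdj
import Groth.Agent.CohDer42.RlimRight

/-!
`RHom(O_s, K)` is the derived limit of multiplication by `s` on `K`.
-/

universe u

open CategoryTheory CategoryTheory.Limits Opposite DerivedCategory Pretriangulated MonoidalCategory

attribute [local instance] HasDerivedCategory.standard

set_option autoImplicit false

namespace Groth.Agent.DerComp18

open Groth.Agent.Mod48

variable {C : Type u} [SmallCategory C] {J : GrothendieckTopology C} {O : Sheaf J CommRingCat.{u}}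
  (s : DerComp.GSec O)

section Seq

/-- The sequence of multiplications by `s`. -/
noncomputable def smulSeq (X : ModSite.Mod O) : ℕ ⥤ ModSite.Mod O :=
  Functor.ofSequence (X := fun _ => X) fun _ => DerComp.smulEnd s X

@[simp] lemma smulSeq_map_succ (X : ModSite.Mod O) (n : ℕ) :
    (smulSeq s X).map (homOfLE (Nat.le_succ n)) = DerComp.smulEnd s X :=
  Functor.ofSequence_map_homOfLE_succ _ n

/-- The maps into the localisation. -/
noncomputable def toLoc (X : ModSite.Mod O) (n : ℕ) : X ⟶ DerComp.locAway s X :=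
  Sigma.ι (fun _ : ℕ => X) n ≫ cokernel.π (DerComp.awayMap s X)

lemma smul_toLoc (X : ModSite.Mod O) (n : ℕ) : DerComp.smulEnd s X ≫ toLoc s X (n + 1) = toLoc s X n := by
  have h := congrArg (Sigma.ι (fun _ : ℕ => X) n ≫ ·) (cokernel.condition (DerComp.awayMap s X))
  simp only [DerComp.awayMap, Sigma.ι_desc_assoc, Preadditive.sub_comp, Category.assoc] at h
  exact (sub_eq_zero.1 (h.trans comp_zero)).symm

/-- The cocone of the localisation. -/
noncomputable def locCocone (X : ModSite.Mod O) : Cocone (smulSeq s X) :=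
  Cocone.mk (DerComp.locAway s X) (NatTrans.ofSequence (fun n => toLoc s X n) fun n => by
    rw [smulSeq_map_succ]
    exact (smul_toLoc s X n).trans (Category.comp_id _).symm)

/-- The localisation is the colimit of the multiplications. -/
noncomputable def isColimitLocCocone (X : ModSite.Mod O) : IsColimit (locCocone s X) where
  desc c := cokernel.desc _ (Sigma.desc fun n => c.ι.app n) (Sigma.hom_ext _ _ fun n => by
    have := c.w (homOfLE (Nat.le_succ n))
    rw [smulSeq_map_succ] at this
    simp only [DerComp.awayMap, Sigma.ι_desc_assoc, Preadditive.sub_comp, Category.assoc, Sigma.ι_desc, comp_zero]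
    exact sub_eq_zero.2 this.symm)
  fac c n := by
    change toLoc s X n ≫ _ = _
    rw [toLoc, Category.assoc, cokernel.π_desc, Sigma.ι_desc]
  uniq c m hm := by
    refine coequalizer.hom_ext (Sigma.hom_ext _ _ fun n => ?_)
    erw [cokernel.π_desc]
    rw [Sigma.ι_desc]
    exact (Category.assoc _ _ _).symm.trans (hm n)

end Seq

section Tensor

variable (X : ModSite.Mod O)

lemma preservesColimitsOfShape_tensorBi : PreservesColimitsOfShape ℕ ((ModSite.tensorBi O).obj X) := by
  have : PreservesColimitsOfSize.{u, u} (tL X) := ⟨inferInstance⟩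
  have := preservesColimitsOfSize_shrink.{0, u, 0, u} (tL X)
  exact preservesColimitsOfShape_of_natIso (tLIso X).symm

lemma tensorBi_map_smulEnd (Y : ModSite.Mod O) :
    ((ModSite.tensorBi O).obj X).map (DerComp.smulEnd s Y) =
      DerComp.smulEnd s (((ModSite.tensorBi O).obj X).obj Y) := by
  apply (shfHomEquiv _ _).injective
  rw [shfHomEquiv, Adjunction.homEquiv_unit, Adjunction.homEquiv_unit]
  refine (shfU_naturality (pre X ◁ fgt.map (DerComp.smulEnd s Y))).symm.trans ?_
  refine Eq.trans ?_ (congrArg (shfU (pre X ⊗ pre Y) ≫ ·) (fgt_smulEnd s _).symm)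
  refine Eq.trans ?_ (preSmul_comm s (shfU (pre X ⊗ pre Y)))
  refine congrArg (· ≫ shfU (pre X ⊗ pre Y)) ?_
  rw [fgt_smulEnd]
  exact tensor_hom_ext fun W m n => tp_smul_right (preVal s W) m n

/-- `X ⊗ O` is `X`, naturally. -/
noncomputable def unitR : (ModSite.tensorBi O).flip.obj (ModSite.unit O) ≅ 𝟭 (ModSite.Mod O) :=
  tRIso (ModSite.unit O) ≪≫ (tensSymm (ModSite.unit O)).symm ≪≫ tensUnit

/-- The two sequences. -/
noncomputable def seqIso : smulSeq s (ModSite.unit O) ⋙ (ModSite.tensorBi O).obj X ≅ smulSeq s X :=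
  NatIso.ofComponents (fun _ => (unitR (O := O)).app X) fun {i j} g => by
    obtain ⟨h, rfl⟩ : ∃ h : i ≤ j, g = homOfLE h := ⟨leOfHom g, Subsingleton.elim _ _⟩
    induction h with
    | refl =>
      rw [show homOfLE (le_refl i) = 𝟙 i from rfl, CategoryTheory.Functor.map_id, CategoryTheory.Functor.map_id,
        Category.id_comp, Category.comp_id]
    | @step k hk ih =>
      rw [show homOfLE (Nat.le.step hk) = homOfLE hk ≫ homOfLE (Nat.le_succ k) from Subsingleton.elim _ _,
        Functor.map_comp, Functor.map_comp, Category.assoc]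
      refine (congrArg (_ ≫ ·) ?_).trans ((reassoc_of% ih) _)
      change ((ModSite.tensorBi O).obj X).map ((smulSeq s (ModSite.unit O)).map (homOfLE (Nat.le_succ k))) ≫ _ =
        (unitR.app X).hom ≫ _
      rw [smulSeq_map_succ, smulSeq_map_succ]
      exact (congrArg (· ≫ _) (tensorBi_map_smulEnd s X _)).trans (DerComp.smulEnd_comm s _)

lemma isFlat_unit' : ModSite.IsFlat (ModSite.unit O) :=
  ⟨preservesFiniteLimits_of_natIso (unitR (O := O)).symm, preservesFiniteColimits_of_natIso (unitR (O := O)).symm⟩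

lemma isFlat_locAway : ModSite.IsFlat (DerComp.locAway s (ModSite.unit O)) :=
  isFlat_of_isColimit_nat (smulSeq s (ModSite.unit O)) (locCocone s (ModSite.unit O))
    (isColimitLocCocone s (ModSite.unit O)) fun _ => isFlat_unit'

/-- `X ⊗ O_s = X_s`. -/
noncomputable def tensLocIso : ((ModSite.tensorBi O).obj X).obj (DerComp.locAway s (ModSite.unit O)) ≅ DerComp.locAway s X :=
  haveI := preservesColimitsOfShape_tensorBi (O := O) X
  ((IsColimit.precomposeHomEquiv (seqIso s X).symm _).symm
    (isColimitOfPreserves ((ModSite.tensorBi O).obj X) (isColimitLocCocone s (ModSite.unit O)))).coconePointUniqueUpToIso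
      (isColimitLocCocone s X)

lemma ι_tensLocIso (n : ℕ) :
    ((ModSite.tensorBi O).obj X).map (toLoc s (ModSite.unit O) n) ≫ (tensLocIso s X).hom =
      (unitR.app X).hom ≫ toLoc s X n := by
  haveI := preservesColimitsOfShape_tensorBi (O := O) X
  have h := IsColimit.comp_coconePointUniqueUpToIso_hom
    ((IsColimit.precomposeHomEquiv (seqIso s X).symm _).symm
      (isColimitOfPreserves ((ModSite.tensorBi O).obj X) (isColimitLocCocone s (ModSite.unit O))))
    (isColimitLocCocone s X) n
  change ((unitR.app X).inv ≫ _) ≫ (tensLocIso s X).hom = toLoc s X n at h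
  rw [← h, Category.assoc, Iso.hom_inv_id_assoc]
  rfl

end Tensor

section Functors

/-- Localisation at `s`, as a functor. -/
noncomputable def locF : ModSite.Mod O ⥤ ModSite.Mod O where
  obj X := DerComp.locAway s X
  map {X Y} g := cokernel.map _ _ (Limits.Sigma.map fun _ => g) (Limits.Sigma.map fun _ => g) (Sigma.hom_ext _ _ fun n => by
    simp only [DerComp.awayMap, Sigma.ι_desc_assoc, Preadditive.sub_comp, Category.assoc, Sigma.ι_map_assoc, Sigma.ι_desc, Sigma.ι_map, Preadditive.comp_sub]
    rw [← Category.assoc (DerComp.smulEnd s X), DerComp.smulEnd_comm, Category.assoc])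
  map_id X := coequalizer.hom_ext (by simp)
  map_comp f g := coequalizer.hom_ext (by
    refine Sigma.hom_ext _ _ fun n => ?_
    simp)

lemma toLoc_map {X Y : ModSite.Mod O} (g : X ⟶ Y) (n : ℕ) :
    toLoc s X n ≫ (locF s).map g = g ≫ toLoc s Y n := by
  simp [toLoc, locF]

/-- `- ⊗ O_s` is the localisation. -/
noncomputable def locFIso : (ModSite.tensorBi O).flip.obj (DerComp.locAway s (ModSite.unit O)) ≅ locF s :=
  NatIso.ofComponents (fun X => tensLocIso s X) fun {X Y} g => by
    haveI := preservesColimitsOfShape_tensorBi (O := O) X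
    refine (isColimitOfPreserves ((ModSite.tensorBi O).obj X) (isColimitLocCocone s (ModSite.unit O))).hom_ext fun n => ?_
    change ((ModSite.tensorBi O).obj X).map (toLoc s (ModSite.unit O) n) ≫ ((ModSite.tensorBi O).map g).app _ ≫ _ =
      ((ModSite.tensorBi O).obj X).map (toLoc s (ModSite.unit O) n) ≫ _ ≫ _
    rw [NatTrans.naturality_assoc]
    refine (congrArg (_ ≫ ·) (ι_tensLocIso s Y n)).trans (Eq.trans ?_ ((reassoc_of% (ι_tensLocIso s X n)) _).symm)
    exact (Category.assoc _ _ _).symm.trans ((congrArg (· ≫ toLoc s Y n) (unitR.hom.naturality g)).trans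
      ((Category.assoc _ _ _).trans (congrArg (_ ≫ ·) (toLoc_map s g n).symm)))

instance : PreservesFiniteLimits (locF s) :=
  haveI := (isFlat_locAway s).1
  preservesFiniteLimits_of_natIso (locFIso s)

instance : PreservesFiniteColimits (locF s) :=
  haveI := (isFlat_locAway s).2
  preservesFiniteColimits_of_natIso (locFIso s)

instance : (locF s).Additive := Functor.additive_of_iso (locFIso s)

/-- The map whose kernel is right adjoint to the localisation. -/
noncomputable def delta (M : ModSite.Mod O) : (∏ᶜ fun _ : ℕ => M) ⟶ ∏ᶜ fun _ : ℕ => M :=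
  Pi.lift fun n => Pi.π _ n - Pi.π (fun _ : ℕ => M) (n + 1) ≫ DerComp.smulEnd s M

/-- `ker delta`, as a functor. -/
noncomputable def cofreeF : ModSite.Mod O ⥤ ModSite.Mod O where
  obj M := kernel (delta s M)
  map {M N} g := kernel.map _ _ (Limits.Pi.map fun _ => g) (Limits.Pi.map fun _ => g) (Pi.hom_ext _ _ fun n => by
    simp [delta, Preadditive.sub_comp, Preadditive.comp_sub, DerComp.smulEnd_comm])
  map_id M := equalizer.hom_ext (by simp)
  map_comp f g := equalizer.hom_ext (by
    refine Pi.hom_ext _ _ fun n => ?_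
    simp)

lemma lift_toLoc {X M : ModSite.Mod O} (y : DerComp.locAway s X ⟶ M) :
    (Pi.lift fun n => toLoc s X n ≫ y) ≫ delta s M = 0 := Pi.hom_ext _ _ fun n => by
  simp only [delta, Category.assoc, Pi.lift_π, Preadditive.comp_sub, Pi.lift_π_assoc, zero_comp]
  rw [← DerComp.smulEnd_comm s y, ← Category.assoc, ← DerComp.smulEnd_comm s (toLoc s X (n + 1)), smul_toLoc,
    sub_self]

lemma desc_kernel {X M : ModSite.Mod O} (z : X ⟶ kernel (delta s M)) :
    DerComp.awayMap s X ≫ Sigma.desc (fun n => z ≫ kernel.ι _ ≫ Pi.π _ n) = 0 := Sigma.hom_ext _ _ fun n => by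
  have h := congrArg (fun t => z ≫ t ≫ Pi.π (fun _ : ℕ => M) n) (kernel.condition (delta s M))
  simp only [delta, Category.assoc, Pi.lift_π, Preadditive.comp_sub, zero_comp, comp_zero] at h
  simp only [DerComp.awayMap, Sigma.ι_desc_assoc, Preadditive.sub_comp, Category.assoc, Sigma.ι_desc, comp_zero]
  rw [← Category.assoc (DerComp.smulEnd s X), DerComp.smulEnd_comm, Category.assoc,
    ← Category.assoc (DerComp.smulEnd s (kernel (delta s M))), DerComp.smulEnd_comm, Category.assoc,
    DerComp.smulEnd_comm s (Pi.π (fun _ : ℕ => M) (n + 1))]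
  exact h.trans ((congrArg (z ≫ ·) zero_comp).trans comp_zero)

lemma toLoc_desc {X M : ModSite.Mod O} (n : ℕ) (k : (∐ fun _ : ℕ => X) ⟶ M) (w : DerComp.awayMap s X ≫ k = 0) :
    toLoc s X n ≫ cokernel.desc _ k w = Sigma.ι (fun _ : ℕ => X) n ≫ k := by
  rw [toLoc, Category.assoc, cokernel.π_desc]

lemma lift_π {X M : ModSite.Mod O} (y : DerComp.locAway s X ⟶ M) (n : ℕ) :
    kernel.lift _ _ (lift_toLoc s y) ≫ kernel.ι (delta s M) ≫ Pi.π (fun _ : ℕ => M) n = toLoc s X n ≫ y := by
  rw [kernel.lift_ι_assoc, Pi.lift_π]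

lemma cofreeF_map_π {M N : ModSite.Mod O} (g : M ⟶ N) (n : ℕ) :
    (cofreeF s).map g ≫ kernel.ι (delta s N) ≫ Pi.π (fun _ : ℕ => N) n =
      kernel.ι (delta s M) ≫ Pi.π (fun _ : ℕ => M) n ≫ g := by
  simp [cofreeF]

lemma lift_natural_right {X M N : ModSite.Mod O} (y : DerComp.locAway s X ⟶ M) (g : M ⟶ N) :
    (kernel.lift _ _ (lift_toLoc s (y ≫ g)) : X ⟶ (cofreeF s).obj N) =
      (kernel.lift _ _ (lift_toLoc s y) : X ⟶ (cofreeF s).obj M) ≫ (cofreeF s).map g := by
  refine equalizer.hom_ext (Pi.hom_ext _ _ fun n => ?_)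
  refine ((Category.assoc _ _ _).trans (lift_π s (y ≫ g) n)).trans (Eq.symm ?_)
  refine ((Category.assoc _ _ _).trans ((Category.assoc _ _ _).trans (congrArg (_ ≫ ·) (cofreeF_map_π s g n)))).trans ?_
  exact ((congrArg (_ ≫ ·) (Category.assoc _ _ _).symm).trans (Category.assoc _ _ _).symm).trans
    ((congrArg (· ≫ g) (lift_π s y n)).trans (Category.assoc _ _ _))

/-- Localisation is left adjoint to `ker delta`. -/
noncomputable def locAdj : locF s ⊣ cofreeF s :=
  Adjunction.mkOfHomEquiv
    { homEquiv := fun X M =>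
        { toFun := fun y => kernel.lift _ _ (lift_toLoc s y)
          invFun := fun z => cokernel.desc _ _ (desc_kernel s z)
          left_inv := fun y => coequalizer.hom_ext (Sigma.hom_ext _ _ fun n => by simp [toLoc])
          right_inv := fun z => equalizer.hom_ext (Pi.hom_ext _ _ fun n => by simp [toLoc]) }
      homEquiv_naturality_left_symm := fun {X' X M} g z => coequalizer.hom_ext (Sigma.hom_ext _ _ fun n => by
        simp only [Equiv.coe_fn_symm_mk]
        erw [cokernel.π_desc]
        rw [Sigma.ι_desc]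
        refine Eq.symm ?_
        refine ((Category.assoc _ _ _).symm.trans ((congrArg (· ≫ _) (toLoc_map s g n)).trans (Category.assoc _ _ _))).trans ?_
        exact (congrArg (g ≫ ·) (toLoc_desc s n _ (desc_kernel s z))).trans
          ((congrArg (g ≫ ·) (Sigma.ι_desc _ _)).trans (Category.assoc _ _ _).symm))
      homEquiv_naturality_right := fun {X M N} y g => lift_natural_right s y g }

instance : (cofreeF s).Additive := (locAdj s).right_adjoint_additive

lemma tcSingleIso_natural {F G : CC O} (g : F ⟶ G) (A : ModSite.Mod O) :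
    (((ModSite.tensorBi O).flip.obj A).mapHomologicalComplex (ComplexShape.up ℤ)).map g ≫ (tcSingleIso G A).hom =
      (tcSingleIso F A).hom ≫ ((ModSite.tensorCx O).flip.obj (sgl A)).map g := by
  refine HomologicalComplex.hom_ext _ _ fun n => ?_
  change ((ModSite.tensorBi O).map (g.f n)).app A ≫ toTcSingleApp G A n =
    toTcSingleApp F A n ≫ (HomologicalComplex.mapBifunctorMap g (𝟙 (sgl A)) (ModSite.tensorBi O) (ComplexShape.up ℤ)).f n
  rw [toTcSingleApp, toTcSingleApp, Category.assoc, HomologicalComplex.ι_mapBifunctorMap, HomologicalComplex.id_f,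
    CategoryTheory.Functor.map_id, Category.id_comp, NatTrans.naturality_assoc]

end Functors

end Groth.Agent.DerComp18
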