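import Groth.Agent.Mod48.KFlatSymm
import Groth.Agent.DCK91.LeftDer
import Groth.Agent.DCK91.KFlat
import Groth.Prelude.Def_KFlatSite

/-!
The derived tensor product on a ringed site takes the value of the tensor product on K-flat complexes.
-/

universe u v₁ v₂ v₃ u₁ u₂ u₃

open CategoryTheory CategoryTheory.Limits DerivedCategory

attribute [local instance] HasDerivedCategory.standard

set_option autoImplicit false

namespace Groth.Agent.DerComp18

open Groth.Agent.Mod48

section Transfer

variable {A : Type u₁} [Category.{v₁} A] [Preadditive A] {c : ComplexShape ℤ}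
  {D : Type u₂} [Category.{v₂} D] {H : Type u₃} [Category.{v₃} H]
  {L : HomologicalComplex A c ⥤ D} {Lh : HomotopyCategory A c ⥤ D}
  {F : HomologicalComplex A c ⥤ H} {Fh : HomotopyCategory A c ⥤ H}
  (eL : HomotopyCategory.quotient A c ⋙ Lh ≅ L) (eF : HomotopyCategory.quotient A c ⋙ Fh ≅ F)

/-- An extension along complexes gives one along the homotopy category. -/
noncomputable def descExt (E : Functor.RightExtension L F) : Lh ⋙ E.left ⟶ Fh where
  app Y := E.left.map (eL.hom.app Y.as) ≫ E.hom.app Y.as ≫ eF.inv.app Y.as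
  naturality := by
    rintro ⟨X⟩ ⟨Y⟩ g
    obtain ⟨f, rfl⟩ := (HomotopyCategory.quotient A c).map_surjective g
    change E.left.map (Lh.map ((HomotopyCategory.quotient A c).map f)) ≫ E.left.map (eL.hom.app Y) ≫ _ =
      (E.left.map (eL.hom.app X) ≫ _) ≫ Fh.map ((HomotopyCategory.quotient A c).map f)
    have h1 : Lh.map ((HomotopyCategory.quotient A c).map f) ≫ eL.hom.app Y = eL.hom.app X ≫ L.map f :=
      eL.hom.naturality f
    have h2 : eF.inv.app X ≫ Fh.map ((HomotopyCategory.quotient A c).map f) = F.map f ≫ eF.inv.app Y :=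
      (eF.inv.naturality f).symm
    have h3 : E.left.map (L.map f) ≫ E.hom.app Y = E.hom.app X ≫ F.map f := E.hom.naturality f
    refine (E.left.map_comp_assoc _ _ _).symm.trans ?_
    refine ((congrArg (fun t => E.left.map t ≫ E.hom.app Y ≫ eF.inv.app Y) h1).trans
      (E.left.map_comp_assoc _ _ _)).trans ?_
    refine ((congrArg (E.left.map (eL.hom.app X) ≫ ·) ((Category.assoc _ _ _).symm.trans
      ((congrArg (· ≫ eF.inv.app Y) h3).trans (Category.assoc _ _ _)))).trans ?_)
    refine (congrArg (fun t => E.left.map (eL.hom.app X) ≫ E.hom.app X ≫ t) h2.symm).trans ?_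
    exact ((congrArg (E.left.map (eL.hom.app X) ≫ ·) (Category.assoc _ _ _).symm)).trans (Category.assoc _ _ _).symm

include eL eF in
/-- Derived functors on the homotopy category give derived functors on complexes. -/
theorem isRightKanExtension_of_quotient (G : D ⥤ H) (α : Lh ⋙ G ⟶ Fh) (hα : G.IsRightKanExtension α)
    (a : L ⋙ G ⟶ F) (ha : ∀ X, a.app X =
      G.map (eL.inv.app X) ≫ α.app ((HomotopyCategory.quotient A c).obj X) ≫ eF.hom.app X) :
    G.IsRightKanExtension a := by
  refine ⟨⟨IsTerminal.ofUniqueHom (Y := Functor.RightExtension.mk G a)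
    (fun E => CostructuredArrow.homMk (G.liftOfIsRightKanExtension α E.left (descExt eL eF E)) ?_)
    (fun E m => CostructuredArrow.hom_ext _ _ (G.hom_ext_of_isRightKanExtension α _ _ ?_))⟩⟩
  · ext X
    let τ := G.liftOfIsRightKanExtension α E.left (descExt eL eF E)
    change τ.app (L.obj X) ≫ a.app X = E.hom.app X
    have h : τ.app (Lh.obj ((HomotopyCategory.quotient A c).obj X)) ≫ α.app _ =
        E.left.map (eL.hom.app X) ≫ E.hom.app X ≫ eF.inv.app X :=
      G.liftOfIsRightKanExtension_fac_app α E.left (descExt eL eF E) _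
    rw [ha]
    refine (τ.naturality_assoc (eL.inv.app X) _).symm.trans ?_
    refine (congrArg (E.left.map (eL.inv.app X) ≫ ·) ((Category.assoc _ _ _).symm.trans
      (congrArg (· ≫ eF.hom.app X) h))).trans ?_
    refine (congrArg (E.left.map (eL.inv.app X) ≫ ·) (Category.assoc _ _ _)).trans
      ((E.left.map_comp_assoc _ _ _).symm.trans ?_)
    refine (congrArg (fun t => E.left.map t ≫ (E.hom.app X ≫ eF.inv.app X) ≫ eF.hom.app X)
      (eL.inv_hom_id_app X)).trans ?_
    refine ((congrArg (· ≫ _) (E.left.map_id _)).trans (Category.id_comp _)).trans ((Category.assoc _ _ _).trans ?_)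
    exact (congrArg (E.hom.app X ≫ ·) (eF.inv_hom_id_app X)).trans (Category.comp_id _)
  · ext ⟨X⟩
    change m.left.app _ ≫ α.app _ = (G.liftOfIsRightKanExtension α E.left (descExt eL eF E)).app _ ≫ α.app _
    rw [G.liftOfIsRightKanExtension_fac_app]
    have hm : m.left.app (L.obj X) ≫ a.app X = E.hom.app X := congr_app (CostructuredArrow.w m) X
    change m.left.app (Lh.obj ((HomotopyCategory.quotient A c).obj X)) ≫ α.app _ =
      E.left.map (eL.hom.app X) ≫ E.hom.app X ≫ eF.inv.app X
    rw [← hm, ha]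
    refine Eq.symm ((congrArg (E.left.map (eL.hom.app X) ≫ ·) (Category.assoc _ _ _)).trans
      ((m.left.naturality_assoc _ _).trans ?_))
    refine congrArg (m.left.app _ ≫ ·) ?_
    refine (congrArg (G.map (eL.hom.app X) ≫ ·) ((Category.assoc _ _ _).trans
      (congrArg (G.map (eL.inv.app X) ≫ ·) ((Category.assoc _ _ _).trans
        ((congrArg (α.app _ ≫ ·) (eF.hom_inv_id_app X)).trans (Category.comp_id _)))))).trans ?_
    exact (G.map_comp_assoc _ _ _).symm.trans ((congrArg (fun t => G.map t ≫ α.app _) (eL.hom_inv_id_app X)).trans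
      ((congrArg (· ≫ _) (G.map_id _)).trans (Category.id_comp _)))

end Transfer

variable {C : Type u} [SmallCategory C] {J : GrothendieckTopology C} {O : Sheaf J CommRingCat.{u}}

/-- `- ⊗ P` on the homotopy category. -/
noncomputable def tensorKh (P : CC O) :
    HomotopyCategory (ModSite.Mod O) (ComplexShape.up ℤ) ⥤ DCoh.DMod (ModSite.ringSh O) :=
  CategoryTheory.Quotient.lift _ (ModSite.tensorCxQ P) fun _ _ _ _ ⟨h⟩ =>
    Q_map_eq_of_homotopy (ModSite.Mod O) ((preservesHtp_tensorCx_flip_obj P) _ _ h).some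

/-- Complexes which are K-flat, in the homotopy category. -/
def KFl (O : Sheaf J CommRingCat.{u}) : ObjectProperty (HomotopyCategory (ModSite.Mod O) (ComplexShape.up ℤ)) :=
  fun X => ModSite.IsKFlat X.as

lemma hasRes_KFl : DCK91.HasRes (HomotopyCategory.quasiIso (ModSite.Mod O) (ComplexShape.up ℤ)) (KFl O) := by
  rintro ⟨M⟩
  obtain ⟨K, q, hK, -, hq, -⟩ := exists_resolution M
  exact ⟨⟨K⟩, (HomotopyCategory.quotient _ _).map q, hK,
    (HomotopyCategory.quotient_map_mem_quasiIso_iff q).2 hq⟩

lemma quasiIso_tensor_first {F F' : CC O} (hF : ModSite.IsKFlat F) (hF' : ModSite.IsKFlat F') (α : F ⟶ F')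
    [QuasiIso α] (P : CC O) : QuasiIso (((ModSite.tensorCx O).flip.obj P).map α) :=
  quasiIso_map_of_split _ α (preservesHtp_tensorCx_flip_obj P)
    (fun S _ hσ => shortExact_tensorCx_flip_obj_of_split P S hσ)
    (fun S h1 h2 _ hσ h => acyclic_of_iso (tcSymm P S.X₃) (acyclic_tc_of_isKFlat_acyclic P S.X₃
      ((isKFlat_two_out_of_three S fun G => shortExact_tensorCx_obj_of_split G S hσ).1 (h1 ▸ hF)
        (h2 ▸ isKFlat_biprod hF' (isKFlat_of_homotopy_id_zero
          (CochainComplex.mappingCone.homotopyToZeroOfId F)))) h))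

lemma inverts_KFl (P : CC O) :
    (DCK91.W₀ (HomotopyCategory.quasiIso (ModSite.Mod O) (ComplexShape.up ℤ)) (KFl O)).IsInvertedBy
      ((KFl O).ι ⋙ tensorKh P) := by
  rintro ⟨⟨K⟩, hK⟩ ⟨⟨L⟩, hL⟩ f hf
  obtain ⟨φ, hφ⟩ := (HomotopyCategory.quotient (ModSite.Mod O) (ComplexShape.up ℤ)).map_surjective f.hom
  have : QuasiIso φ := by
    refine (HomotopyCategory.quotient_map_mem_quasiIso_iff φ).1 ?_
    rw [hφ]
    exact hf
  change IsIso ((tensorKh P).map f.hom)
  rw [← hφ]
  change IsIso (Q.map (((ModSite.tensorCx O).flip.obj P).map φ))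
  have := quasiIso_tensor_first (O := O) hK hL φ P
  exact (isIso_Q_map_iff_quasiIso (φ := ((ModSite.tensorCx O).flip.obj P).map φ)).2 this

variable (P : CC O) [ModSite.HasLTensorCx P]

/-- The counit of `- ⊗^L P`. -/
noncomputable abbrev ltCounit : Q ⋙ ModSite.LTensorCx P ⟶ ModSite.tensorCxQ P :=
  (ModSite.tensorCxQ P).totalLeftDerivedCounit DerivedCategory.Q
    (HomologicalComplex.quasiIso (ModSite.Mod O) (ComplexShape.up ℤ))

/-- `X ⊗^L P = X ⊗ P` for K-flat `X`. -/
theorem isIso_ltCounit (X : CC O) (hX : ModSite.IsKFlat X) : IsIso ((ltCounit P).app X) := by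
  obtain ⟨G, α, hG, hi⟩ := DCK91.exists_leftDerived (DerivedCategory.Qh) hasRes_KFl (inverts_KFl P)
  let q := HomotopyCategory.quotient (ModSite.Mod O) (ComplexShape.up ℤ)
  let eF : q ⋙ tensorKh P ≅ ModSite.tensorCxQ P := CategoryTheory.Quotient.lift.isLift _ _ _
  let eL : q ⋙ DerivedCategory.Qh ≅ DerivedCategory.Q := quotientCompQhIso (ModSite.Mod O)
  let a : Q ⋙ G ⟶ ModSite.tensorCxQ P :=
    Functor.whiskerRight eL.inv G ≫ (Functor.associator _ _ _).hom ≫ Functor.whiskerLeft q α ≫ eF.hom
  have ha : G.IsRightKanExtension a := isRightKanExtension_of_quotient eL eF G α hG.isRightKanExtension a fun Y => by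
    simp [a, q]
  have : G.IsLeftDerivedFunctor a (HomologicalComplex.quasiIso (ModSite.Mod O) (ComplexShape.up ℤ)) := ⟨ha⟩
  let RF := ModSite.LTensorCx P
  have : RF.IsLeftDerivedFunctor (ltCounit P) (HomologicalComplex.quasiIso (ModSite.Mod O) (ComplexShape.up ℤ)) :=
    inferInstance
  have hiX : IsIso (a.app X) := by
    have := hi (q.obj X) hX
    simp only [a, NatTrans.comp_app, Functor.whiskerRight_app, Functor.associator_hom_app, Functor.whiskerLeft_app]
    infer_instance
  rw [← G.leftDerived_fac_app a (HomologicalComplex.quasiIso (ModSite.Mod O) (ComplexShape.up ℤ)) RF (ltCounit P) X]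
  have : IsIso (G.leftDerivedLift a (HomologicalComplex.quasiIso (ModSite.Mod O) (ComplexShape.up ℤ)) RF (ltCounit P)) :=
    (Functor.isLeftDerivedFunctor_iff_isIso_leftDerivedLift G a _ RF (ltCounit P)).1 inferInstance
  infer_instance

end Groth.Agent.DerComp18
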