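import Groth.Agent.DCX42.Der
import Groth.Agent.DCX42.Res
import Groth.Agent.QC70.CohOps
import Groth.Agent.QC70.FiniteType
import Groth.Agent.CD47.Resolution
import Groth.Agent.Amp73.CounitIff

/-!
Pseudo-coherent objects on locally Noetherian schemes have coherent cohomology sheaves.
-/

set_option autoImplicit false
set_option backward.isDefEq.respectTransparency false
set_option backward.isDefEq.respectTransparency.types false

universe u

open CategoryTheory CategoryTheory.Limits AlgebraicGeometry TopologicalSpace DerivedCategory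

attribute [local instance] HasDerivedCategory.standard

namespace Groth.Agent.DerComp18

open Groth.Agent.DCX42

variable {X : Scheme.{u}} [IsLocallyNoetherian X]

lemma isCoh_homology {E : CochainComplex X.Modules ℤ} (hE : ∀ i, Coh.IsCoh (E.X i)) (i : ℤ) :
    Coh.IsCoh (E.homology i) := by
  have hc : Coh.IsCoh (E.cycles i) := QC70.isCoh_of_iso
    ((kernelIsKernel (E.d i (i + 1))).conePointUniqueUpToIso (E.cyclesIsKernel i (i + 1) (by simp)))
    (QC70.isCoh_kernel _ (hE i) (hE (i + 1)).1)
  exact QC70.isCoh_of_iso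
    ((cokernelIsCokernel (E.toCycles (i - 1) i)).coconePointUniqueUpToIso (E.homologyIsCokernel (i - 1) i (by simp)))
    (QC70.isCoh_cokernel _ (hE (i - 1)).1 hc)

/-- Coherence may be checked on an open cover. -/
theorem isCoh_of_forall_mem (M : X.Modules) (h : ∀ x : X, ∃ V : X.Opens, x ∈ V ∧ Coh.IsCoh (M.restrict V.ι)) :
    Coh.IsCoh M := by
  choose V hxV hV using h
  haveI : M.IsQuasicoherent := QC70.isQuasicoherent_of_isOpenCover M V
    (IsOpenCover.mk (top_le_iff.mp fun x _ => Opens.mem_iSup.mpr ⟨x, hxV x⟩)) fun x => (hV x).1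
  choose W hW hxW hWV using fun x : X => exists_isAffineOpen_mem_and_subset (U := V x) (hxV x)
  refine ⟨inferInstance, QC70.isFiniteType_of_finite_sections M W
    (IsOpenCover.mk (top_le_iff.mp fun x _ => Opens.mem_iSup.mpr ⟨x, hxW x⟩)) hW fun x => ?_⟩
  let U := V x
  let W' : U.toScheme.Opens := U.ι ⁻¹ᵁ W x
  have hWW : U.ι ''ᵁ W' = W x := by
    rw [Scheme.Hom.image_preimage_eq_opensRange_inf, Scheme.Opens.opensRange_ι]
    exact inf_eq_right.2 (hWV x)
  have hW' : IsAffineOpen W' := by
    rw [← U.ι.isAffineOpen_iff_of_isOpenImmersion, hWW]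
    exact hW x
  haveI := (hV x).1
  haveI := (hV x).2
  haveI := QC70.finite_sections_of_isFiniteType (M.restrict U.ι) hW'
  obtain ⟨n, s, hs⟩ := Module.Finite.exists_fin (R := Γ(U.toScheme, W'))
    (M := Γ(M.restrict U.ι, W'))
  let e : Γ(M.restrict U.ι, W') → Γ(M, W x) := fun z =>
    QC70.res M hWW.ge ((M.restrictAppIso U.ι W').hom z)
  refine Module.Finite.of_fg_top ⟨(Set.finite_range (e ∘ s)).toFinset, ?_⟩
  rw [Set.Finite.coe_toFinset, eq_top_iff]
  rintro z -
  let z' : Γ(M.restrict U.ι, W') := (M.restrictAppIso U.ι W').inv (QC70.res M hWW.le z)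
  have hz : z' ∈ Submodule.span Γ(U.toScheme, W') (Set.range s) := hs ▸ trivial
  have key : ∀ y ∈ Submodule.span Γ(U.toScheme, W') (Set.range s),
      e y ∈ Submodule.span Γ(X, W x) (Set.range (e ∘ s)) := by
    intro y hy
    induction hy using Submodule.span_induction with
    | mem w hw =>
      obtain ⟨k, rfl⟩ := hw
      exact Submodule.subset_span ⟨k, rfl⟩
    | zero =>
      simp only [e, map_zero, QC70.res_zero]
      exact zero_mem _
    | add a b _ _ ha hb =>
      simp only [e, map_add, QC70.res_add] at ha hb ⊢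
      exact add_mem ha hb
    | smul r a _ ha =>
      simp only [e] at ha ⊢
      rw [Scheme.Modules.smul_restrictAppIso_hom_apply, QC70.res_smul]
      exact Submodule.smul_mem _ _ ha
  have : e z' = z := by simp only [e, z', Iso.inv_hom_id_apply, QC70.res_res, QC70.res_self]
  exact this ▸ key z' hz

/-- **Pseudo-coherent objects have coherent cohomology** on a locally Noetherian scheme. -/
theorem isCohD_of_pseudoCoherent (K : DCoh.D X) (hK : ∀ m : ℤ, DCoh.IsPseudoCoherentD m K) :
    DCoh.IsCohD K := fun i => isCoh_of_forall_mem _ fun x => by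
  obtain ⟨V, hxV, E, α, hE, hα⟩ := (isPC_iff (i - 1) K).1 (hK (i - 1)) x
  refine ⟨V, hxV, ?_⟩
  have := hα.1 i (sub_one_lt i)
  let F := Q.objPreimage K
  let e : E.homology i ≅ ((homologyFunctor X.Modules i).obj K).restrict V.ι :=
    ((homologyFunctorFactors V.toScheme.Modules i).app E).symm ≪≫
      asIso ((homologyFunctor V.toScheme.Modules i).map α) ≪≫
      (homologyFunctor V.toScheme.Modules i).mapIso ((resD V.ι).mapIso (rep K).symm ≪≫ resQ V.ι F) ≪≫
      (homologyFunctorFactors V.toScheme.Modules i).app _ ≪≫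
      (F.sc i).mapHomologyIso (Scheme.Modules.restrictFunctor V.ι) ≪≫
      (Scheme.Modules.restrictFunctor V.ι).mapIso
        (((homologyFunctorFactors X.Modules i).app F).symm ≪≫ (homologyFunctor X.Modules i).mapIso (rep K))
  exact QC70.isCoh_of_iso e (isCoh_homology (fun j => CD47.isCoh_of_isFinLocFree (hE.2 j)) i)

end Groth.Agent.DerComp18
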