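import Groth.Agent.DerComp18.AffineSec
import Groth.Agent.DerComp18.CohPC

/-!
Global cohomology of pseudo-coherent objects on a Noetherian affine scheme is finite.
-/

universe u

open CategoryTheory CategoryTheory.Limits Opposite DerivedCategory AlgebraicGeometry TopologicalSpace

attribute [local instance] HasDerivedCategory.standard

set_option autoImplicit false

namespace Groth.Agent.DerComp18

open Groth.Agent.Mod48 Groth.Agent.Mod48.LocGen

variable {X : Scheme.{u}}

lemma isNoetherianRing_gsec_scheme [IsAffine X] [IsLocallyNoetherian X] :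
    IsNoetherianRing (DerComp.GSec X.sheaf) :=
  haveI : IsNoetherianRing (X.sheaf.obj.obj (op (⊤ : X.Opens))) :=
    IsLocallyNoetherian.component_noetherian ⟨⊤, isAffineOpen_top X⟩
  isNoetherianRing_gsec (isTerminalTop (α := X.Opens))

theorem finite_hom_of_isCohD [IsAffine X] [IsLocallyNoetherian X] (E : DerivedCategory (ModSite.Mod X.sheaf))
    (hE : DCoh.IsCohD (X := X) E) :
    Module.Finite (DerComp.GSec X.sheaf) (SiteCmp.inD X.sheaf (ModSite.unit X.sheaf) ⟶ E) := by
  have hq : DCoh.IsQCohD (X := X) E := fun i => (hE i).1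
  let H : X.Modules := (homologyFunctor (ModSite.Mod X.sheaf) 0).obj E
  haveI : H.IsQuasicoherent := (hE 0).1
  haveI : H.IsFiniteType := (hE 0).2
  have hfin : Module.Finite (DerComp.GSec X.sheaf)
      (ModSite.unit X.sheaf ⟶ (homologyFunctor (ModSite.Mod X.sheaf) 0).obj E) :=
    finite_hom_unit (isTerminalTop (α := X.Opens)) _ (QC70.finite_sections_of_isFiniteType H (isAffineOpen_top X))
  exact Module.Finite.equiv (LinearEquiv.ofBijective (evLin E) (evLin_bijective E hq)).symm

theorem isCohD_shift (K : DCoh.D X) (hK : DCoh.IsCohD K) (n : ℤ) : DCoh.IsCohD (K⟦n⟧) := fun i =>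
  QC70.isCoh_of_iso (((homologyFunctor X.Modules 0).shiftIso n i (n + i) rfl).app K).symm (hK (n + i))

end Groth.Agent.DerComp18
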