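import Groth.Agent.CohDer42.Telescope
import Groth.Agent.DR39.DC
import Groth.Agent.Mod48.PushLoc
import Mathlib.CategoryTheory.Adjunction.Additive

/-!
Localisation of an object at an endomorphism, and morphisms out of it in the derived category.
-/

universe w v u v' u'

open CategoryTheory Category Limits Pretriangulated DerivedCategory

set_option autoImplicit false
set_option linter.unusedSectionVars false

namespace Groth.Agent.DerComp18

open Groth.Agent.Mod48.LocGen (Pd Pm)

section Phi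

variable {D : Type u} [Category.{v} D] [Preadditive D]

/-- `x ↦ (x n - e ≫ x (n + 1))`. -/
def Phi {X : D} (e : X ⟶ X) (T : D) (x : ℕ → (X ⟶ T)) : ℕ → (X ⟶ T) := fun n => x n - e ≫ x (n + 1)

/-- Morphisms `X ⟶ T` are complete for the endomorphism `e` of `X`. -/
def CompEnd {X : D} (e : X ⟶ X) (T : D) : Prop := Function.Bijective (Phi e T)

lemma compEnd_congr {D' : Type u'} [Category.{v'} D'] [Preadditive D'] {X T : D} {X' T' : D'}
    (e : X ⟶ X) (e' : X' ⟶ X') (Ψ : (X ⟶ T) ≃+ (X' ⟶ T'))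
    (h : ∀ x, Ψ (e ≫ x) = e' ≫ Ψ x) : CompEnd e T ↔ CompEnd e' T' := by
  let E : (ℕ → (X ⟶ T)) ≃ (ℕ → (X' ⟶ T')) := Equiv.piCongrRight fun _ => Ψ.toEquiv
  have : Phi e' T' = E ∘ Phi e T ∘ E.symm := by
    funext x n
    change _ = Ψ (Ψ.symm (x n) - e ≫ Ψ.symm (x (n + 1)))
    rw [map_sub, h, Ψ.apply_symm_apply, Ψ.apply_symm_apply]
    rfl
  rw [CompEnd, CompEnd, this, Function.Bijective.of_comp_iff' E.bijective,
    Function.Bijective.of_comp_iff _ E.symm.bijective]

lemma compEnd_iff_of_iso {X X' T T' : D} (e : X ⟶ X) (e' : X' ⟶ X') (i : X ≅ X') (j : T ≅ T')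
    (h : e ≫ i.hom = i.hom ≫ e') : CompEnd e T ↔ CompEnd e' T' :=
  compEnd_congr e e'
    { toFun := fun x => i.inv ≫ x ≫ j.hom
      invFun := fun x => i.hom ≫ x ≫ j.inv
      left_inv := fun x => by simp
      right_inv := fun x => by simp
      map_add' := fun x y => by simp }
    fun x => by
      change i.inv ≫ (e ≫ x) ≫ j.hom = e' ≫ i.inv ≫ x ≫ j.hom
      rw [← cancel_epi i.hom, ← reassoc_of% h]
      simp

end Phi

variable {A : Type u} [Category.{v} A] [Abelian A]

section End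

variable [IsGrothendieckAbelian.{v} A] (P : A) (φ : P ⟶ P)

/-- `ι n - φ ≫ ι (n + 1)` on a countable sum of copies of `P`. -/
noncomputable def awayEnd : (∐ fun _ : ℕ => P) ⟶ ∐ fun _ : ℕ => P :=
  Sigma.desc fun n => Sigma.ι (fun _ : ℕ => P) n - φ ≫ Sigma.ι (fun _ : ℕ => P) (n + 1)

/-- The projections of the sum. -/
noncomputable def proj (m : ℕ) : (∐ fun _ : ℕ => P) ⟶ P := Sigma.desc fun n => if n = m then 𝟙 P else 0

lemma eq_zero_of_proj {T : A} (k : T ⟶ ∐ fun _ : ℕ => P) (h : ∀ m, k ≫ proj P m = 0) : k = 0 := by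
  let e : (∐ fun _ : ULift.{v} ℕ => P) ≅ ∐ fun _ : ℕ => P :=
    Sigma.whiskerEquiv Equiv.ulift (fun _ => Iso.refl P)
  let δ : (∐ fun _ : ULift.{v} ℕ => P) ⟶ ∏ᶜ fun _ : ULift.{v} ℕ => P := Pi.lift fun i => e.hom ≫ proj P i.down
  have : Mono δ := by
    refine CohDer42.Telescope.mono_sigmaToPi _ δ (fun i => ?_) fun i j hij => ?_
    · simp [δ, e, proj, Sigma.whiskerEquiv]
    · have : i.down ≠ j.down := fun h => hij (ULift.ext _ _ h)
      simp [δ, e, proj, Sigma.whiskerEquiv, this]
  rw [← cancel_mono e.inv, zero_comp, ← cancel_mono δ, zero_comp]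
  refine Pi.hom_ext _ _ fun i => ?_
  simpa [δ] using h i.down

instance mono_awayEnd : Mono (awayEnd P φ) := by
  refine Preadditive.mono_of_cancel_zero _ fun {T} k hk => eq_zero_of_proj P k fun m => ?_
  induction m with
  | zero =>
    have h0 : awayEnd P φ ≫ proj P 0 = proj P 0 := Sigma.hom_ext _ _ fun n => by simp [awayEnd, proj]
    rw [← h0, reassoc_of% hk, zero_comp]
  | succ m ih =>
    have h1 : awayEnd P φ ≫ proj P (m + 1) = proj P (m + 1) - proj P m ≫ φ :=
      Sigma.hom_ext _ _ fun n => by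
        by_cases h : n = m <;> simp [awayEnd, proj, h]
    have := congrArg (k ≫ ·) h1
    simp only [Preadditive.comp_sub, reassoc_of% hk, zero_comp, reassoc_of% ih, sub_zero] at this
    exact this.symm

/-- `0 ⟶ ∐ P ⟶ ∐ P ⟶ P_φ ⟶ 0` -/
noncomputable abbrev awaySeq : ShortComplex A := ShortComplex.mk _ _ (cokernel.condition (awayEnd P φ))

lemma awaySeq_shortExact : (awaySeq P φ).ShortExact :=
  { exact := ShortComplex.exact_cokernel _ }

end End

variable [HasDerivedCategory.{w} A]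

section Cofan

lemma Pm_cofan_bijective [IsGrothendieckAbelian.{v} A] {ι : Type*} {X : ι → A} {c : Cofan X} (hc : IsColimit c)
    (m : ℤ) (T : DerivedCategory A) :
    Function.Bijective fun (g : Pd c.pt m ⟶ T) i => Pm (c.inj i) m ≫ g := by
  obtain ⟨I, f, hI, hf, -⟩ := CohDer42.exists_kinjective_resolution (Q.objPreimage T)
  let e : Q.obj I ≅ T := (asIso (Q.map f)).symm ≪≫ Q.objObjPreimageIso T
  refine ⟨?_, fun v => ?_⟩
  · suffices ∀ g : Pd c.pt m ⟶ T, (∀ i, Pm (c.inj i) m ≫ g = 0) → g = 0 from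
      fun g g' h => sub_eq_zero.1 (this _ fun i => by
        have h' : Pm (c.inj i) m ≫ g = Pm (c.inj i) m ≫ g' := congrFun h i
        rw [Preadditive.comp_sub, h', sub_self])
    intro g hg
    obtain ⟨φ, hφ⟩ := CohDer42.Q_map_surjective_of_isKInjective (g ≫ e.inv)
    obtain ⟨z, rfl⟩ := Mod48.LocGen.eq_cycleHom φ
    have hz : ∀ i, ∃ w : X i ⟶ I.X (m - 1), w ≫ I.d (m - 1) m = c.inj i ≫ z ≫ I.iCycles m := fun i => by
      have h0 : Q.map (Mod48.LocGen.cycleHom (c.inj i ≫ z)) = Q.map 0 := by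
        rw [← Mod48.LocGen.single_map_cycleHom, Functor.map_comp, hφ, ← assoc, Functor.map_zero]
        exact (congrArg (· ≫ e.inv) (hg i)).trans zero_comp
      obtain ⟨h⟩ := CohDer42.homotopy_of_Q_map_eq h0
      refine ⟨(HomologicalComplex.singleObjXSelf (ComplexShape.up ℤ) m (X i)).inv ≫ h.hom m (m - 1), ?_⟩
      have := h.comm m
      rw [Mod48.LocGen.cycleHom_f, dNext_eq h.hom (show (ComplexShape.up ℤ).Rel m (m + 1) from rfl),
        prevD_eq h.hom (show (ComplexShape.up ℤ).Rel (m - 1) m from sub_add_cancel m 1),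
        HomologicalComplex.single_obj_d, zero_comp, zero_add, HomologicalComplex.zero_f, add_zero] at this
      rw [assoc, ← this, Iso.inv_hom_id_assoc, assoc]
    choose w hw using hz
    have hW : Cofan.IsColimit.desc hc w ≫ I.d (m - 1) m = z ≫ I.iCycles m :=
      Cofan.IsColimit.hom_ext hc _ _ fun i => by simp [hw]
    have : Q.map (Mod48.LocGen.cycleHom z) = 0 := by
      rw [Q_map_eq_of_homotopy A (Mod48.LocGen.cycleHomHomotopy z _ hW), Functor.map_zero]
    rw [← cancel_mono e.inv, zero_comp, ← hφ, this]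
  · choose φ hφ using fun i => CohDer42.Q_map_surjective_of_isKInjective (v i ≫ e.inv)
    choose z hz using fun i => Mod48.LocGen.eq_cycleHom (φ i)
    refine ⟨Q.map (Mod48.LocGen.cycleHom (Cofan.IsColimit.desc hc z)) ≫ e.hom, funext fun i => ?_⟩
    dsimp only
    rw [← assoc, ← Functor.map_comp, Mod48.LocGen.single_map_cycleHom, Cofan.IsColimit.fac, ← hz, hφ, assoc,
      e.inv_hom_id, comp_id]

end Cofan

section Deg

/-- Change of degree. -/
noncomputable def degEquiv (P : A) (L : DerivedCategory A) (n : ℤ) :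
    ((singleFunctor A 0).obj P ⟶ L⟦n⟧) ≃+ (Pd P n ⟶ L) :=
  haveI : (shiftEquiv' (DerivedCategory A) (-n) n (neg_add_cancel n)).functor.Additive :=
    inferInstanceAs (shiftFunctor (DerivedCategory A) (-n)).Additive
  (((shiftEquiv' (DerivedCategory A) (-n) n (neg_add_cancel n)).toAdjunction.homAddEquiv _ _).symm).trans
    { toFun := fun x => (((singleFunctors A).shiftIso (-n) n 0 (neg_add_cancel n)).app P).inv ≫ x
      invFun := fun x => (((singleFunctors A).shiftIso (-n) n 0 (neg_add_cancel n)).app P).hom ≫ x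
      left_inv := fun x => Iso.hom_inv_id_assoc _ _
      right_inv := fun x => Iso.inv_hom_id_assoc _ _
      map_add' := fun _ _ => Preadditive.comp_add _ _ _ _ _ _ }

lemma degEquiv_comp {P P' : A} (g : P ⟶ P') (L : DerivedCategory A) (n : ℤ)
    (x : (singleFunctor A 0).obj P' ⟶ L⟦n⟧) :
    degEquiv P L n ((singleFunctor A 0).map g ≫ x) = Pm g n ≫ degEquiv P' L n x := by
  let s := (singleFunctors A).shiftIso (-n) n 0 (neg_add_cancel n)
  let adj := (shiftEquiv' (DerivedCategory A) (-n) n (neg_add_cancel n)).toAdjunction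
  change s.inv.app P ≫ (adj.homEquiv ((singleFunctor A 0).obj P) L).symm ((singleFunctor A 0).map g ≫ x) =
    (singleFunctor A n).map g ≫ s.inv.app P' ≫ (adj.homEquiv ((singleFunctor A 0).obj P') L).symm x
  exact (congrArg (s.inv.app P ≫ ·) (adj.homEquiv_naturality_left_symm _ _)).trans
    ((assoc _ _ _).symm.trans ((congrArg (· ≫ _) (s.inv.naturality g).symm).trans (assoc _ _ _)))

lemma compEnd_degEquiv {P : A} (φ : P ⟶ P) (L : DerivedCategory A) (n : ℤ) :
    CompEnd ((singleFunctor A 0).map φ) (L⟦n⟧) ↔ CompEnd (Pm φ n) L :=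
  compEnd_congr _ _ (degEquiv P L n) fun x => degEquiv_comp φ L n x

end Deg

section Crit

variable [IsGrothendieckAbelian.{v} A] {B : Type u'} [Category.{v'} B] [Abelian B] [IsGrothendieckAbelian.{v'} B]
  (G : B ⥤ A) [G.Additive] [PreservesFiniteLimits G] [PreservesFiniteColimits G]
  [PreservesColimitsOfShape (Discrete ℕ) G]

/-- **The criterion**: no maps out of `G (F_φ)` iff maps out of `G F` are complete for `φ`. -/
theorem subsingleton_iff_compEnd (F : B) (φ : F ⟶ F) (L : DerivedCategory A) :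
    (∀ n : ℤ, Subsingleton ((singleFunctor A 0).obj (G.obj (cokernel (awayEnd F φ))) ⟶ L⟦n⟧)) ↔
      ∀ n : ℤ, CompEnd (Pm (G.map φ) n) L := by
  have hS := (awaySeq_shortExact F φ).map_of_exact G
  refine (DR39.subsingleton_hom_iff_precomp_bijective _ hS.singleTriangle_distinguished L).trans
    (forall_congr' fun n => ?_)
  rw [← compEnd_degEquiv]
  let hc := isColimitCofanMkObjOfIsColimit G _ _ (coproductIsCoproduct fun _ : ℕ => F)
  let E : ((singleFunctor A 0).obj (G.obj (∐ fun _ : ℕ => F)) ⟶ L⟦n⟧) →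
      (ℕ → ((singleFunctor A 0).obj (G.obj F) ⟶ L⟦n⟧)) :=
    fun g i => (singleFunctor A 0).map (G.map (Sigma.ι (fun _ : ℕ => F) i)) ≫ g
  have hE : Function.Bijective E := Pm_cofan_bijective hc 0 (L⟦n⟧)
  have key : E ∘ (fun g => (singleFunctor A 0).map (G.map (awayEnd F φ)) ≫ g) =
      Phi ((singleFunctor A 0).map (G.map φ)) (L⟦n⟧) ∘ E := by
    funext g i
    change (singleFunctor A 0).map _ ≫ (singleFunctor A 0).map _ ≫ g = _ - _ ≫ (_ ≫ g)
    rw [← assoc, ← Functor.map_comp, ← G.map_comp, awayEnd, Sigma.ι_desc]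
    simp [Preadditive.sub_comp, E]
  change Function.Bijective (fun g => (singleFunctor A 0).map (G.map (awayEnd F φ)) ≫ g) ↔ _
  rw [CompEnd, ← Function.Bijective.of_comp_iff _ hE, ← key, Function.Bijective.of_comp_iff' hE]

end Crit

end Groth.Agent.DerComp18
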