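import Groth.Agent.DerComp18.AwayHom
import Groth.Prelude.Def_DCoh2

/-!
The derived limit of multiplication by `s`.
-/

universe u

open CategoryTheory CategoryTheory.Limits Opposite DerivedCategory Pretriangulated

attribute [local instance] HasDerivedCategory.standard

set_option autoImplicit false

namespace Groth.Agent.DerComp18

open Groth.Agent.Mod48

variable {C : Type u} [SmallCategory C] {J : GrothendieckTopology C} {O : Sheaf J CommRingCat.{u}}
  (s : DerComp.GSec O)

/-- `- ⊗ O_s` on complexes. -/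
noncomputable def tensLocCxIso :
    (ModSite.tensorCx O).flip.obj (sgl (DerComp.locAway s (ModSite.unit O))) ≅
      (locF s).mapHomologicalComplex (ComplexShape.up ℤ) :=
  (NatIso.ofComponents (fun F => tcSingleIso F (DerComp.locAway s (ModSite.unit O)))
    fun g => tcSingleIso_natural g (DerComp.locAway s (ModSite.unit O))).symm ≪≫
    NatIso.mapHomologicalComplex (locFIso s) (ComplexShape.up ℤ)

/-- `- ⊗^L O_s` is the localisation. -/
noncomputable def ltensorLocIso [ModSite.HasLTensorCx (sgl (DerComp.locAway s (ModSite.unit O)))] :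
    ModSite.LTensorCx (sgl (DerComp.locAway s (ModSite.unit O))) ≅ (locF s).mapDerivedCategory :=
  let W := HomologicalComplex.quasiIso (ModSite.Mod O) (ComplexShape.up ℤ)
  haveI : (locF s).mapDerivedCategory.IsLeftDerivedFunctor (locF s).mapDerivedCategoryFactors.hom W :=
    Functor.isLeftDerivedFunctor_of_inverts W _ (locF s).mapDerivedCategoryFactors
  Functor.leftDerivedNatIso _ _ (ltCounit (sgl (DerComp.locAway s (ModSite.unit O))))
    (locF s).mapDerivedCategoryFactors.hom W (Functor.isoWhiskerRight (tensLocCxIso s) Q)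

/-- Countable powers, as a functor. -/
noncomputable def powF : ModSite.Mod O ⥤ ModSite.Mod O where
  obj M := ∏ᶜ fun _ : ℕ => M
  map g := Limits.Pi.map fun _ => g
  map_id M := Pi.hom_ext _ _ fun n => by simp
  map_comp f g := Pi.hom_ext _ _ fun n => by simp

instance : (powF (O := O)).Additive :=
  ⟨fun {M N} {f g} => Pi.hom_ext _ _ fun n => by
    erw [Preadditive.add_comp]
    simp [powF, Preadditive.comp_add]
    rfl⟩

/-- `delta` is natural. -/
noncomputable def deltaNat : (powF (O := O)) ⟶ powF where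
  app M := delta s M
  naturality M N g := Pi.hom_ext _ _ fun n => by
    simp [delta, powF, Preadditive.sub_comp, Preadditive.comp_sub, DerComp.smulEnd_comm]

/-- The kernel of `delta`. -/
noncomputable def cofreeι : cofreeF s ⟶ powF where
  app M := kernel.ι (delta s M)
  naturality M N g := by simp [cofreeF, powF]

/-- The projections of a power. -/
noncomputable def powπ (n : ℕ) : (powF (O := O)) ⟶ 𝟭 (ModSite.Mod O) where
  app M := Pi.π (fun _ : ℕ => M) n
  naturality M N g := by simp [powF]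

lemma epi_delta (M : ModSite.Mod O) [Injective M] : Epi (delta s M) := by
  have : Mono (DerComp.awayMap s (∏ᶜ fun _ : ℕ => M)) := by
    have : IsGrothendieckAbelian.{u} (ModSite.Mod O) :=
      Coh69.sheafOfModules_isGrothendieckAbelian (ModSite.ringSh O)
    exact mono_awayEnd _ (DerComp.smulEnd s _)
  let y := Injective.factorThru (Sigma.desc fun n => Pi.π (fun _ : ℕ => M) n) (DerComp.awayMap s (∏ᶜ fun _ : ℕ => M))
  refine @epi_of_epi_fac _ _ _ _ _ (Pi.lift fun n => Sigma.ι _ n ≫ y) (delta s M) (𝟙 _) inferInstance ?_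
  refine Pi.hom_ext _ _ fun n => ?_
  have h := congrArg (Sigma.ι _ n ≫ ·) (Injective.comp_factorThru (Sigma.desc fun n => Pi.π (fun _ : ℕ => M) n)
    (DerComp.awayMap s (∏ᶜ fun _ : ℕ => M)))
  simp only [DerComp.awayMap, Sigma.ι_desc_assoc, Preadditive.sub_comp, Category.assoc, Sigma.ι_desc] at h
  simp only [delta, Category.assoc, Pi.lift_π, Preadditive.comp_sub, Pi.lift_π_assoc, Category.id_comp]
  rw [← DerComp.smulEnd_comm s y, ← Category.assoc (Sigma.ι _ (n + 1)), ← DerComp.smulEnd_comm, Category.assoc]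
  exact h

/-- **`RHom(O_s, K)` is `T(K, s)`.** -/
theorem isT_rhom_away [ModSite.HasLTensorCx (sgl (DerComp.locAway s (ModSite.unit O)))]
    [DerComp.HasRHom (sgl (DerComp.locAway s (ModSite.unit O)))] (K : DerivedCategory (ModSite.Mod O))
    [HasProduct fun _ : ℕ => K] :
    DerComp.IsT s K ((DerComp.RHom (sgl (DerComp.locAway s (ModSite.unit O)))).obj K) := by
  have : IsGrothendieckAbelian.{u} (ModSite.Mod O) :=
    Coh69.sheafOfModules_isGrothendieckAbelian (ModSite.ringSh O)
  let A := CohDer42.RdAdj.adjRF (locAdj s) (CohDer42.RdAdj.rd (cofreeF s)) (CohDer42.RdAdj.rdUnit (cofreeF s))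
  let eR : DerComp.RHom (sgl (DerComp.locAway s (ModSite.unit O))) ≅ CohDer42.RdAdj.rd (cofreeF s) :=
    ((DerComp.RHomAdj (sgl (DerComp.locAway s (ModSite.unit O)))).ofNatIsoLeft (ltensorLocIso s)).rightAdjointUniq A
  obtain ⟨I, r, hI, hr, -, hinj⟩ := CohDer42.exists_kinjective_resolution (Q.objPreimage K)
  have : IsIso (Q.map r) := (isIso_Q_map_iff_quasiIso (ModSite.Mod O) r).2 hr
  let eI : Q.obj I ≅ K := (asIso (Q.map r)).symm ≪≫ Q.objObjPreimageIso K
  have hu := Mod48.isIso_unit_of_kInjective (CohDer42.RdAdj.rd (cofreeF s)) (CohDer42.RdAdj.rdUnit (cofreeF s))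
    CohDer42.RdAdj.enoughKInj I hI
  let e₁ : Q.obj (((cofreeF s).mapHomologicalComplex (ComplexShape.up ℤ)).obj I) ≅
      (DerComp.RHom (sgl (DerComp.locAway s (ModSite.unit O)))).obj K :=
    ((quotientCompQhIso (ModSite.Mod O)).app _).symm ≪≫
      @asIso _ _ _ _ ((CohDer42.RdAdj.rdUnit (cofreeF s)).app ((HomotopyCategory.quotient _ (ComplexShape.up ℤ)).obj I)) hu ≪≫
      (CohDer42.RdAdj.rd (cofreeF s)).mapIso ((quotientCompQhIso (ModSite.Mod O)).app I) ≪≫
      (CohDer42.RdAdj.rd (cofreeF s)).mapIso eI ≪≫ (eR.app K).symm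
  -- the short exact sequence of complexes
  let P := ((powF (O := O)).mapHomologicalComplex (ComplexShape.up ℤ)).obj I
  let S : ShortComplex (CC O) := ShortComplex.mk ((NatTrans.mapHomologicalComplex (cofreeι s) (ComplexShape.up ℤ)).app I)
    ((NatTrans.mapHomologicalComplex (deltaNat s) (ComplexShape.up ℤ)).app I)
    (HomologicalComplex.hom_ext _ _ fun n => kernel.condition (delta s (I.X n)))
  have hS : S.ShortExact := HomologicalComplex.shortExact_of_degreewise_shortExact _ fun n =>
    have := hinj n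
    { exact := ShortComplex.exact_kernel (delta s (I.X n))
      mono_f := inferInstanceAs (Mono (kernel.ι (delta s (I.X n))))
      epi_g := epi_delta s (I.X n) }
  -- powers of a K-injective complex are powers in the derived category
  let pc : ∀ _ : ℕ, CC O := fun _ => I
  let πC : ℕ → (P ⟶ I) := fun k => (NatTrans.mapHomologicalComplex (powπ k) (ComplexShape.up ℤ)).app I
  let θ : P ⟶ ∏ᶜ pc := Pi.lift πC
  have : IsIso θ := by
    have : ∀ n, IsIso (θ.f n) := fun n => by
      have e : θ.f n ≫ (PreservesProduct.iso (HomologicalComplex.eval (ModSite.Mod O) (ComplexShape.up ℤ) n) pc).hom =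
          𝟙 _ := Pi.hom_ext _ _ fun k => by
        refine ((Category.assoc _ _ _).trans (congrArg (θ.f n ≫ ·)
          ((congrArg (· ≫ _) (PreservesProduct.iso_hom _ _)).trans (piComparison_comp_π _ _ k)))).trans ?_
        exact ((HomologicalComplex.comp_f _ _ n).symm.trans (congrArg (fun t => HomologicalComplex.Hom.f t n)
          (Pi.lift_π _ k))).trans (Category.id_comp _).symm
      have e' := (Iso.comp_hom_eq_id _).1 e
      rw [e']
      exact Iso.isIso_inv _
    exact HomologicalComplex.Hom.isIso_of_components θ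
  let q : ℕ → (Q.obj P ⟶ K) := fun k => Q.map (πC k) ≫ eI.hom
  have hq : ∀ Z : DerivedCategory (ModSite.Mod O), Function.Bijective fun (g : Z ⟶ Q.obj P) k => g ≫ q k := fun Z => by
    have h := (Equiv.piCongrRight fun _ : ℕ => (eI.homToEquiv : (Z ⟶ Q.obj I) ≃ (Z ⟶ K))).bijective.comp
      ((CohDer42.RlimRight.Q_pi_bijective pc (fun _ => hI) Z).comp ((asIso (Q.map θ)).homToEquiv : (Z ⟶ Q.obj P) ≃ (Z ⟶ Q.obj (∏ᶜ pc))).bijective)
    convert h using 1
    funext g k
    change g ≫ Q.map _ ≫ eI.hom = ((g ≫ Q.map θ) ≫ Q.map (Pi.π pc k)) ≫ eI.hom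
    rw [Category.assoc g, ← Functor.map_comp, Pi.lift_π, Category.assoc]
  obtain ⟨pinv, hpinv⟩ := (hq (∏ᶜ fun _ : ℕ => K)).2 fun k => Pi.π _ k
  have hp' : ∀ k, pinv ≫ q k = Pi.π _ k := congrFun hpinv
  let p : Q.obj P ≅ ∏ᶜ fun _ : ℕ => K :=
    { hom := Pi.lift q
      inv := pinv
      hom_inv_id := (hq (Q.obj P)).1 (funext fun k => by
        change (Pi.lift q ≫ pinv) ≫ q k = 𝟙 _ ≫ q k
        rw [Category.assoc, hp' k, Pi.lift_π, Category.id_comp])
      inv_hom_id := Pi.hom_ext _ _ fun k => by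
        rw [Category.assoc, Pi.lift_π, hp' k, Category.id_comp] }
  have hT := triangleOfSES_distinguished hS
  refine ⟨e₁.inv ≫ Q.map S.f ≫ p.hom, p.inv ≫ (triangleOfSESδ hS) ≫ e₁.hom⟦(1 : ℤ)⟧',
    isomorphic_distinguished _ hT _ (Triangle.isoMk _ _ e₁.symm p.symm p.symm ?_ ?_ ?_)⟩
  · change (e₁.inv ≫ Q.map S.f ≫ p.hom) ≫ p.inv = e₁.inv ≫ Q.map S.f
    simp
  · change (Pi.lift fun n => Pi.π _ n - Pi.π (fun _ : ℕ => K) (n + 1) ≫ (s • 𝟙 K)) ≫ p.inv = p.inv ≫ Q.map S.g
    rw [Iso.comp_inv_eq, Category.assoc, Iso.eq_inv_comp]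
    refine Pi.hom_ext _ _ fun n => ?_
    have e : S.g ≫ πC n = πC n - πC (n + 1) ≫ smulC s I :=
      HomologicalComplex.hom_ext _ _ fun k => by
        change (deltaNat s).app (I.X k) ≫ (powπ n).app (I.X k) = Pi.π _ n - Pi.π (fun _ : ℕ => I.X k) (n + 1) ≫ DerComp.smulEnd s (I.X k)
        exact Pi.lift_π _ n
    simp only [Category.assoc, Pi.lift_π, p, Preadditive.comp_sub, Linear.comp_smul, Category.comp_id, q]
    rw [← Functor.map_comp_assoc, e, Functor.map_sub, Functor.map_comp, Q_map_smulC, Linear.comp_smul,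
      Category.comp_id, Preadditive.sub_comp, Linear.smul_comp]
  · change (p.inv ≫ triangleOfSESδ hS ≫ e₁.hom⟦(1 : ℤ)⟧') ≫ e₁.inv⟦(1 : ℤ)⟧' = p.inv ≫ triangleOfSESδ hS
    simp only [Category.assoc, ← Functor.map_comp, Iso.hom_inv_id, CategoryTheory.Functor.map_id, Category.comp_id]

end Groth.Agent.DerComp18
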