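import Groth.Agent.DerComp18.Perp
import Groth.Agent.DerComp18.TermSec
import Mathlib.AlgebraicGeometry.Noetherian

/-!
Quasi-coherent sheaves of ideals as ideals on affine opens.
-/

universe u

open CategoryTheory CategoryTheory.Limits Opposite TopologicalSpace AlgebraicGeometry

set_option autoImplicit false

namespace Groth.Agent.DerComp18

variable {X : Scheme.{u}}

/-- Quasi-coherence of a sheaf of ideals. -/
def QCIdeal (𝓘 : DerComp.IdealSh X.sheaf) : Prop :=
  ∀ (U : X.affineOpens) (g : Γ(X, ↑U)),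
    𝓘.ideal (X.basicOpen g) = Ideal.map (X.presheaf.map (homOfLE (X.basicOpen_le g)).op).hom (𝓘.ideal ↑U)

/-- Inside an affine open, a quasi-coherent ideal is generated by its sections over that open. -/
theorem isGenBy_over {𝓘 : DerComp.IdealSh X.sheaf} (hqc : QCIdeal 𝓘) {W V : X.Opens} (hW : IsAffineOpen W)
    (h : V ≤ W) {ι : Type*} (a : ι → Γ(X, W)) (ha : Ideal.span (Set.range a) = 𝓘.ideal W) :
    (𝓘.over V).IsGenBy fun i => DerComp.GSec.ofSect X.sheaf V ((X.presheaf.map (homOfLE h).op).hom (a i)) := by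
  refine ⟨fun i Z => 𝓘.map_mem Z.hom (𝓘.map_mem (homOfLE h) (ha ▸ Ideal.subset_span ⟨i, rfl⟩)),
    fun I' hI' Z f hf => ?_⟩
  have hZW : Z.left ≤ W := (leOfHom Z.hom).trans h
  let S : Sieve Z.left :=
    { arrows := fun T k => (X.presheaf.map k.op).hom f ∈ I'.ideal (Over.mk (k ≫ Z.hom))
      downward_closed := fun {T T' k} hk m => by
        have h2 := I'.map_mem (U := Over.mk (k ≫ Z.hom)) (V := Over.mk ((m ≫ k) ≫ Z.hom))
          (Over.homMk m (by simp)) hk
        change (X.presheaf.map (m ≫ k).op).hom f ∈ _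
        rw [op_comp, Functor.map_comp, CommRingCat.comp_apply]
        exact h2 }
  refine I'.glue ((Sieve.overEquiv Z).symm S)
    ((Opens.grothendieckTopology X).overEquiv_symm_mem_over Z S fun x hx => ?_) fun T k hk => ?_
  · obtain ⟨g, hgZ, hxg⟩ := hW.exists_basicOpen_le ⟨x, hx⟩ (hZW hx)
    refine ⟨X.basicOpen g, homOfLE hgZ, ?_, hxg⟩
    have hmem := 𝓘.map_mem (homOfLE hgZ) hf
    rw [hqc ⟨W, hW⟩ g, ← ha] at hmem
    refine (Ideal.map_le_iff_le_comap.2 (Ideal.span_le.2 ?_)) hmem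
    rintro _ ⟨i, rfl⟩
    have h2 := hI' i (Over.mk (homOfLE hgZ ≫ Z.hom))
    refine Ideal.mem_comap.2 (?_ : (X.presheaf.map (homOfLE (X.basicOpen_le g)).op).hom (a i) ∈
      I'.ideal (Over.mk (homOfLE hgZ ≫ Z.hom)))
    have e : (X.presheaf.map (homOfLE (X.basicOpen_le g)).op).hom (a i) =
        (X.presheaf.map (homOfLE hgZ ≫ Z.hom).op).hom ((X.presheaf.map (homOfLE h).op).hom (a i)) := by
      rw [← CommRingCat.comp_apply, ← Functor.map_comp]
      rfl
    rw [e]
    exact h2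
  · have hk' := (Sieve.overEquiv_symm_iff S k).1 hk
    have h2 := I'.map_mem (U := Over.mk (k.left ≫ Z.hom)) (V := T) (Over.homMk (𝟙 T.left) (by
      change 𝟙 _ ≫ k.left ≫ Z.hom = T.hom
      rw [Category.id_comp, Over.w k])) hk'
    change (X.presheaf.map k.left.op).hom f ∈ _
    have e : (X.presheaf.map k.left.op).hom f =
        (X.presheaf.map (𝟙 T.left).op).hom ((X.presheaf.map k.left.op).hom f) := by
      rw [op_id, CategoryTheory.Functor.map_id]
      rfl
    rw [e]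
    exact h2

theorem isFiniteType_of_qc [IsLocallyNoetherian X] {𝓘 : DerComp.IdealSh X.sheaf} (hqc : QCIdeal 𝓘) :
    𝓘.IsFiniteType := fun U => by
  let S : Sieve U :=
    { arrows := fun V _ => ∃ W : X.Opens, IsAffineOpen W ∧ V ≤ W
      downward_closed := fun {V V' k} hk m => let ⟨W, hW, h⟩ := hk; ⟨W, hW, (leOfHom m).trans h⟩ }
  refine ⟨S, fun x hx => ?_, fun V g hg => ?_⟩
  · obtain ⟨W, hW, hxW, hWU⟩ := exists_isAffineOpen_mem_and_subset (U := U) hx
    exact ⟨W, homOfLE hWU, ⟨W, hW, le_rfl⟩, hxW⟩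
  · obtain ⟨W, hW, hVW⟩ := hg
    have := IsLocallyNoetherian.component_noetherian ⟨W, hW⟩
    obtain ⟨r, a, ha⟩ := Submodule.fg_iff_exists_fin_generating_family.1
      ((isNoetherianRing_iff_ideal_fg _).1 (inferInstance : IsNoetherianRing Γ(X, W)) (𝓘.ideal W))
    exact ⟨r, _, isGenBy_over hqc hW hVW a ha⟩

/-- The global ideal of the restriction to an affine open. -/
noncomputable def globalIdeal (𝓘 : DerComp.IdealSh X.sheaf) (U : X.Opens) : Ideal (DerComp.GSec (X.sheaf.over U)) :=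
  (𝓘.ideal U).comap (gsecEquiv (X.sheaf.over U) (Over.mkIdTerminal (X := U))).toRingHom

theorem isGenBy_globalIdeal {𝓘 : DerComp.IdealSh X.sheaf} (hqc : QCIdeal 𝓘) {U : X.Opens} (hU : IsAffineOpen U) :
    (𝓘.over U).IsGenBy fun a : globalIdeal 𝓘 U => (a : DerComp.GSec (X.sheaf.over U)) := by
  have h := isGenBy_over hqc hU (le_refl U) (fun f : 𝓘.ideal U => f.1) (le_antisymm (Ideal.span_le.2 (by rintro _ ⟨f, rfl⟩; exact f.2))
    fun f hf => Ideal.subset_span ⟨⟨f, hf⟩, rfl⟩)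
  refine ⟨fun a Z => ?_, fun I' hI' => h.2 I' fun f Z => ?_⟩
  · have h2 := 𝓘.map_mem Z.hom (a.2 : _)
    have e : (X.presheaf.map Z.hom.op).hom ((a : DerComp.GSec (X.sheaf.over U)).1 (Over.mk (𝟙 U))) =
        (a : DerComp.GSec (X.sheaf.over U)).1 Z :=
      DerComp.GSec.compat (O := X.sheaf.over U) a.1 (Over.homMk Z.hom : Z ⟶ Over.mk (𝟙 U))
    rw [← e]
    exact h2
  · have hmem : DerComp.GSec.ofSect X.sheaf U ((X.presheaf.map (homOfLE (le_refl U)).op).hom f.1) ∈
        globalIdeal 𝓘 U := by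
      change (X.presheaf.map (𝟙 U).op).hom ((X.presheaf.map (homOfLE (le_refl U)).op).hom f.1) ∈ 𝓘.ideal U
      exact 𝓘.map_mem _ (𝓘.map_mem _ f.2)
    exact hI' ⟨_, hmem⟩ Z

end Groth.Agent.DerComp18
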