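import Groth.Agent.DerComp18.Sections
import Groth.Agent.DR40.DCExist

/-!
Adic completeness of the cohomology of a derived completion with finite cohomology of global sections.
-/

universe w u

open CategoryTheory CategoryTheory.Limits CategoryTheory.Pretriangulated DerivedCategory HomologicalComplex

attribute [local instance] HasDerivedCategory.standard

set_option autoImplicit false
set_option linter.style.haveILetI false

namespace Groth.Agent.DerComp18

open Groth.Agent.Mod48 Groth.Agent.Mod48.LocGen Groth.Agent.DR39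

section Adic

variable {A : Type*} [CommRing A] {I : Ideal A} {M : Type*} [AddCommGroup M] [Module A M]
  {N : Type*} [AddCommGroup N] [Module A N]

lemma mem_pow_smul_top_map (e : M ≃ₗ[A] N) (n : ℕ) (x : M) :
    e x ∈ (I ^ n • ⊤ : Submodule A N) ↔ x ∈ (I ^ n • ⊤ : Submodule A M) := by
  have h : (I ^ n • ⊤ : Submodule A M).map (e : M →ₗ[A] N) = I ^ n • ⊤ := by
    rw [Submodule.map_smul'', Submodule.map_top, LinearEquiv.range]
  rw [← h]
  exact ⟨fun ⟨y, hy, hy'⟩ => e.injective hy' ▸ hy, fun hx => ⟨x, hx, rfl⟩⟩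

lemma isAdicComplete_of_equiv (e : M ≃ₗ[A] N) [IsAdicComplete I M] : IsAdicComplete I N := by
  have key : ∀ (n : ℕ) (x y : N), x ≡ y [SMOD (I ^ n • ⊤ : Submodule A N)] ↔
      e.symm x ≡ e.symm y [SMOD (I ^ n • ⊤ : Submodule A M)] := fun n x y => by
    rw [SModEq.sub_mem, SModEq.sub_mem, ← map_sub, ← mem_pow_smul_top_map e, LinearEquiv.apply_symm_apply]
  refine { haus' := fun x hx => ?_, prec' := fun f hf => ?_ }
  · have := IsHausdorff.haus (IsAdicComplete.toIsHausdorff (I := I) (M := M)) (e.symm x) fun n => by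
      have h := (key n x 0).1 (hx n)
      rwa [map_zero] at h
    exact e.symm.injective (this.trans (map_zero e.symm).symm)
  · obtain ⟨L, hL⟩ := IsPrecomplete.prec (IsAdicComplete.toIsPrecomplete (I := I) (M := M))
      (f := fun n => e.symm (f n)) fun {m n} hmn => (key m _ _).1 (hf hmn)
    exact ⟨e L, fun n => (key n _ _).2 (by rw [LinearEquiv.symm_apply_apply]; exact hL n)⟩

/-- What an identification with the adic completion gives. -/
theorem adic_of_completion (hI : I.FG) (g : M →ₗ[A] N) (e : N ≃ₗ[A] AdicCompletion I M)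
    (he : ∀ x, e (g x) = AdicCompletion.of I M x) :
    IsAdicComplete I N ∧ ∀ n : ℕ, (∀ y : N, ∃ x : M, g x - y ∈ (I ^ n • ⊤ : Submodule A N)) ∧
      (∀ x : M, g x ∈ (I ^ n • ⊤ : Submodule A N) → x ∈ (I ^ n • ⊤ : Submodule A M)) := by
  have := AdicCompletion.isAdicComplete (M := M) hI
  refine ⟨isAdicComplete_of_equiv e.symm, fun n => ⟨fun y => ?_, fun x hx => ?_⟩⟩
  · obtain ⟨x, hx⟩ := Submodule.mkQ_surjective _ (AdicCompletion.eval I M n (e y))
    refine ⟨x, (mem_pow_smul_top_map e n _).1 ?_⟩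
    rw [map_sub, he, AdicCompletion.pow_smul_top_eq_ker_eval hI, LinearMap.mem_ker, map_sub,
      AdicCompletion.eval_of, hx, sub_self]
  · have h := (mem_pow_smul_top_map e n _).2 hx
    rw [he, AdicCompletion.pow_smul_top_eq_ker_eval hI, LinearMap.mem_ker, AdicCompletion.eval_of,
      Submodule.mkQ_apply, Submodule.Quotient.mk_eq_zero] at h
    exact h

end Adic

variable {C : Type u} [SmallCategory C] {J : GrothendieckTopology C} {O : Sheaf J CommRingCat.{u}}

/-- A global ideal spanning a sheaf of ideals puts it below the ideal spanned by its generators. -/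
lemma le_spanSh_of_isGenBy {I : Ideal (DerComp.GSec O)} {𝓘 : DerComp.IdealSh O}
    (h𝓘 : 𝓘.IsGenBy (fun a : I => (a : DerComp.GSec O))) (l : List (DerComp.GSec O))
    (hl : Ideal.span {x | x ∈ l} = I) : 𝓘 ≤ spanSh l := by
  refine h𝓘.2 _ fun a U => ?_
  change (a : DerComp.GSec O).1 U ∈ _
  have ha : (a : DerComp.GSec O) ∈ Ideal.span {x | x ∈ l} := hl ▸ a.2
  generalize (a : DerComp.GSec O) = b at ha ⊢
  induction ha using Submodule.span_induction with
  | mem x hx => exact mem_spanSh hx U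
  | zero => exact zero_mem _
  | add x y _ _ hx hy => exact add_mem hx hy
  | smul c x _ hx => exact Ideal.mul_mem_left _ _ hx

/-- A map with orthogonal cone to a complete object, on global sections, is a derived completion. -/
theorem isCompl_secM {I : Ideal (DerComp.GSec O)} {𝓘 : DerComp.IdealSh O}
    (h𝓘 : 𝓘.IsGenBy (fun a : I => (a : DerComp.GSec O))) (hfg : I.FG) {K L : CC O} (φ : K ⟶ L)
    (hK : K.IsKInjective) [L.IsKInjective] (hL : DerComp.IsDerComp O 𝓘 (Q.obj L))
    (hperp : Perp 𝓘 (Q.obj (CochainComplex.mappingCone φ))) :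
    DR40.IsCompl I ((QA _).map (secM φ)) := by
  refine ⟨isDerivedComplete_secC L (fun a ha => h𝓘.1 ⟨a, ha⟩) hL, fun E hE => ?_⟩
  obtain ⟨l, hl⟩ := DR40.exists_list_of_fg hfg
  have hmem : ∀ s ∈ l, s ∈ I := fun s hs => hl ▸ Ideal.subset_span hs
  have hperp' : Perp (spanSh l) (Q.obj (CochainComplex.mappingCone φ)) := fun X hX =>
    hperp X ((isDerComp_iff_spanSh (fun s hs U => h𝓘.1 ⟨s, hmem s hs⟩ U) (le_spanSh_of_isGenBy h𝓘 l hl) X).2 hX)
  have hT : DerivedCategory.Q.mapTriangle.obj (CochainComplex.mappingCone.triangle (secM φ)) ∈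
      distinguishedTriangles :=
    (DerivedCategory.mem_distTriang_iff _).2 ⟨_, _, secM φ, ⟨Iso.refl _⟩⟩
  refine DR40.bijective_of_orth hT ?_ E hE
  exact (orth_secC_of_kc l hmem _ (isKInjective_cone φ hK inferInstance) ((perp_spanSh_iff l _).1 hperp')).of_iso
    ((QA _).mapIso (CochainComplex.mappingCone.mapHomologicalComplexIso φ (secR O)))

variable (O) in
/-- Shifting degree `p` to degree `0`. -/
noncomputable def pdShift (p : ℤ) (K : DerivedCategory (ModSite.Mod O)) :
    (Pd (ModSite.unit O) p ⟶ K) ≃ₗ[DerComp.GSec O] (SiteCmp.inD O (ModSite.unit O) ⟶ K⟦p⟧) :=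
  let e : (SiteCmp.inD O (ModSite.unit O)) ≅ (Pd (ModSite.unit O) p)⟦p⟧ :=
    (((DerivedCategory.singleFunctors (ModSite.Mod O)).shiftIso p 0 p (add_zero p)).app (ModSite.unit O)).symm
  LinearEquiv.ofBijective
    { toFun := fun f => e.hom ≫ f⟦p⟧'
      map_add' := fun f g => by rw [Functor.map_add, Preadditive.comp_add]
      map_smul' := fun s f => by rw [RingHom.id_apply, Functor.map_smul, Linear.comp_smul] }
    (((Iso.homFromEquiv e.symm).bijective).comp ((Functor.FullyFaithful.ofFullyFaithful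
      (shiftFunctor (DerivedCategory (ModSite.Mod O)) p)).homEquiv.bijective))

lemma pdShift_comp (p : ℤ) {K L : DerivedCategory (ModSite.Mod O)} (f : Pd (ModSite.unit O) p ⟶ K) (η : K ⟶ L) :
    pdShift O p L (f ≫ η) = pdShift O p K f ≫ η⟦p⟧' := by
  change _ ≫ (shiftFunctor _ p).map (f ≫ η) = (_ ≫ (shiftFunctor _ p).map f) ≫ _
  rw [Functor.map_comp, ← Category.assoc]

/-- Post-composition with an isomorphism. -/
noncomputable def postEquiv (X : DerivedCategory (ModSite.Mod O)) {K L : DerivedCategory (ModSite.Mod O)} (e : K ≅ L) :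
    (X ⟶ K) ≃ₗ[DerComp.GSec O] (X ⟶ L) where
  toFun f := f ≫ e.hom
  invFun f := f ≫ e.inv
  left_inv f := by simp
  right_inv f := by simp
  map_add' f g := Preadditive.add_comp _ _ _ _ _ _
  map_smul' s f := Linear.smul_comp _ _ _ _ _ _

theorem exists_kinj_iso (K : DerivedCategory (ModSite.Mod O)) :
    ∃ I : CC O, I.IsKInjective ∧ Nonempty (Q.obj I ≅ K) := by
  obtain ⟨I, hI, ⟨e₀⟩⟩ := exists_Qh_iso_kInjective _ (Mod48.enoughKInj (A := ModSite.Mod O)) K
  exact ⟨I, hI, ⟨((quotientCompQhIso (ModSite.Mod O)).app I).symm ≪≫ e₀⟩⟩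

/-- **Derived completion on global sections is adic completion when the cohomology is finite.** -/
theorem adic_of_derCompletion [IsNoetherianRing (DerComp.GSec O)] {I : Ideal (DerComp.GSec O)}
    {𝓘 : DerComp.IdealSh O} (h𝓘 : 𝓘.IsGenBy (fun a : I => (a : DerComp.GSec O)))
    [DerComp.HasDerCompletion O 𝓘] (K : DerivedCategory (ModSite.Mod O))
    (hfin : ∀ n : ℤ, Module.Finite (DerComp.GSec O) (SiteCmp.inD O (ModSite.unit O) ⟶ K⟦n⟧)) (p : ℤ) :
    ∃ (e : (SiteCmp.inD O (ModSite.unit O) ⟶ ((DerComp.derCompletion O 𝓘).obj K).obj⟦p⟧) ≃ₗ[DerComp.GSec O]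
        AdicCompletion I (SiteCmp.inD O (ModSite.unit O) ⟶ K⟦p⟧)),
      ∀ x, e (x ≫ (DerComp.toDerCompletion 𝓘 K)⟦p⟧') = AdicCompletion.of I _ x := by
  obtain ⟨K', hK', ⟨eK⟩⟩ := exists_kinj_iso K
  obtain ⟨L', hL', ⟨eL⟩⟩ := exists_kinj_iso ((DerComp.derCompletion O 𝓘).obj K).obj
  obtain ⟨φ, hφ⟩ := CohDer42.Q_map_surjective_of_isKInjective (eK.hom ≫ DerComp.toDerCompletion 𝓘 K ≫ eL.inv)
  have hL : DerComp.IsDerComp O 𝓘 (Q.obj L') := fun U f hf n =>
    @Equiv.subsingleton _ _ ((shiftFunctor (DerivedCategory (ModSite.Mod O)) n).mapIso eL).homToEquiv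
      (((DerComp.derCompletion O 𝓘).obj K).property U f hf n)
  have hperp : Perp 𝓘 (Q.obj (CochainComplex.mappingCone φ)) := fun X hX => by
    have hT : DerivedCategory.Q.mapTriangle.obj (CochainComplex.mappingCone.triangle φ) ∈ distinguishedTriangles :=
      (DerivedCategory.mem_distTriang_iff _).2 ⟨_, _, φ, ⟨Iso.refl _⟩⟩
    refine (DR39.subsingleton_hom_iff_precomp_bijective _ hT X).2 fun n => ?_
    change Function.Bijective fun g => Q.map φ ≫ g
    rw [hφ]
    have hb := toDerCompletion_bijective 𝓘 K (isDerComp_shift hX n)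
    convert ((Iso.homFromEquiv eK.symm).bijective.comp hb).comp (Iso.homFromEquiv eL).bijective using 1
    funext g
    simp
  have hc := isCompl_secM h𝓘 (IsNoetherian.noetherian I) φ hK' hL hperp
  have hfg : I.FG := IsNoetherian.noetherian I
  have : DRing.HasDerivedCompletion I := DR40.hasDerivedCompletion_of_fg I hfg
  let ΦK := fun n : ℤ => (rhoQ K' n).trans ((postEquiv _ eK).trans (pdShift O n K))
  let ΦL := fun n : ℤ => (rhoQ L' n).trans ((postEquiv _ eL).trans (pdShift O n ((DerComp.derCompletion O 𝓘).obj K).obj))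
  have hX : ∀ n, Module.Finite (DerComp.GSec O) (Dual.HD (DerComp.GSec O) ((QA _).obj (secC K')) n) := fun n =>
    have := hfin n
    Module.Finite.equiv (ΦK n).symm
  obtain ⟨e₁, he₁⟩ := DR40.homology_completion I ((QA _).obj (secC K')) hX p
  obtain ⟨u, hu⟩ := (DR40.isCompl_unit I ((QA _).obj (secC K'))).unique hc
  refine ⟨((ΦL p).symm.trans (((HF _ p).mapIso u).toLinearEquiv.symm.trans e₁)).trans
    ((AdicCompletion.congr I (ΦK p)).restrictScalars (DerComp.GSec O)), fun x => ?_⟩
  obtain ⟨z, rfl⟩ := (ΦK p).surjective x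
  have hkey : (ΦL p) (((HF _ p).map ((QA _).map (secM φ))).hom z) =
      (ΦK p) z ≫ (DerComp.toDerCompletion 𝓘 K)⟦p⟧' := by
    change pdShift O p _ (rhoQ L' p _ ≫ eL.hom) = pdShift O p _ (rhoQ K' p z ≫ eK.hom) ≫ _
    rw [rhoQ_natural, ← pdShift_comp, hφ]
    simp
  rw [← hkey, LinearEquiv.trans_apply, LinearEquiv.trans_apply, LinearEquiv.trans_apply,
    LinearEquiv.symm_apply_apply, ← hu, Functor.map_comp, ModuleCat.hom_comp, LinearMap.comp_apply]
  refine (congrArg (AdicCompletion.congr I (ΦK p)) ((congrArg e₁ ?_).trans (he₁ z))).trans ?_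
  · exact ((HF _ p).mapIso u).toLinearEquiv.symm_apply_apply _
  · exact AdicCompletion.ext fun n => rfl

end Groth.Agent.DerComp18
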