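import Groth.Agent.DerComp18.OverSec
import Groth.Agent.DerComp18.QCIdeal
import Groth.Agent.DerComp18.AffineFinite
import Groth.Agent.DerComp18.SecAdic

/-!
Completion of a coherent module has no higher cohomology over affine opens.
-/

universe u

open CategoryTheory CategoryTheory.Limits Opposite DerivedCategory AlgebraicGeometry TopologicalSpace

attribute [local instance] HasDerivedCategory.standard

set_option autoImplicit false

namespace Groth.Agent.DerComp18

open Groth.Agent.Mod48 Groth.Agent.Mod48.LocGen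

lemma finite_hom_single_zero {C : Type u} [SmallCategory C] {J : GrothendieckTopology C}
    {O : Sheaf J CommRingCat.{u}} (M : ModSite.Mod O)
    (h : Module.Finite (DerComp.GSec O) (ModSite.unit O ⟶ M)) :
    Module.Finite (DerComp.GSec O) (Pd (ModSite.unit O) 0 ⟶ (singleFunctor (ModSite.Mod O) 0).obj M) := by
  have := h
  let e : (ModSite.unit O ⟶ M) ≃ₗ[DerComp.GSec O]
      (ModSite.unit O ⟶ (homologyFunctor (ModSite.Mod O) 0).obj ((singleFunctor (ModSite.Mod O) 0).obj M)) :=
    Linear.homCongr (DerComp.GSec O) (Iso.refl _) (DR39.singleH0Iso M).symm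
  have hb : Function.Bijective (evLin (O := O) ((singleFunctor (ModSite.Mod O) 0).obj M)) :=
    ev_bijective_of_isGE _ _ inferInstance
  exact Module.Finite.equiv (e.trans (LinearEquiv.ofBijective _ hb).symm)

lemma finite_hom_congr {C : Type u} [SmallCategory C] {J : GrothendieckTopology C}
    {O : Sheaf J CommRingCat.{u}} (Y : DerivedCategory (ModSite.Mod O)) {K L : DerivedCategory (ModSite.Mod O)}
    (e : K ≅ L) (h : Module.Finite (DerComp.GSec O) (Y ⟶ K)) : Module.Finite (DerComp.GSec O) (Y ⟶ L) :=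
  have := h
  Module.Finite.equiv (postEquiv Y e)

lemma finite_hom_shift_zero {C : Type u} [SmallCategory C] {J : GrothendieckTopology C}
    {O : Sheaf J CommRingCat.{u}} (M : ModSite.Mod O) {K : DerivedCategory (ModSite.Mod O)}
    (e : (singleFunctor (ModSite.Mod O) 0).obj M ≅ K)
    (h : Module.Finite (DerComp.GSec O) (ModSite.unit O ⟶ M)) :
    Module.Finite (DerComp.GSec O) (SiteCmp.inD O (ModSite.unit O) ⟶ K⟦(0 : ℤ)⟧) :=
  finite_hom_congr _ (e ≪≫ ((shiftFunctorZero (DerivedCategory (ModSite.Mod O)) ℤ).app K).symm)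
    (finite_hom_single_zero M h)

lemma subsingleton_adicCompletion {A M : Type*} [CommRing A] [AddCommGroup M] [Module A M] (I : Ideal A)
    [Subsingleton M] : Subsingleton (AdicCompletion I M) := by
  have h : ∀ n : ℕ, Subsingleton (M ⧸ (I ^ n • ⊤ : Submodule A M)) := fun n =>
    (Submodule.mkQ_surjective _).subsingleton
  exact ⟨fun x y => AdicCompletion.ext fun n => (h n).elim _ _⟩

theorem subsingleton_completion_coherent (X : Scheme.{u}) [IsLocallyNoetherian X] (𝓘 : DerComp.IdealSh X.sheaf)
    (hqc : QCIdeal 𝓘) [DerComp.HasDerCompletion X.sheaf 𝓘] (F : ModSite.Mod X.sheaf) (hF : Coh.IsCoh (X := X) F)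
    {U : X.Opens} (hU : IsAffineOpen U) (p : ℤ) (hp : p ≠ 0) :
    Subsingleton (SiteCmp.inD X.sheaf (ModSite.freeOn X.sheaf U) ⟶
      ((DerComp.derCompletion X.sheaf 𝓘).obj (SiteCmp.inD X.sheaf F)).obj⟦p⟧) := by
  haveI : IsNoetherianRing ((X.sheaf.over U).obj.obj (op (Over.mk (𝟙 U)))) :=
    IsLocallyNoetherian.component_noetherian ⟨U, hU⟩
  haveI := isNoetherianRing_gsec (O := X.sheaf.over U) (Over.mkIdTerminal (X := U))
  have := hasDerCompletion (X.sheaf.over U) (𝓘.over U)
  have hL := locSpanned_of_isFiniteType 𝓘 (isFiniteType_of_qc hqc)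
  have := restr_additive (O := X.sheaf) U
  have := (restr_exact (O := X.sheaf) U).1
  have := (restr_exact (O := X.sheaf) U).2
  let K := (restrD (O := X.sheaf) U).obj (SiteCmp.inD X.sheaf F)
  have hsub : ∀ n : ℤ, n ≠ 0 →
      Subsingleton (SiteCmp.inD (X.sheaf.over U) (ModSite.unit (X.sheaf.over U)) ⟶ K⟦n⟧) := fun n hn => by
    obtain ⟨e⟩ := exists_homOver_equiv_shift U (SiteCmp.inD X.sheaf F) n
    have := subsingleton_hom_single hU hF.1 hn
    exact e.symm.subsingleton
  have hfin : ∀ n : ℤ, Module.Finite (DerComp.GSec (X.sheaf.over U))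
      (SiteCmp.inD (X.sheaf.over U) (ModSite.unit (X.sheaf.over U)) ⟶ K⟦n⟧) := fun n => by
    by_cases hn : n = 0
    · subst hn
      haveI := hF.1
      haveI := hF.2
      exact finite_hom_shift_zero ((ModSite.restr X.sheaf U).obj F)
        (((ModSite.restr X.sheaf U).mapDerivedCategorySingleFunctor 0).app F).symm
        (finite_hom_unit (Over.mkIdTerminal (X := U)) _ (QC70.finite_sections_of_isFiniteType (X := X) F hU))
    · have := hsub n hn
      infer_instance
  obtain ⟨e, -⟩ := adic_of_derCompletion (isGenBy_globalIdeal hqc hU) K hfin p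
  have := hsub p hp
  have := subsingleton_adicCompletion (A := DerComp.GSec (X.sheaf.over U))
    (M := SiteCmp.inD (X.sheaf.over U) (ModSite.unit (X.sheaf.over U)) ⟶ K⟦p⟧) (globalIdeal 𝓘 U)
  obtain ⟨g⟩ := exists_restr_completion_iso U hL (SiteCmp.inD X.sheaf F)
  obtain ⟨e'⟩ := exists_homOver_equiv_shift U ((DerComp.derCompletion X.sheaf 𝓘).obj (SiteCmp.inD X.sheaf F)).obj p
  exact (e'.trans ((((shiftFunctor (DerivedCategory (ModSite.Mod (X.sheaf.over U))) p).mapIso g).symm.homToEquiv).trans
    e.toEquiv)).subsingleton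

end Groth.Agent.DerComp18
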