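import Mathlib.Algebra.Homology.HomotopyCategory.MappingCone
import Mathlib.Algebra.Homology.HomotopyCategory.Pretriangulated

/-!
The cone of a map of cones, in the two orders.
-/

universe v u

open CategoryTheory CategoryTheory.Limits

set_option autoImplicit false

namespace Groth.Agent.DerComp18

open CochainComplex.mappingCone

variable {A : Type u} [Category.{v} A] [Preadditive A] [HasBinaryBiproducts A]
  {K₁ L₁ K₂ L₂ : CochainComplex A ℤ} {φ₁ : K₁ ⟶ L₁} {φ₂ : K₂ ⟶ L₂} {a : K₁ ⟶ K₂} {b : L₁ ⟶ L₂}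

/-- Exchange of the two directions, in one degree. -/
noncomputable def swapF (h : φ₁ ≫ b = a ≫ φ₂) (h' : a ≫ φ₂ = φ₁ ≫ b) (n : ℤ) :
    (CochainComplex.mappingCone (map φ₁ φ₂ a b h)).X n ⟶ (CochainComplex.mappingCone (map a b φ₁ φ₂ h')).X n :=
  (fst (map φ₁ φ₂ a b h)).1.v n (n + 1) rfl ≫
      (-((fst φ₁).1.v (n + 1) (n + 2) (by lia) ≫ (inl a).v (n + 2) (n + 1) (by lia) ≫
          (inl (map a b φ₁ φ₂ h')).v (n + 1) n (by lia)) +
        (snd φ₁).v (n + 1) (n + 1) (add_zero _) ≫ (inl b).v (n + 1) n (by lia) ≫ (inr (map a b φ₁ φ₂ h')).f n) +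
    (snd (map φ₁ φ₂ a b h)).v n n (add_zero _) ≫
      ((fst φ₂).1.v n (n + 1) rfl ≫ (inr a).f (n + 1) ≫ (inl (map a b φ₁ φ₂ h')).v (n + 1) n (by lia) +
        (snd φ₂).v n n (add_zero _) ≫ (inr b).f n ≫ (inr (map a b φ₁ φ₂ h')).f n)

lemma inl_inl_swapF (h : φ₁ ≫ b = a ≫ φ₂) (h' : a ≫ φ₂ = φ₁ ≫ b) (n p q : ℤ) (hp : p + (-1) = q) (hq : q + (-1) = n) :
    (inl φ₁).v p q hp ≫ (inl (map φ₁ φ₂ a b h)).v q n hq ≫ swapF h h' n =
      -((inl a).v p q hp ≫ (inl (map a b φ₁ φ₂ h')).v q n hq) := by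
  obtain rfl : q = n + 1 := by lia
  obtain rfl : p = n + 2 := by lia
  simp [swapF]

lemma inr_inl_swapF (h : φ₁ ≫ b = a ≫ φ₂) (h' : a ≫ φ₂ = φ₁ ≫ b) (n q : ℤ) (hq : q + (-1) = n) :
    (inr φ₁).f q ≫ (inl (map φ₁ φ₂ a b h)).v q n hq ≫ swapF h h' n =
      (inl b).v q n hq ≫ (inr (map a b φ₁ φ₂ h')).f n := by
  obtain rfl : q = n + 1 := by lia
  simp [swapF]

lemma inl_inr_swapF (h : φ₁ ≫ b = a ≫ φ₂) (h' : a ≫ φ₂ = φ₁ ≫ b) (n q : ℤ) (hq : q + (-1) = n) :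
    (inl φ₂).v q n hq ≫ (inr (map φ₁ φ₂ a b h)).f n ≫ swapF h h' n =
      (inr a).f q ≫ (inl (map a b φ₁ φ₂ h')).v q n hq := by
  obtain rfl : q = n + 1 := by lia
  simp [swapF]

lemma inr_inr_swapF (h : φ₁ ≫ b = a ≫ φ₂) (h' : a ≫ φ₂ = φ₁ ≫ b) (n : ℤ) :
    (inr φ₂).f n ≫ (inr (map φ₁ φ₂ a b h)).f n ≫ swapF h h' n =
      (inr b).f n ≫ (inr (map a b φ₁ φ₂ h')).f n := by
  simp [swapF]

lemma cone2_ext {B : A} (h : φ₁ ≫ b = a ≫ φ₂) (n : ℤ) {f g : (CochainComplex.mappingCone (map φ₁ φ₂ a b h)).X n ⟶ B}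
    (h1 : (inl φ₁).v (n + 2) (n + 1) (by lia) ≫ (inl (map φ₁ φ₂ a b h)).v (n + 1) n (by lia) ≫ f =
      (inl φ₁).v (n + 2) (n + 1) (by lia) ≫ (inl (map φ₁ φ₂ a b h)).v (n + 1) n (by lia) ≫ g)
    (h2 : (inr φ₁).f (n + 1) ≫ (inl (map φ₁ φ₂ a b h)).v (n + 1) n (by lia) ≫ f =
      (inr φ₁).f (n + 1) ≫ (inl (map φ₁ φ₂ a b h)).v (n + 1) n (by lia) ≫ g)
    (h3 : (inl φ₂).v (n + 1) n (by lia) ≫ (inr (map φ₁ φ₂ a b h)).f n ≫ f =
      (inl φ₂).v (n + 1) n (by lia) ≫ (inr (map φ₁ φ₂ a b h)).f n ≫ g)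
    (h4 : (inr φ₂).f n ≫ (inr (map φ₁ φ₂ a b h)).f n ≫ f = (inr φ₂).f n ≫ (inr (map φ₁ φ₂ a b h)).f n ≫ g) :
    f = g := by
  rw [ext_from_iff (map φ₁ φ₂ a b h) (n + 1) n rfl]
  exact ⟨(ext_from_iff φ₁ (n + 2) (n + 1) (by lia) _ _).2 ⟨h1, h2⟩, (ext_from_iff φ₂ (n + 1) n rfl _ _).2 ⟨h3, h4⟩⟩

@[reassoc]
lemma inl_v_map (h : φ₁ ≫ b = a ≫ φ₂) (p q : ℤ) (hpq : p + (-1) = q) :
    (inl φ₁).v p q hpq ≫ (map φ₁ φ₂ a b h).f q = a.f p ≫ (inl φ₂).v p q hpq := by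
  simp [map]

@[reassoc]
lemma inr_f_map (h : φ₁ ≫ b = a ≫ φ₂) (q : ℤ) :
    (inr φ₁).f q ≫ (map φ₁ φ₂ a b h).f q = b.f q ≫ (inr φ₂).f q := by
  simp [map]

/-- Exchange of the two directions. -/
noncomputable def swapHom (h : φ₁ ≫ b = a ≫ φ₂) (h' : a ≫ φ₂ = φ₁ ≫ b) :
    CochainComplex.mappingCone (map φ₁ φ₂ a b h) ⟶ CochainComplex.mappingCone (map a b φ₁ φ₂ h') where
  f n := swapF h h' n
  comm' i j hij := by
    obtain rfl : i + 1 = j := hij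
    have d₁ := fun {Z : A} (z : _ ⟶ Z) => inl_v_d_assoc (map φ₁ φ₂ a b h) (i + 1) i (i + 2) (by lia) (by lia) z
    have d₂ := inl_v_d (map a b φ₁ φ₂ h') (i + 1) i (i + 2) (by lia) (by lia)
    have e₂ := inr_f_d (map a b φ₁ φ₂ h') i (i + 1)
    have e₁ := fun {Z : A} (z : _ ⟶ Z) => inr_f_d_assoc (map φ₁ φ₂ a b h) i (i + 1) z
    refine cone2_ext h i ?_ ?_ ?_ ?_
    · rw [reassoc_of% (inl_inl_swapF h h' i (i + 2) (i + 1) (by lia) (by lia)), d₁, Preadditive.neg_comp,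
        Category.assoc, d₂]
      simp only [Preadditive.sub_comp, Preadditive.comp_sub, Category.assoc, inl_v_map_assoc, inl_v_map,
        inl_inr_swapF, inl_v_d_assoc φ₁ (i + 2) (i + 1) (i + 3) (by lia) (by lia),
        inl_v_d_assoc a (i + 2) (i + 1) (i + 3) (by lia) (by lia), inr_inl_swapF, inl_inl_swapF,
        Preadditive.comp_neg]
      abel
    · rw [reassoc_of% (inr_inl_swapF h h' i (i + 1) (by lia)), d₁, e₂,
        inl_v_d_assoc b (i + 1) i (i + 2) (by lia) (by lia)]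
      simp only [Preadditive.sub_comp, Preadditive.comp_sub, Category.assoc, inr_f_map_assoc, inr_f_map,
        inr_inr_swapF, inr_f_d_assoc, inr_inl_swapF]
    · rw [reassoc_of% (inl_inr_swapF h h' i (i + 1) (by lia)), d₂, e₁,
        inl_v_d_assoc φ₂ (i + 1) i (i + 2) (by lia) (by lia)]
      simp only [Preadditive.sub_comp, Preadditive.comp_sub, Category.assoc, inr_f_map_assoc, inr_f_map,
        inl_v_map_assoc, inl_v_map, inr_inr_swapF, inr_f_d_assoc, inr_inl_swapF, inl_inr_swapF]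
    · rw [reassoc_of% (inr_inr_swapF h h' i), e₁, e₂]
      simp only [inr_f_d_assoc, inr_inr_swapF]

/-- The two orders agree. -/
noncomputable def swapIso (h : φ₁ ≫ b = a ≫ φ₂) :
    CochainComplex.mappingCone (map φ₁ φ₂ a b h) ≅ CochainComplex.mappingCone (map a b φ₁ φ₂ h.symm) where
  hom := swapHom h h.symm
  inv := swapHom h.symm h
  hom_inv_id := HomologicalComplex.hom_ext _ _ fun n => by
    refine cone2_ext h n ?_ ?_ ?_ ?_ <;>
      simp [swapHom, inl_inl_swapF, inr_inl_swapF, inl_inr_swapF, inr_inr_swapF,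
        reassoc_of% (inl_inl_swapF h h.symm n (n + 2) (n + 1) (by lia) (by lia)),
        reassoc_of% (inr_inl_swapF h h.symm n (n + 1) (by lia)),
        reassoc_of% (inl_inr_swapF h h.symm n (n + 1) (by lia)), reassoc_of% (inr_inr_swapF h h.symm n)]
  inv_hom_id := HomologicalComplex.hom_ext _ _ fun n => by
    refine cone2_ext h.symm n ?_ ?_ ?_ ?_ <;>
      simp [swapHom, inl_inl_swapF, inr_inl_swapF, inl_inr_swapF, inr_inr_swapF,
        reassoc_of% (inl_inl_swapF h.symm h n (n + 2) (n + 1) (by lia) (by lia)),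
        reassoc_of% (inr_inl_swapF h.symm h n (n + 1) (by lia)),
        reassoc_of% (inl_inr_swapF h.symm h n (n + 1) (by lia)), reassoc_of% (inr_inr_swapF h.symm h n)]

end Groth.Agent.DerComp18
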