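import Groth.Agent.DerComp18.Local

/-!
The sheaf of ideals of sections at which a complex is complete; locality of derived completeness.
-/

universe u

open CategoryTheory CategoryTheory.Limits Opposite DerivedCategory

attribute [local instance] HasDerivedCategory.standard

set_option autoImplicit false

namespace Groth.Agent.DerComp18

open Groth.Agent.Mod48 Groth.Agent.Mod48.LocGen

variable {C : Type u} [SmallCategory C] {J : GrothendieckTopology C} {O : Sheaf J CommRingCat.{u}}

/-- The sections along which `K` is complete. -/
noncomputable def idealOf (K : DerivedCategory (ModSite.Mod O)) : DerComp.IdealSh O where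
  ideal U :=
    { carrier := {f | ∀ (V : C) (g : V ⟶ U) (m : ℤ), CompEnd (Pm (fe O V ((O.obj.map g.op).hom f)) m) K}
      zero_mem' := fun V g m => by rw [map_zero]; exact compEnd_fe_zero V m K
      add_mem' := fun {a b} ha hb V g m => by rw [map_add]; exact compEnd_fe_add V m K (ha V g m) (hb V g m)
      smul_mem' := fun c a ha V g m => by
        rw [smul_eq_mul, map_mul]
        exact compEnd_fe_mul V m K (ha V g m) _ }
  map_mem {U V} g f hf W h m := by
    have := hf W (h ≫ g) m
    rw [op_comp, Functor.map_comp, CommRingCat.comp_apply] at this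
    exact this
  glue {U f} S hS h W k := by
    refine compEnd_of_cover W _ K (J.pullback_stable k hS) fun V g hg m => ?_
    have := h (g ≫ k) hg V (𝟙 V) m
    rw [← CommRingCat.comp_apply, ← Functor.map_comp, ← op_comp, Category.id_comp] at this
    rw [← CommRingCat.comp_apply, ← Functor.map_comp, ← op_comp]
    exact this

theorem exists_idealSh_of_vanishing (K : DerivedCategory (ModSite.Mod O)) :
    ∃ I : DerComp.IdealSh O, ∀ (U : C) (f : O.obj.obj (op U)), f ∈ I.ideal U ↔
      ∀ (V : C) (g : V ⟶ U) (n : ℤ), Subsingleton (SiteCmp.inD O ((ModSite.extZero O V).obj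
        (DerComp.awayOver O V ((O.obj.map g.op).hom f))) ⟶ K⟦n⟧) :=
  ⟨idealOf K, fun U f => forall₂_congr fun V g => (subsingleton_awayOver_iff V _ K).symm⟩

/-- Derived completeness means that `I` is contained in the ideal of completeness. -/
theorem isDerComp_iff_le (I : DerComp.IdealSh O) (K : DerivedCategory (ModSite.Mod O)) :
    DerComp.IsDerComp O I K ↔ I ≤ idealOf K := by
  rw [isDerComp_iff]
  refine ⟨fun h U f hf V g m => h V _ (I.map_mem g hf) m, fun h U f hf m => ?_⟩
  have := h U hf U (𝟙 U) m
  rw [op_id, CategoryTheory.Functor.map_id] at this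
  exact this

/-- Derived completeness may be checked on the members of a covering of every object. -/
theorem isDerComp_of_local (I : DerComp.IdealSh O) (K : DerivedCategory (ModSite.Mod O))
    (h : ∀ U : C, ∃ S ∈ J U, ∀ ⦃V : C⦄ (g : V ⟶ U), S g → ∀ f ∈ I.ideal V, ∀ m : ℤ, CompEnd (Pm (fe O V f) m) K) :
    DerComp.IsDerComp O I K := by
  rw [isDerComp_iff]
  intro U f hf
  obtain ⟨S, hS, hS'⟩ := h U
  exact compEnd_of_cover U f K hS fun V g hg => hS' g hg _ (I.map_mem g hf)

end Groth.Agent.DerComp18
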