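import Groth.Agent.DerComp18.RestrRight
import Groth.Agent.DerComp18.Descent
import Groth.Agent.DerComp18.IdealOf

/-!
Objects left orthogonal to the derived complete ones: restriction, locality, completion.
-/

universe u

open CategoryTheory CategoryTheory.Limits Opposite DerivedCategory Pretriangulated

attribute [local instance] HasDerivedCategory.standard

set_option autoImplicit false

namespace Groth.Agent.DerComp18

open Groth.Agent.Mod48 Groth.Agent.Mod48.LocGen

variable {C : Type u} [SmallCategory C] {J : GrothendieckTopology C} {O : Sheaf J CommRingCat.{u}}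

/-- Over `X`, the sheaf of ideals is locally in the span of `l`. -/
def Spans (I : DerComp.IdealSh O) {X : C} (l : List (DerComp.GSec (O.over X))) : Prop :=
  ∀ (W : Over X) (f : O.obj.obj (op W.left)), f ∈ I.ideal W.left →
    ∃ S ∈ J.over X W, ∀ ⦃V : Over X⦄ (h : V ⟶ W), S h → ((O.over X).obj.map h.op).hom f ∈ spanAt l V

/-- Locally spanned by finitely many sections. -/
def LocSpanned (I : DerComp.IdealSh O) : Prop :=
  ∀ U : C, ∃ S ∈ J U, ∀ ⦃V : C⦄ (g : V ⟶ U), S g → ∃ l : List (DerComp.GSec (O.over V)),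
    (∀ s ∈ l, ∀ W : Over V, s.1 W ∈ I.ideal W.left) ∧ Spans I l

/-- The sheaf of ideals locally spanned by a list of global sections. -/
noncomputable def spanSh (l : List (DerComp.GSec O)) : DerComp.IdealSh O where
  ideal W :=
    { carrier := {f | ∃ S ∈ J W, ∀ ⦃V : C⦄ (h : V ⟶ W), S h → (O.obj.map h.op).hom f ∈ spanAt l V}
      zero_mem' := ⟨⊤, J.top_mem W, fun V h _ => by rw [map_zero]; exact zero_mem _⟩
      add_mem' := by
        rintro a b ⟨S, hS, ha⟩ ⟨T, hT, hb⟩
        exact ⟨S ⊓ T, J.intersection_covering hS hT, fun V h hh => by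
          rw [map_add]; exact add_mem (ha h hh.1) (hb h hh.2)⟩
      smul_mem' := by
        rintro c a ⟨S, hS, ha⟩
        exact ⟨S, hS, fun V h hh => by rw [smul_eq_mul, map_mul]; exact Ideal.mul_mem_left _ _ (ha h hh)⟩ }
  map_mem := by
    rintro U V g f ⟨S, hS, hf⟩
    refine ⟨S.pullback g, J.pullback_stable g hS, fun W h hh => ?_⟩
    rw [← CommRingCat.comp_apply, ← Functor.map_comp, ← op_comp]
    exact hf (h ≫ g) hh
  glue := by
    intro U f S hS h
    choose T hT hT' using h
    refine ⟨Sieve.bind S.1 T, J.bind_covering hS hT, fun Z k hk => ?_⟩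
    obtain ⟨V, a, b, hb, ha, rfl⟩ := hk
    have := hT' b hb a ha
    rw [op_comp, Functor.map_comp, CommRingCat.comp_apply]
    exact this

theorem locSpanned_of_isFiniteType (I : DerComp.IdealSh O) (hI : I.IsFiniteType) : LocSpanned I := fun U => by
  obtain ⟨S, hS, h⟩ := hI U
  refine ⟨S, hS, fun V g hg => ?_⟩
  obtain ⟨r, a, ha, hle⟩ := h g hg
  refine ⟨List.ofFn fun i => DerComp.GSec.ofSect O V (a i), fun s hs W => ?_, fun W f hf => ?_⟩
  · obtain ⟨i, rfl⟩ := List.mem_ofFn.1 hs
    exact ha i W
  · exact hle (spanSh _) (fun i Z => ⟨⊤, (J.over V).top_mem Z, fun Z' k _ => by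
      rw [(DerComp.GSec.ofSect O V (a i)).2 k]
      exact mem_spanAt (List.mem_ofFn.2 ⟨i, rfl⟩) Z'⟩) W hf

/-- A section over the localised site, on the twice localised site. -/
def toOver2 {U : C} (Z : Over U) (s : DerComp.GSec (O.over Z.left)) : DerComp.GSec ((O.over U).over Z) :=
  ⟨fun T => s.1 (Over.mk T.hom.left), fun T T' g => s.2 (Over.homMk g.left.left (by
    change g.left.left ≫ T.hom.left = T'.hom.left
    rw [← Over.comp_left, Over.w g]) : Over.mk T'.hom.left ⟶ Over.mk T.hom.left)⟩

lemma spanAt_toOver2 {U : C} (Z : Over U) (l : List (DerComp.GSec (O.over Z.left))) (T : Over Z) :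
    spanAt (l.map (toOver2 Z)) T = spanAt l (Over.mk T.hom.left) := by
  induction l with
  | nil => rfl
  | cons s l ih =>
    rw [List.map_cons, spanAt, spanAt, ih]
    rfl

theorem locSpanned_over {I : DerComp.IdealSh O} (hI : LocSpanned I) (U : C) : LocSpanned (I.over U) := fun W => by
  obtain ⟨S, hS, h⟩ := hI W.left
  refine ⟨(Sieve.overEquiv W).symm S, J.overEquiv_symm_mem_over W S hS, fun Z g hg => ?_⟩
  obtain ⟨l, hl, hspan⟩ := h g.left ((Sieve.overEquiv_symm_iff S g).1 hg)
  refine ⟨l.map (toOver2 Z), fun s hs T => ?_, fun T f hf => ?_⟩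
  · obtain ⟨s', hs', rfl⟩ := List.mem_map.1 hs
    exact hl s' hs' (Over.mk T.hom.left)
  · obtain ⟨R, hR, hR'⟩ := hspan (Over.mk T.hom.left) f hf
    let R0 : Sieve T.left.left := Sieve.overEquiv (Over.mk T.hom.left) R
    have hR0 : R0 ∈ J T.left.left := (GrothendieckTopology.mem_over_iff _ _).1 hR
    refine ⟨(Sieve.overEquiv T).symm ((Sieve.overEquiv T.left).symm R0),
      (J.over U).overEquiv_symm_mem_over T _ (J.overEquiv_symm_mem_over T.left R0 hR0), fun T' k hk => ?_⟩
    have hk' := (Sieve.overEquiv_symm_iff R0 k.left).1 ((Sieve.overEquiv_symm_iff _ k).1 hk)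
    let k0 : Over.mk T'.hom.left ⟶ Over.mk T.hom.left := Over.homMk k.left.left (by
      change k.left.left ≫ T.hom.left = T'.hom.left
      rw [← Over.comp_left, Over.w k])
    have hk0 : R k0 := by
      have h0 := (Sieve.overEquiv_iff R k.left.left).1 hk'
      let e : Over.mk T'.hom.left ⟶ Over.mk (k.left.left ≫ T.hom.left) := Over.homMk (𝟙 _) (by
        change 𝟙 _ ≫ k.left.left ≫ T.hom.left = T'.hom.left
        rw [Category.id_comp, ← Over.comp_left, Over.w k])
      have : k0 = e ≫ (Over.homMk k.left.left : Over.mk (k.left.left ≫ T.hom.left) ⟶ Over.mk T.hom.left) := by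
        ext
        simp [k0, e]
      rw [this]
      exact R.downward_closed h0 e
    rw [spanAt_toOver2]
    exact hR' k0 hk0

lemma compEnd_of_mem {I : DerComp.IdealSh O} {V : C} {L : DerivedCategory (ModSite.Mod O)}
    (hL : DerComp.IsDerComp O I L) (s : DerComp.GSec (O.over V)) (hs : ∀ W : Over V, s.1 W ∈ I.ideal W.left)
    (M : ModSite.Mod (O.over V)) (m : ℤ) : CompEnd (Pm (DerComp.smulEnd s M) m) ((restrD V).obj L) :=
  compEnd_of_local s _ (fun W => ⟨⊤, (J.over V).top_mem W, fun Z _ _ k =>
    (compEnd_restrD V Z _ k L).1 ((isDerComp_iff O I L).1 hL Z.left _ (hs Z) k)⟩) M m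

/-- Restriction of a locally killed module. -/
lemma killedBy_restr {I : DerComp.IdealSh O} {M : ModSite.Mod O} {e : M ⟶ M}
    (h : ∀ W x, KilledBy I.ideal e W x) (U : C) (W : Over U) (x : (pre ((ModSite.restr O U).obj M)).obj (op W)) :
    KilledBy (I.over U).ideal ((ModSite.restr O U).map e) W x := by
  obtain ⟨S, hS, hS'⟩ := h W.left x
  exact ⟨(Sieve.overEquiv W).symm S, J.overEquiv_symm_mem_over W S hS, fun V g hg =>
    hS' g.left ((Sieve.overEquiv_symm_iff S g).1 hg)⟩

open Polynomial in
lemma killed_of_killedBy {V : C} {I : DerComp.IdealSh O} {l : List (DerComp.GSec (O.over V))} (hl : Spans I l)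
    {M : ModSite.Mod (O.over V)} {e : M ⟶ M} {W : Over V} {x : (pre M).obj (op W)}
    (h : KilledBy (I.over V).ideal e W x) : Killed l e W x := by
  obtain ⟨S, hS, hS'⟩ := h
  refine killed_local hS fun Z g hg => ?_
  obtain ⟨p, n, hp, hp'⟩ := hS' g hg
  -- spread the membership over a covering
  have key : ∀ q ∈ ((I.over V).ideal Z).map (Polynomial.C : _ →+* ((O.over V).obj.obj (op Z))[X]),
      ∃ T ∈ J.over V Z, ∀ ⦃Y : Over V⦄ (k : Y ⟶ Z), T k →
        q.map ((O.over V).obj.map k.op).hom ∈ (spanAt l Y).map Polynomial.C := by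
    intro q hq
    induction hq using Submodule.span_induction with
    | mem x hx =>
      obtain ⟨f, hf, rfl⟩ := hx
      obtain ⟨T, hT, hT'⟩ := hl Z f hf
      exact ⟨T, hT, fun Y k hk => by
        rw [Polynomial.map_C]
        exact Ideal.mem_map_of_mem _ (hT' k hk)⟩
    | zero => exact ⟨⊤, (J.over V).top_mem Z, fun Y k _ => by rw [Polynomial.map_zero]; exact zero_mem _⟩
    | add a b _ _ ha hb =>
      obtain ⟨T, hT, hT'⟩ := ha
      obtain ⟨T₂, hT₂, hT₂'⟩ := hb
      exact ⟨T ⊓ T₂, (J.over V).intersection_covering hT hT₂, fun Y k hk => by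
        rw [Polynomial.map_add]; exact add_mem (hT' k hk.1) (hT₂' k hk.2)⟩
    | smul c a _ ha =>
      obtain ⟨T, hT, hT'⟩ := ha
      exact ⟨T, hT, fun Y k hk => by
        rw [smul_eq_mul, Polynomial.map_mul]; exact Ideal.mul_mem_left _ _ (hT' k hk)⟩
  obtain ⟨T, hT, hT'⟩ := key _ hp
  refine ⟨T, hT, fun Y k hk => ⟨p.map ((O.over V).obj.map k.op).hom, n, ?_, ?_⟩⟩
  · have := hT' k hk
    rw [Polynomial.map_sub, Polynomial.map_pow, Polynomial.map_X] at this
    exact this
  · rw [← res_aeval, hp']
    exact res_zero' _ _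

/-- **Key vanishing**: a locally killed module with invertible endomorphism has no maps to complete objects. -/
theorem noHom_of_killedBy {I : DerComp.IdealSh O} (hI : LocSpanned I) (M : ModSite.Mod O) (e : M ⟶ M) [IsIso e]
    (h : ∀ W x, KilledBy I.ideal e W x) (L : DerivedCategory (ModSite.Mod O)) (hL : DerComp.IsDerComp O I L) :
    NoHom ((singleFunctor (ModSite.Mod O) 0).obj M) L := by
  refine noHom_of_cover _ _ fun U => ?_
  obtain ⟨S, hS, hS'⟩ := hI U
  refine ⟨S, hS, fun V g hg => ?_⟩
  obtain ⟨l, hl, hspan⟩ := hS' g hg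
  have := restr_additive (O := O) V
  have := (restr_exact (O := O) V).1
  have := (restr_exact (O := O) V).2
  exact (show NoHom ((singleFunctor _ 0).obj ((ModSite.restr O V).obj M)) ((restrD V).obj L) from
    subsingleton_of_killed _ l (fun s hs => compEnd_of_mem hL s (hl s hs)) _ ((ModSite.restr O V).map e)
      fun W x => killed_of_killedBy hspan (killedBy_restr h V W x)).of_iso
    (((ModSite.restr O V).mapDerivedCategorySingleFunctor 0).app M).symm

/-- Left orthogonal to the derived complete objects. -/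
def Perp (I : DerComp.IdealSh O) (K : DerivedCategory (ModSite.Mod O)) : Prop :=
  ∀ L, DerComp.IsDerComp O I L → NoHom K L

lemma isDerComp_shift {I : DerComp.IdealSh O} {L : DerivedCategory (ModSite.Mod O)}
    (hL : DerComp.IsDerComp O I L) (k : ℤ) : DerComp.IsDerComp O I (L⟦k⟧) := fun U f hf =>
  (show NoHom _ L from hL U f hf).shift_right k

lemma isDerComp_restrD (I : DerComp.IdealSh O) (U : C) (L : DerivedCategory (ModSite.Mod O))
    (hL : DerComp.IsDerComp O I L) : DerComp.IsDerComp (O.over U) (I.over U) ((restrD U).obj L) :=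
  (isDerComp_iff _ _ _).2 fun W f hf m => (compEnd_restrD U W f m L).1 ((isDerComp_iff O I L).1 hL W.left f hf m)

/-- **The right adjoint of restriction preserves completeness.** -/
theorem isDerComp_restrD_right {I : DerComp.IdealSh O} (hI : LocSpanned I) (X : C)
    {R : DerivedCategory (ModSite.Mod (O.over X)) ⥤ DerivedCategory (ModSite.Mod O)} (adj : restrD (O := O) X ⊣ R)
    (L : DerivedCategory (ModSite.Mod (O.over X))) (hL : DerComp.IsDerComp (O.over X) (I.over X) L) :
    DerComp.IsDerComp O I (R.obj L) := fun Y g hg n => by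
  have := restr_additive (O := O) X
  have := (restr_exact (O := O) X).1
  have := (restr_exact (O := O) X).2
  let P := (singleFunctor (ModSite.Mod O) 0).obj (awayZero O Y g)
  let e : (restrD (O := O) X).obj (P⟦-n⟧) ≅
      ((singleFunctor (ModSite.Mod (O.over X)) 0).obj ((ModSite.restr O X).obj (awayZero O Y g)))⟦-n⟧ :=
    ((ModSite.restr O X).mapDerivedCategory.commShiftIso (-n)).app P ≪≫
      (CategoryTheory.shiftFunctor _ (-n)).mapIso
        (((ModSite.restr O X).mapDerivedCategorySingleFunctor 0).app (awayZero O Y g))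
  let E₁ := (shiftEquiv' (DerivedCategory (ModSite.Mod O)) (-n) n (neg_add_cancel n)).toAdjunction
  let E₂ := (shiftEquiv' (DerivedCategory (ModSite.Mod (O.over X))) (-n) n (neg_add_cancel n)).toAdjunction
  refine (Equiv.subsingleton_congr ?_).2 (noHom_of_killedBy (locSpanned_over hI X) _
    ((ModSite.restr O X).map (awayMul Y g)) (killedBy_restr (killedBy_awayMul I Y g hg) X) L hL n)
  exact ((E₁.homEquiv P (R.obj L)).symm.trans ((adj.homEquiv _ L).symm.trans e.homFromEquiv)).trans
    (E₂.homEquiv _ L)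

/-- **Orthogonality restricts.** -/
theorem Perp.restrD {I : DerComp.IdealSh O} (hI : LocSpanned I) {K : DerivedCategory (ModSite.Mod O)}
    (hK : Perp I K) (X : C) : Perp (I.over X) ((restrD X).obj K) := fun L hL n => by
  obtain ⟨R, ⟨adj⟩⟩ := restrD_exists_adj (O := O) X
  refine (Equiv.subsingleton_congr ((adj.homEquiv K (L⟦n⟧)).trans
    ((shiftFunctorZero (DerivedCategory (ModSite.Mod O)) ℤ).app (R.obj (L⟦n⟧))).symm.homToEquiv)).2 ?_
  exact hK _ (isDerComp_restrD_right hI X adj _ (isDerComp_shift hL n)) 0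

/-- **Orthogonality is local.** -/
theorem perp_of_cover (I : DerComp.IdealSh O) (K : DerivedCategory (ModSite.Mod O))
    (h : ∀ U : C, ∃ S ∈ J U, ∀ ⦃V : C⦄ (g : V ⟶ U), S g → Perp (I.over V) ((restrD V).obj K)) : Perp I K :=
  fun L hL => noHom_of_cover K L fun U => by
    obtain ⟨S, hS, hS'⟩ := h U
    exact ⟨S, hS, fun V g hg => hS' g hg _ (isDerComp_restrD I V L hL)⟩

/-- Orthogonality from global sections spanning the ideal. -/
theorem perp_of_compEnd {I : DerComp.IdealSh O} {K : DerivedCategory (ModSite.Mod O)}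
    (l : List (DerComp.GSec O)) (hl : ∀ s ∈ l, ∀ U : C, s.1 U ∈ I.ideal U)
    (hK : ∀ L, (∀ s ∈ l, ∀ (M : ModSite.Mod O) (m : ℤ), CompEnd (Pm (DerComp.smulEnd s M) m) L) → NoHom K L) :
    Perp I K := fun L hL => hK L fun s hs M m => compEnd_of_local s L (fun W => ⟨⊤, J.top_mem W, fun Z _ _ k =>
      (isDerComp_iff O I L).1 hL Z _ (hl s hs Z) k⟩) M m

section Completion

variable (I : DerComp.IdealSh O) [DerComp.HasDerCompletion O I] (M : DerivedCategory (ModSite.Mod O))

lemma toDerCompletion_bijective {L : DerivedCategory (ModSite.Mod O)} (hL : DerComp.IsDerComp O I L) :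
    Function.Bijective fun x : ((DerComp.derCompletion O I).obj M).obj ⟶ L =>
      DerComp.toDerCompletion I M ≫ x := by
  let E := (ObjectProperty.fullyFaithfulι (DerComp.IsDerComp O I)).homEquiv
    (X := (DerComp.derCompletion O I).obj M) (Y := ⟨L, hL⟩)
  have h : (fun x : ((DerComp.derCompletion O I).obj M).obj ⟶ L => DerComp.toDerCompletion I M ≫ x) =
      ((DerComp.derCompletionAdj O I).homEquiv M ⟨L, hL⟩) ∘ E.symm := by
    funext x
    change _ = (DerComp.derCompletionAdj O I).homEquiv M ⟨L, hL⟩ (E.symm x)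
    rw [Adjunction.homEquiv_unit]
    exact congrArg (DerComp.toDerCompletion I M ≫ ·) (E.apply_symm_apply x).symm
  rw [h]
  exact (Equiv.bijective _).comp E.symm.bijective

/-- The cone of the completion map is orthogonal to the complete objects. -/
theorem exists_triangle_perp : ∃ (K : DerivedCategory (ModSite.Mod O))
    (a : ((DerComp.derCompletion O I).obj M).obj ⟶ K) (b : K ⟶ M⟦(1 : ℤ)⟧),
    Triangle.mk (DerComp.toDerCompletion I M) a b ∈ distinguishedTriangles ∧ Perp I K := by
  obtain ⟨K, a, b, hT⟩ := distinguished_cocone_triangle (DerComp.toDerCompletion I M)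
  exact ⟨K, a, b, hT, fun L hL => (DR39.subsingleton_hom_iff_precomp_bijective _ hT L).2
    fun n => toDerCompletion_bijective I M (isDerComp_shift hL n)⟩

variable {I M}

/-- The criterion: a map to a complete object with orthogonal cone is the completion. -/
theorem isIso_homEquiv_symm {T K : DerivedCategory (ModSite.Mod O)} (hT : DerComp.IsDerComp O I T)
    (r : M ⟶ T) (a : T ⟶ K) (b : K ⟶ M⟦(1 : ℤ)⟧) (hD : Triangle.mk r a b ∈ distinguishedTriangles)
    (hK : Perp I K) :
    IsIso (((DerComp.derCompletionAdj O I).homEquiv M ⟨T, hT⟩).symm r) := by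
  have hb : ∀ L, DerComp.IsDerComp O I L → Function.Bijective fun x : T ⟶ L => r ≫ x := fun L hL => by
    have := (DR39.subsingleton_hom_iff_precomp_bijective _ hD L).1 (hK L hL) 0
    exact DR39.precomp_iso_bijective r ((shiftFunctorZero (DerivedCategory (ModSite.Mod O)) ℤ).app L) this
  let g := ((DerComp.derCompletionAdj O I).homEquiv M ⟨T, hT⟩).symm r
  have hg : DerComp.toDerCompletion I M ≫ g.hom = r := by
    have := ((DerComp.derCompletionAdj O I).homEquiv M ⟨T, hT⟩).apply_symm_apply r
    rw [Adjunction.homEquiv_unit] at this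
    exact this
  obtain ⟨h, hh⟩ := (hb _ ((DerComp.derCompletion O I).obj M).property).2 (DerComp.toDerCompletion I M)
  dsimp only at hh
  refine ⟨ObjectProperty.homMk h, ?_, ?_⟩
  · refine ObjectProperty.hom_ext _ ?_
    refine (toDerCompletion_bijective I M ((DerComp.derCompletion O I).obj M).property).1 ?_
    change DerComp.toDerCompletion I M ≫ g.hom ≫ h = DerComp.toDerCompletion I M ≫ 𝟙 _
    rw [reassoc_of% hg, hh, Category.comp_id]
  · refine ObjectProperty.hom_ext _ ?_
    refine (hb T hT).1 ?_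
    change r ≫ h ≫ g.hom = r ≫ 𝟙 _
    rw [reassoc_of% hh, hg, Category.comp_id]

end Completion

end Groth.Agent.DerComp18
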