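import Groth.Agent.DerComp18.Crit
import Groth.Agent.DerComp18.SecHom
import Groth.Agent.Mod48.PushProd

/-!
Cohomology of a derived direct image over an object, and derived completeness.
-/

universe u

open CategoryTheory CategoryTheory.Limits Opposite DerivedCategory

attribute [local instance] HasDerivedCategory.standard

set_option autoImplicit false

namespace Groth.Agent.DerComp18

open Groth.Agent.Mod48 Groth.Agent.Mod48.LocGen

variable {C : Type u} [SmallCategory C] {J : GrothendieckTopology C} {O_C : Sheaf J CommRingCat.{u}}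
  {D : Type u} [SmallCategory D] {K : GrothendieckTopology D} {O_D : Sheaf K CommRingCat.{u}}
  (f : ModSite.RMor O_C O_D)

/-- The universal section of `f_* j_! O` over `V`. -/
noncomputable def etaPush (V : D) : ModSite.freeOn O_D V ⟶ f.push.obj (ModSite.freeOn O_C (f.fn.obj V)) :=
  (freeOnEquiv V _).symm (freeOnEquiv (f.fn.obj V) (ModSite.freeOn O_C (f.fn.obj V)) (𝟙 _))

lemma etaPush_bijective (V : D) (T : ModSite.Mod O_C) :
    Function.Bijective fun g : ModSite.freeOn O_C (f.fn.obj V) ⟶ T => etaPush f V ≫ f.push.map g := by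
  have h : (fun g : ModSite.freeOn O_C (f.fn.obj V) ⟶ T => etaPush f V ≫ f.push.map g) =
      (freeOnEquiv V (f.push.obj T)).symm ∘ (freeOnEquiv (f.fn.obj V) T) := by
    funext g
    apply (freeOnEquiv V _).injective
    rw [Function.comp_apply, Equiv.apply_symm_apply, freeOnEquiv_comp, etaPush, Equiv.apply_symm_apply,
      freeOnEquiv_eq g]
    rfl
  rw [h]
  exact (freeOnEquiv V _).symm.bijective.comp (freeOnEquiv (f.fn.obj V) T).bijective

/-- The image of a section under `f♯`. -/
abbrev sharpAt (V : D) (a : O_D.obj.obj (op V)) : O_C.obj.obj (op (f.fn.obj V)) :=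
  show O_C.obj.obj (op (f.fn.obj V)) from (f.sharp.hom.app (op V)).hom a

lemma fe_etaPush (V : D) (a : O_D.obj.obj (op V)) :
    fe O_D V a ≫ etaPush f V = etaPush f V ≫ f.push.map (fe O_C (f.fn.obj V) (sharpAt f V a)) := by
  apply (freeOnEquiv V _).injective
  rw [freeOnEquiv_fe, freeOnEquiv_comp, etaPush, Equiv.apply_symm_apply]
  refine Eq.trans ?_ (freeOnEquiv_eq (fe O_C (f.fn.obj V) (sharpAt f V a)))
  rw [fe, Equiv.apply_symm_apply]
  rfl

lemma secHom_push (V : D) (I : CochainComplex (ModSite.Mod O_C) ℤ) (hI : I.IsKInjective) :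
    SecHom (ModSite.freeOn O_D V) ((f.push.mapHomologicalComplex (ComplexShape.up ℤ)).obj I) := by
  obtain ⟨J', s, hJ, hs⟩ := enoughKInj_mod O_D ((f.push.mapHomologicalComplex (ComplexShape.up ℤ)).obj I)
  exact secHom_of_qis s (sec_qis_push f I hI J' hJ s V).1 (sec_qis_push f I hI J' hJ s V).2

variable [SiteCmp.HasRpushD f]

lemma additive_rpushD : (SiteCmp.RpushD f).Additive :=
  additive_push (SiteCmp.RpushD f) (pushUnit f) (isIso_pushUnit f) (enoughKInj_mod O_C)

/-- `H^m(f⁻¹ V, M) = H^m(V, Rf_* M)`, as groups with endomorphisms. -/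
theorem compEnd_rpushD (V : D) (a : O_D.obj.obj (op V)) (m : ℤ) (M : DerivedCategory (ModSite.Mod O_C)) :
    CompEnd (Pm (fe O_C (f.fn.obj V) (sharpAt f V a)) m) M ↔ CompEnd (Pm (fe O_D V a) m) ((SiteCmp.RpushD f).obj M) := by
  have := additive_rpushD f
  exact compEnd_push (SiteCmp.RpushD f) (pushUnit f) (etaPush f V) (etaPush_bijective f V) (enoughKInj_mod O_C)
    (isIso_pushUnit f) (secHom_push f V) _ _ (fe_etaPush f V a) m M

theorem isDerComp_rpushD (I : DerComp.IdealSh O_D) (I' : DerComp.IdealSh O_C)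
    (hf : DerComp.RMapsIdealInto f I I') (M : DerivedCategory (ModSite.Mod O_C))
    (hM : DerComp.IsDerComp O_C I' M) : DerComp.IsDerComp O_D I ((SiteCmp.RpushD f).obj M) :=
  (isDerComp_iff O_D I _).2 fun V a ha m =>
    (compEnd_rpushD f V a m M).1 ((isDerComp_iff O_C I' M).1 hM _ _ (hf V a ha) m)

end Groth.Agent.DerComp18
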