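import Groth.Agent.DerComp18.Pairs
import Groth.Agent.DerComp18.Perp
import Groth.Agent.DerComp18.Push

/-!
The extension of a locally spanned sheaf of ideals along a morphism of ringed sites is spanned by the images.
-/

universe u

open CategoryTheory CategoryTheory.Limits Opposite

set_option autoImplicit false

namespace Groth.Agent.DerComp18

variable {C : Type u} [SmallCategory C] {J : GrothendieckTopology C} {O_C : Sheaf J CommRingCat.{u}}
  {D : Type u} [SmallCategory D] {K : GrothendieckTopology D} {O_D : Sheaf K CommRingCat.{u}}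
  (f : ModSite.RMor O_C O_D)

lemma sharpAt_natural {V W : D} (a : W ⟶ V) (x : O_D.obj.obj (op V)) :
    (O_C.obj.map (f.fn.map a).op).hom (sharpAt f V x) = sharpAt f W ((O_D.obj.map a.op).hom x) :=
  (congrArg (fun t => t.hom x) (f.sharp.hom.naturality a.op)).symm

/-- The images of global sections on `D/V`. -/
noncomputable def pushSec (V : D) (s : DerComp.GSec (O_D.over V)) : DerComp.GSec (O_C.over (f.fn.obj V)) :=
  DerComp.GSec.ofSect O_C (f.fn.obj V) (sharpAt f V (s.1 (Over.mk (𝟙 V))))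

lemma pushSec_val (V : D) (s : DerComp.GSec (O_D.over V)) (W : Over V) :
    (pushSec f V s).1 (Over.mk (f.fn.map W.hom)) = sharpAt f W.left (s.1 W) := by
  refine (sharpAt_natural f W.hom _).trans (congrArg (sharpAt f W.left) ?_)
  exact s.2 (Over.homMk W.hom : W ⟶ Over.mk (𝟙 V))

lemma sharpAt_spanAt (V : D) (l : List (DerComp.GSec (O_D.over V))) (W : Over V) (x : O_D.obj.obj (op W.left))
    (hx : x ∈ spanAt l W) : sharpAt f W.left x ∈ spanAt (l.map (pushSec f V)) (Over.mk (f.fn.map W.hom)) := by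
  let φ : (O_D.over V).obj.obj (op W) →+* (O_C.over (f.fn.obj V)).obj.obj (op (Over.mk (f.fn.map W.hom))) :=
    (f.sharp.hom.app (op W.left)).hom
  suffices (spanAt l W).map φ ≤ spanAt (l.map (pushSec f V)) (Over.mk (f.fn.map W.hom)) from
    this (Ideal.mem_map_of_mem φ hx)
  clear hx
  induction l with
  | nil => exact Ideal.map_bot.le
  | cons s l ih =>
    rw [List.map_cons, spanAt, spanAt, Ideal.map_sup, Ideal.map_span, Set.image_singleton]
    exact sup_le_sup (le_of_eq (congrArg (fun t => Ideal.span {t}) (pushSec_val f V s W).symm)) ih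

/-- Pulled back to `Z`, `x` is locally in the span of `l`. -/
def InSpan {X : C} (l : List (DerComp.GSec (O_C.over X))) {Y : C} (x : O_C.obj.obj (op Y)) (Z : C) (φ : Z ⟶ Y)
    (ψ : Z ⟶ X) : Prop :=
  ∃ S ∈ J Z, ∀ ⦃Z' : C⦄ (h : Z' ⟶ Z), S h →
    (O_C.obj.map (h ≫ φ).op).hom x ∈ spanAt l (Over.mk (h ≫ ψ))

lemma mem_spanAt_congr {X : C} {l : List (DerComp.GSec (O_C.over X))} {Z : C} {ψ ψ' : Z ⟶ X} (e : ψ = ψ')
    {x : O_C.obj.obj (op Z)} (hx : x ∈ spanAt l (Over.mk ψ)) : x ∈ spanAt l (Over.mk ψ') := by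
  subst e
  exact hx

lemma mem_spanAt_map {X : C} {l : List (DerComp.GSec (O_C.over X))} {Z Z' : C} {ψ : Z ⟶ X} (e : Z' ⟶ Z)
    {x : O_C.obj.obj (op Z)} (hx : x ∈ spanAt l (Over.mk ψ)) :
    (O_C.obj.map e.op).hom x ∈ spanAt l (Over.mk (e ≫ ψ)) :=
  map_spanAt l (Over.homMk e : Over.mk (e ≫ ψ) ⟶ Over.mk ψ) (Ideal.mem_map_of_mem _ hx)

lemma InSpan.stable {X : C} {l : List (DerComp.GSec (O_C.over X))} {Y : C} {x : O_C.obj.obj (op Y)} {Z Z' : C}
    {φ : Z ⟶ Y} {ψ : Z ⟶ X} (k : Z' ⟶ Z) (h : InSpan l x Z φ ψ) : InSpan l x Z' (k ≫ φ) (k ≫ ψ) := by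
  obtain ⟨S, hS, hS'⟩ := h
  refine ⟨S.pullback k, J.pullback_stable k hS, fun Z'' a ha => ?_⟩
  have := mem_spanAt_congr (Category.assoc a k ψ) (hS' (a ≫ k) ha)
  simp only [Category.assoc] at this
  exact this

lemma InSpan.glue {X : C} {l : List (DerComp.GSec (O_C.over X))} {Y : C} {x : O_C.obj.obj (op Y)} {Z : C}
    {φ : Z ⟶ Y} {ψ : Z ⟶ X} {S : Sieve Z} (hS : S ∈ J Z)
    (h : ∀ ⦃Z' : C⦄ (k : Z' ⟶ Z), S k → InSpan l x Z' (k ≫ φ) (k ≫ ψ)) : InSpan l x Z φ ψ := by
  choose T hT hT' using h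
  refine ⟨Sieve.bind S.1 T, J.bind_covering hS hT, fun Z'' k hk => ?_⟩
  obtain ⟨Z', a, b, hb, ha, rfl⟩ := hk
  have := mem_spanAt_congr (Category.assoc a b ψ).symm (hT' b hb a ha)
  simp only [Category.assoc] at this ⊢
  exact this

/-- The image of a section of a spanned ideal is locally in the span of the images. -/
lemma inSpan_sharpAt (I : DerComp.IdealSh O_D) {V : D} (l : List (DerComp.GSec (O_D.over V))) (hl : Spans I l)
    (V₁ : D) (a : O_D.obj.obj (op V₁)) (ha : a ∈ I.ideal V₁) (Z : C) (φ : Z ⟶ f.fn.obj V₁) (ψ : Z ⟶ f.fn.obj V) :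
    InSpan (l.map (pushSec f V)) (sharpAt f V₁ a) Z φ ψ := by
  let P : ∀ Z : C, (SiteMod.prodT (f.fn.obj V₁) (f.fn.obj V)).obj (op Z) → Prop :=
    fun Z p => InSpan (l.map (pushSec f V)) (sharpAt f V₁ a) Z p.1 p.2
  refine pred_pairs f V₁ V (P := P) ⟨fun Z' Z h x hx => InSpan.stable h hx,
    fun Z S hS x hx => InSpan.glue hS hx⟩ (fun W b₁ b₂ => ?_) Z (φ, ψ)
  obtain ⟨S, hS, hS'⟩ := hl (Over.mk b₂) ((O_D.obj.map b₁.op).hom a) (I.map_mem b₁ ha)
  let P' : ∀ Z : C, (Z ⟶ f.fn.obj W) → Prop := fun Z h =>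
    InSpan (l.map (pushSec f V)) (sharpAt f V₁ a) Z (h ≫ f.fn.map b₁) (h ≫ f.fn.map b₂)
  have h2 := pred_cover f W (P := P')
    ⟨fun Z' Z k x hx => by
      have := InSpan.stable k hx
      simp only [← Category.assoc] at this
      exact this,
    fun Z S' hS' x hx => InSpan.glue hS' fun Z' k hk => by
      have := hx k hk
      simp only [← Category.assoc]
      exact this⟩ (Sieve.overEquiv (Over.mk b₂) S) ((GrothendieckTopology.mem_over_iff _ _).1 hS)
    (fun W' k hk => ?_) (f.fn.obj W) (𝟙 _)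
  · change InSpan _ _ _ (f.fn.map b₁) (f.fn.map b₂)
    simp only [P', Category.id_comp] at h2
    exact h2
  · refine ⟨⊤, J.top_mem _, fun Z'' e _ => ?_⟩
    have h0 := hS' _ ((Sieve.overEquiv_iff S k).1 hk)
    have h1 := sharpAt_spanAt f V l (Over.mk (k ≫ b₂)) ((O_D.obj.map (k ≫ b₁).op).hom a) (by
      rw [op_comp, Functor.map_comp, CommRingCat.comp_apply]
      exact h0)
    rw [← sharpAt_natural] at h1
    have h3 := mem_spanAt_map e h1
    rw [← CommRingCat.comp_apply, ← Functor.map_comp, ← op_comp] at h3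
    have h4 := mem_spanAt_congr (congrArg (e ≫ ·) (f.fn.map_comp k b₂)) h3
    rw [f.fn.map_comp k b₁] at h4
    exact h4

/-- The sheaf of ideals of sections which are locally in the span of all images of spanning lists. -/
noncomputable def pushSpan (I : DerComp.IdealSh O_D) : DerComp.IdealSh O_C where
  ideal Y :=
    { carrier := {g | ∀ (V : D) (l : List (DerComp.GSec (O_D.over V))), Spans I l → ∀ (Z : C) (φ : Z ⟶ Y)
        (ψ : Z ⟶ f.fn.obj V), InSpan (l.map (pushSec f V)) g Z φ ψ}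
      zero_mem' := fun V l _ Z φ ψ => ⟨⊤, J.top_mem Z, fun Z' h _ => by rw [map_zero]; exact zero_mem _⟩
      add_mem' := fun {a b} ha hb V l hl Z φ ψ => by
        obtain ⟨S, hS, hS'⟩ := ha V l hl Z φ ψ
        obtain ⟨T, hT, hT'⟩ := hb V l hl Z φ ψ
        exact ⟨S ⊓ T, J.intersection_covering hS hT, fun Z' h hh => by
          rw [map_add]; exact add_mem (hS' h hh.1) (hT' h hh.2)⟩
      smul_mem' := fun c a ha V l hl Z φ ψ => by
        obtain ⟨S, hS, hS'⟩ := ha V l hl Z φ ψ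
        exact ⟨S, hS, fun Z' h hh => by rw [smul_eq_mul, map_mul]; exact Ideal.mul_mem_left _ _ (hS' h hh)⟩ }
  map_mem {U U'} k g hg V l hl Z φ ψ := by
    obtain ⟨S, hS, hS'⟩ := hg V l hl Z (φ ≫ k) ψ
    refine ⟨S, hS, fun Z' h hh => ?_⟩
    rw [← CommRingCat.comp_apply, ← Functor.map_comp, ← op_comp, Category.assoc]
    exact hS' h hh
  glue {U g} S hS hg V l hl Z φ ψ := by
    refine InSpan.glue (J.pullback_stable φ hS) fun Z' k hk => ?_
    obtain ⟨T, hT, hT'⟩ := hg (k ≫ φ) hk V l hl Z' (𝟙 _) (k ≫ ψ)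
    refine ⟨T, hT, fun Z'' h hh => ?_⟩
    have := hT' h hh
    rw [← CommRingCat.comp_apply, ← Functor.map_comp, ← op_comp, Category.comp_id] at this
    exact this

/-- **The extended ideal is spanned by the images.** -/
theorem spans_push {I : DerComp.IdealSh O_D} {I' : DerComp.IdealSh O_C} (hI' : DerComp.RIsIdealExt f I I') {V : D}
    (l : List (DerComp.GSec (O_D.over V))) (hl : Spans I l) : Spans I' (l.map (pushSec f V)) := fun W g hg => by
  have h0 : g ∈ (pushSpan f I).ideal W.left :=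
    hI'.2 (pushSpan f I) (fun V₁ a ha V' l' hl' Z φ ψ => inSpan_sharpAt f I l' hl' V₁ a ha Z φ ψ) W.left hg
  obtain ⟨S, hS, hS'⟩ := h0 V l hl W.left (𝟙 _) W.hom
  refine ⟨(Sieve.overEquiv W).symm S, J.overEquiv_symm_mem_over W S hS, fun Z k hk => ?_⟩
  have h1 := hS' k.left ((Sieve.overEquiv_symm_iff S k).1 hk)
  rw [Category.comp_id, Over.w k] at h1
  exact h1

lemma pushSec_mem {I : DerComp.IdealSh O_D} {I' : DerComp.IdealSh O_C} (hI' : DerComp.RMapsIdealInto f I I') {V : D}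
    (s : DerComp.GSec (O_D.over V)) (hs : ∀ W : Over V, s.1 W ∈ I.ideal W.left) (W : Over (f.fn.obj V)) :
    (pushSec f V s).1 W ∈ I'.ideal W.left :=
  I'.map_mem W.hom (hI' V _ (hs (Over.mk (𝟙 V))))

end Groth.Agent.DerComp18
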