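import Groth.Agent.DerComp18.Pairs
import Groth.Agent.DerComp18.SpansPush

/-!
Inverse images of objects cover, and the extension of a locally spanned sheaf of ideals is locally spanned.
-/

universe u

open CategoryTheory CategoryTheory.Limits Opposite

set_option autoImplicit false

namespace Groth.Agent.DerComp18

open Groth.Agent.SiteMod

variable {C D : Type u} [SmallCategory C] [SmallCategory D]

/-- The terminal presheaf of sets. -/
def oneT (C : Type u) [SmallCategory C] : Cᵒᵖ ⥤ Type u := (Functor.const _).obj PUnit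

/-- It is terminal. -/
def oneT.isTerminal : IsTerminal (oneT C) :=
  IsTerminal.ofUniqueHom (fun X => { app := fun _ => ↾fun _ => PUnit.unit })
    (fun X m => by ext W x; exact Subsingleton.elim (α := PUnit) _ _)

/-- The map between terminal presheaves. -/
def oneMap (u : D ⥤ C) : oneT D ⟶ u.op ⋙ oneT C where
  app _ := ↾fun _ => PUnit.unit

theorem bijective_oneMap (J : GrothendieckTopology C) (K : GrothendieckTopology D) (u : D ⥤ C)
    [u.IsContinuous K J] [PreservesFiniteLimits (u.sheafPullback (Type u) K J)] (G : Sheaf J (Type u)) :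
    Function.Bijective fun Ψ : oneT C ⟶ G.obj => oneMap u ≫ Functor.whiskerLeft u.op Ψ := by
  refine (isIso_pullShMap_iff J K u (oneMap u)).1 ?_ G
  let hD := IsTerminal.isTerminalObj (presheafToSheaf K (Type u)) _ (oneT.isTerminal (C := D))
  let hC := IsTerminal.isTerminalObj (presheafToSheaf J (Type u)) _ (oneT.isTerminal (C := C))
  let hP := IsTerminal.isTerminalObj (u.sheafPullback (Type u) K J) _ hD
  exact ⟨hP.from _, hP.hom_ext _ _, hC.hom_ext _ _⟩

variable {J : GrothendieckTopology C} {K : GrothendieckTopology D} {O_C : Sheaf J CommRingCat.{u}}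
  {O_D : Sheaf K CommRingCat.{u}} (f : ModSite.RMor O_C O_D)

/-- A local property of objects may be checked on inverse images. -/
theorem pred_one {P : C → Prop} (hs : ∀ ⦃Z' Z : C⦄, (Z' ⟶ Z) → P Z → P Z')
    (hg : ∀ ⦃Z : C⦄ (S : Sieve Z), S ∈ J Z → (∀ ⦃Z' : C⦄ (h : Z' ⟶ Z), S h → P Z') → P Z)
    (h : ∀ W : D, P (f.fn.obj W)) (Z : C) : P Z := by
  have hP : IsLocalPred (J := J) (oneT C) (fun Z _ => P Z) :=
    ⟨fun Z' Z k _ hx => hs k hx, fun Z S hS _ hx => hg S hS hx⟩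
  refine pred_of_chi_eq_top hP ((bijective_oneMap J K f.fn (omegaSh J)).1 ?_) Z PUnit.unit
  ext W p
  exact Subtype.ext (chi_eq_top_of_pred hP (f.fn.obj W.unop) PUnit.unit (h W.unop))

/-- Every object is covered by objects mapping to inverse images of objects of a covering family. -/
theorem exists_cover_image {Q : D → Prop} (hQ : ∀ U : D, ∃ S ∈ K U, ∀ ⦃V : D⦄ (g : V ⟶ U), S g → Q V) (Z : C) :
    ∃ S ∈ J Z, ∀ ⦃Z' : C⦄ (h : Z' ⟶ Z), S h → ∃ V, Q V ∧ Nonempty (Z' ⟶ f.fn.obj V) := by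
  refine pred_one f (P := fun Z => ∃ S ∈ J Z, ∀ ⦃Z' : C⦄ (h : Z' ⟶ Z), S h → ∃ V, Q V ∧ Nonempty (Z' ⟶ f.fn.obj V))
    (fun Z' Z k ⟨S, hS, hS'⟩ => ⟨S.pullback k, J.pullback_stable k hS, fun Z'' a ha => hS' _ ha⟩) ?_ (fun W => ?_) Z
  · intro Z S hS hx
    choose T hT hT' using hx
    refine ⟨Sieve.bind S.1 T, J.bind_covering hS hT, fun Z'' k hk => ?_⟩
    obtain ⟨Z', a, b, hb, ha, rfl⟩ := hk
    exact hT' b hb a ha
  · obtain ⟨S, hS, hS'⟩ := hQ W
    let P' : ∀ Z : C, (Z ⟶ f.fn.obj W) → Prop := fun Z _ =>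
      ∃ T ∈ J Z, ∀ ⦃Z' : C⦄ (h : Z' ⟶ Z), T h → ∃ V, Q V ∧ Nonempty (Z' ⟶ f.fn.obj V)
    exact pred_cover f W (P := P')
      ⟨fun Z' Z k x ⟨T, hT, hT'⟩ => ⟨T.pullback k, J.pullback_stable k hT, fun Z'' a ha => hT' _ ha⟩,
        fun Z T hT x hx => by
          choose R hR hR' using hx
          refine ⟨Sieve.bind T.1 R, J.bind_covering hT hR, fun Z'' k hk => ?_⟩
          obtain ⟨Z', a, b, hb, ha, rfl⟩ := hk
          exact hR' b hb a ha⟩
      S hS (fun V a ha => ⟨⊤, J.top_mem _, fun Z'' e _ => ⟨V, hS' a ha, ⟨e⟩⟩⟩) (f.fn.obj W) (𝟙 _)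

/-- The pullback of a global section along an arrow. -/
def secPull {O : Sheaf J CommRingCat.{u}} {Z X : C} (ψ : Z ⟶ X) (s : DerComp.GSec (O.over X)) :
    DerComp.GSec (O.over Z) :=
  ⟨fun W => s.1 (Over.mk (W.hom ≫ ψ)), fun W W' g => s.2 (Over.homMk g.left (by
    change g.left ≫ W.hom ≫ ψ = W'.hom ≫ ψ
    rw [← Category.assoc, Over.w g]) : Over.mk (W'.hom ≫ ψ) ⟶ Over.mk (W.hom ≫ ψ))⟩

lemma spanAt_secPull {O : Sheaf J CommRingCat.{u}} {Z X : C} (ψ : Z ⟶ X) (W : Over Z) :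
    ∀ l : List (DerComp.GSec (O.over X)), spanAt (l.map (secPull ψ)) W = spanAt l (Over.mk (W.hom ≫ ψ))
  | [] => rfl
  | s :: l => congrArg₂ (· ⊔ ·) rfl (spanAt_secPull ψ W l)

lemma spans_secPull {O : Sheaf J CommRingCat.{u}} (I : DerComp.IdealSh O) {Z X : C} (ψ : Z ⟶ X)
    {l : List (DerComp.GSec (O.over X))} (h : Spans I l) : Spans I (l.map (secPull ψ)) := fun W g hg => by
  obtain ⟨S, hS, hS'⟩ := h (Over.mk (W.hom ≫ ψ)) g hg
  refine ⟨(Sieve.overEquiv W).symm (Sieve.overEquiv (Over.mk (W.hom ≫ ψ)) S),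
    J.overEquiv_symm_mem_over W _ ((GrothendieckTopology.mem_over_iff _ _).1 hS), fun V k hk => ?_⟩
  rw [spanAt_secPull]
  have h2 := hS' _ ((Sieve.overEquiv_iff (Y := Over.mk (W.hom ≫ ψ)) S k.left).1 ((Sieve.overEquiv_symm_iff _ k).1 hk))
  have e : (k.left ≫ (Over.mk (W.hom ≫ ψ)).hom) = V.hom ≫ ψ := by
    change k.left ≫ W.hom ≫ ψ = V.hom ≫ ψ
    rw [← Category.assoc, Over.w k]
  exact mem_spanAt_congr e h2

/-- **The extension of a locally spanned sheaf of ideals is locally spanned.** -/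
theorem locSpanned_ext {I : DerComp.IdealSh O_D} {I' : DerComp.IdealSh O_C} (hI' : DerComp.RIsIdealExt f I I')
    (hI : LocSpanned I) : LocSpanned I' := fun U => by
  obtain ⟨S, hS, hS'⟩ := exists_cover_image f (Q := fun V => ∃ l : List (DerComp.GSec (O_D.over V)),
    (∀ s ∈ l, ∀ W : Over V, s.1 W ∈ I.ideal W.left) ∧ Spans I l) hI U
  refine ⟨S, hS, fun Z g hg => ?_⟩
  obtain ⟨V, ⟨l, hl, hspan⟩, ⟨ψ⟩⟩ := hS' g hg
  refine ⟨(l.map (pushSec f V)).map (secPull ψ), fun s hs W => ?_, spans_secPull I' ψ (spans_push f hI' l hspan)⟩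
  obtain ⟨s', hs', rfl⟩ := List.mem_map.1 hs
  obtain ⟨s'', hs'', rfl⟩ := List.mem_map.1 hs'
  exact pushSec_mem f hI'.1 s'' (hl s'' hs'') (Over.mk (W.hom ≫ ψ))

end Groth.Agent.DerComp18
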