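import Groth.Agent.DerComp18.Reflect
import Groth.Agent.Mod48.ModPush
import Groth.Prelude.Def_DerComp

/-! Derived completion exists with respect to any sheaf of ideals. -/

universe u

open CategoryTheory Limits Opposite

attribute [local instance] HasDerivedCategory.standard

set_option autoImplicit false

namespace Groth.Agent.DerComp18

variable {C : Type u} [SmallCategory C] {J : GrothendieckTopology C} (O : Sheaf J CommRingCat.{u})

/-- the complexes `j_{U!} O_{U,f}` for the sections of a sheaf of ideals -/
noncomputable def genCx (I : DerComp.IdealSh O) (p : Σ U : C, I.ideal U) :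
    CochainComplex (ModSite.Mod O) ℤ :=
  (HomologicalComplex.single _ (ComplexShape.up ℤ) 0).obj
    ((ModSite.extZero O p.1).obj (DerComp.awayOver O p.1 p.2.1))

theorem isDerComp_eq (I : DerComp.IdealSh O) : DerComp.IsDerComp O I = IsLocal (genCx O I) := by
  funext K
  refine propext ⟨fun h p n f => ?_, fun h U f hf n => subsingleton_of_forall_eq 0 fun g => ?_⟩
  · have := h p.1 p.2.1 p.2.2 n
    exact @Subsingleton.elim (SiteCmp.inD O ((ModSite.extZero O p.1).obj (DerComp.awayOver O p.1 p.2.1)) ⟶ K⟦n⟧) this f 0
  · exact h ⟨U, f, hf⟩ n g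

theorem hasDerCompletion (I : DerComp.IdealSh O) : DerComp.HasDerCompletion O I := by
  have : IsGrothendieckAbelian.{u} (ModSite.Mod O) :=
    Coh69.sheafOfModules_isGrothendieckAbelian (ModSite.ringSh O)
  unfold DerComp.HasDerCompletion
  rw [isDerComp_eq O I]
  exact isRightAdjoint_ι (genCx O I)

end Groth.Agent.DerComp18
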