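import Groth.Agent.DerComp18.TensorComp

/-!
Internal hom into a derived complete object is derived complete.
-/

universe u

open CategoryTheory CategoryTheory.Limits Opposite DerivedCategory

attribute [local instance] HasDerivedCategory.standard

set_option autoImplicit false

namespace Groth.Agent.DerComp18

open Groth.Agent.Mod48 Groth.Agent.Mod48.LocGen

variable {C : Type u} [SmallCategory C] {J : GrothendieckTopology C} {O : Sheaf J CommRingCat.{u}}

attribute [local instance] preservesBinaryBiproducts_of_preservesBinaryCoproducts in
lemma additive_ltensor (P : CC O) [ModSite.HasLTensorCx P] [DerComp.HasRHom P] :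
    (ModSite.LTensorCx P).Additive :=
  Functor.additive_of_preservesBinaryBiproducts _

theorem isDerComp_rhom (I : DerComp.IdealSh O) (P : CC O) [ModSite.HasLTensorCx P] [DerComp.HasRHom P]
    (L : DerivedCategory (ModSite.Mod O)) (hL : DerComp.IsDerComp O I L) :
    DerComp.IsDerComp O I ((DerComp.RHom P).obj L) := by
  have := additive_ltensor P
  rw [isDerComp_iff] at hL ⊢
  intro U f hf m
  exact (compEnd_congr _ _ ((DerComp.RHomAdj P).homAddEquiv (Pd (ModSite.freeOn O U) m) L)
    fun x => (DerComp.RHomAdj P).homEquiv_naturality_left _ x).1
      (compEnd_ltensor P U f L (fun V g k => hL V _ (I.map_mem g hf) k) m)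

end Groth.Agent.DerComp18
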