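import Groth.Agent.DerComp18.Kills
import Groth.Agent.DerComp18.RHomComp

/-!
Internal hom preserves orthogonality to the complete objects.
-/

universe u

open CategoryTheory CategoryTheory.Limits Opposite DerivedCategory Pretriangulated

attribute [local instance] HasDerivedCategory.standard

set_option autoImplicit false

namespace Groth.Agent.DerComp18

open Groth.Agent.Mod48 Groth.Agent.Mod48.LocGen

variable {C : Type u} [SmallCategory C] {J : GrothendieckTopology C} {O : Sheaf J CommRingCat.{u}}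

/-- `M[-m] ⊗^L P` is computed by a complex with terms `M ⊗ P'ⁿ`. -/
theorem exists_ltensor_sgl (P : CC O) [ModSite.HasLTensorCx P] (M : ModSite.Mod O) (m : ℤ) :
    ∃ P' : CC O, Nonempty ((ModSite.LTensorCx P).obj (Q.obj (sglAt M m)) ≅ Q.obj (tensAt M m P')) := by
  obtain ⟨R, q, hR, -, hq, -⟩ := exists_resolution (sglAt M m)
  obtain ⟨P', r, hP', -, hr, -⟩ := exists_resolution P
  refine ⟨P', ⟨?_⟩⟩
  have := isIso_ltCounit P R hR
  have h1 : IsIso (Q.map q) := (isIso_Q_map_iff_quasiIso (ModSite.Mod O) q).2 hq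
  have h2 := quasiIso_tensor_right ((isKFlat_iff R).1 hR) r
  have h2' : IsIso (Q.map (((ModSite.tensorCx O).flip.obj R).map r)) :=
    (isIso_Q_map_iff_quasiIso (φ := ((ModSite.tensorCx O).flip.obj R).map r)).2 h2
  have h3 := quasiIso_tensor_right ((isKFlat_iff P').1 hP') q
  have h3' : IsIso (Q.map (((ModSite.tensorCx O).flip.obj P').map q)) :=
    (isIso_Q_map_iff_quasiIso (φ := ((ModSite.tensorCx O).flip.obj P').map q)).2 h3
  exact (ModSite.LTensorCx P).mapIso (asIso (Q.map q)).symm ≪≫ asIso ((ltCounit P).app R) ≪≫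
    Q.mapIso (tcSymm R P) ≪≫ (@asIso _ _ _ _ (Q.map (((ModSite.tensorCx O).flip.obj R).map r)) h2').symm ≪≫
    Q.mapIso (tcSymm P' R) ≪≫ @asIso _ _ _ _ (Q.map (((ModSite.tensorCx O).flip.obj P').map q)) h3' ≪≫
    Q.mapIso (tcLIso M m P').symm

/-- Annihilated modules test orthogonality. -/
theorem perp_of_annMod {I : DerComp.IdealSh O} (hI : LocSpanned I) (Z : DerivedCategory (ModSite.Mod O))
    (hZ : ∀ M : ModSite.Mod O, AnnMod I M → ∀ n : ℤ, Subsingleton (Q.obj (sglAt M n) ⟶ Z)) : Perp I Z := by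
  refine perp_of_cover I _ fun U => ?_
  obtain ⟨S, hS, hS'⟩ := hI U
  refine ⟨S, hS, fun V g hg => ?_⟩
  obtain ⟨l, hl, hspan⟩ := hS' g hg
  have := restr_additive (O := O) V
  have := (restr_exact (O := O) V).1
  have := (restr_exact (O := O) V).2
  have : (ModSite.extZero O V).Additive := DerComp.additive_extZero V
  have := SiteMod.extZero_preservesFiniteLimits (O := O) V
  have : PreservesFiniteColimits (ModSite.extZero O V) :=
    ⟨fun _ _ _ => ((ModSite.extZeroAdj O V).leftAdjoint_preservesColimits :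
      PreservesColimitsOfSize.{0, 0} (ModSite.extZero O V)).preservesColimitsOfShape⟩
  have : ((ModSite.restr O V).mapDerivedCategory).IsRightDerivedFunctor
      (ModSite.restr O V).mapDerivedCategoryFactorsh.inv
      (HomotopyCategory.quasiIso (ModSite.Mod O) (ComplexShape.up ℤ)) :=
    Functor.isRightDerivedFunctor_of_inverts _ (ModSite.restr O V).mapDerivedCategory
      (ModSite.restr O V).mapDerivedCategoryFactorsh
  let adj : (ModSite.extZero O V).mapDerivedCategory ⊣ (ModSite.restr O V).mapDerivedCategory :=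
    derivedAdj (ModSite.extZeroAdj O V) (enoughKInj_mod O) (ModSite.restr O V).mapDerivedCategory
      (ModSite.restr O V).mapDerivedCategoryFactorsh.inv
  let M := Q.objPreimage ((restrD V).obj Z)
  let eM : Q.obj M ≅ (restrD V).obj Z := Q.objObjPreimageIso _
  have hM : Perp (I.over V) (Q.obj M) := by
    rw [perp_over_iff I l hl hspan, perp_spanSh_iff]
    refine kc_acyclic_of_modules l M fun N hN n => ?_
    let ej : (ModSite.extZero O V).mapDerivedCategory.obj (Pd N n) ≅
        Q.obj (sglAt ((ModSite.extZero O V).obj N) n) :=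
      (ModSite.extZero O V).mapDerivedCategoryFactors.app _ ≪≫
        Q.mapIso ((HomologicalComplex.singleMapHomologicalComplex (ModSite.extZero O V) (ComplexShape.up ℤ) n).app N)
    exact (Equiv.subsingleton_congr ((degEquiv N (Q.obj M) n).toEquiv.trans (eM.homToEquiv.trans
      ((adj.homEquiv (Pd N n) Z).symm.trans ej.homFromEquiv)))).2 (hZ _ (annMod_extZero I hspan hN) n)
  exact fun L hL => (hM L hL).of_iso eM

/-- An orthogonal object receives no maps from `M ⊗^L P` with `M` annihilated. -/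
theorem noHom_ltensor {I : DerComp.IdealSh O} (hI : LocSpanned I) (P : CC O) [ModSite.HasLTensorCx P]
    {M : ModSite.Mod O} (hM : AnnMod I M) (m : ℤ) {K : DerivedCategory (ModSite.Mod O)} (hK : Perp I K) :
    NoHom ((ModSite.LTensorCx P).obj (Q.obj (sglAt M m))) K := by
  obtain ⟨P', ⟨eT⟩⟩ := exists_ltensor_sgl P M m
  exact (noHom_of_annMod hI _ (fun k => annMod_tens I hM (P'.X (k + -m))) hK).of_iso eT.symm

/-- `RHom(P, -)` turns orthogonal cones into orthogonal cones. -/
theorem perp_cone_rhom {I : DerComp.IdealSh O} (hI : LocSpanned I) (P : CC O) [ModSite.HasLTensorCx P]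
    [DerComp.HasRHom P] {G G' T : DerivedCategory (ModSite.Mod O)} {η : G ⟶ G'} {a : G' ⟶ T}
    {b : T ⟶ G⟦(1 : ℤ)⟧} (hT : Triangle.mk η a b ∈ distinguishedTriangles) (hK : Perp I T)
    {Z : DerivedCategory (ModSite.Mod O)} {p : (DerComp.RHom P).obj G' ⟶ Z}
    {q : Z ⟶ ((DerComp.RHom P).obj G)⟦(1 : ℤ)⟧}
    (hZ : Triangle.mk ((DerComp.RHom P).map η) p q ∈ distinguishedTriangles) : Perp I Z := by
  refine perp_of_annMod hI Z fun M hM m => subsingleton_of_forall_eq 0 fun x => ?_
  -- composition with `RHom(η)` is bijective on maps out of `M[-n]`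
  have hb : ∀ n : ℤ, Function.Bijective fun y : Q.obj (sglAt M n) ⟶ (DerComp.RHom P).obj G =>
      y ≫ (DerComp.RHom P).map η := fun n => by
    let E := fun X => (DerComp.RHomAdj P).homEquiv (Q.obj (sglAt M n)) X
    have h0 : Function.Bijective fun y : (ModSite.LTensorCx P).obj (Q.obj (sglAt M n)) ⟶ G => y ≫ η := by
      have h := noHom_ltensor hI P hM n hK
      have hm : Subsingleton ((ModSite.LTensorCx P).obj (Q.obj (sglAt M n)) ⟶ T⟦(-1 : ℤ)⟧) := h (-1)
      have h1 : Subsingleton ((ModSite.LTensorCx P).obj (Q.obj (sglAt M n)) ⟶ T) :=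
        (Equiv.subsingleton_congr ((shiftFunctorZero (DerivedCategory (ModSite.Mod O)) ℤ).app T).homToEquiv).1 (h 0)
      refine ⟨fun y y' hy => sub_eq_zero.1 ?_, fun z => ?_⟩
      · obtain ⟨c, hc⟩ := Triangle.coyoneda_exact₂ _ (inv_rot_of_distTriang _ hT)
          (y - y') (by change (y - y') ≫ η = 0; rw [Preadditive.sub_comp]; exact sub_eq_zero.2 hy)
        exact hc.trans ((congrArg (· ≫ _) (hm.elim c 0)).trans zero_comp)
      · obtain ⟨c, hc⟩ := Triangle.coyoneda_exact₂ _ hT z (h1.elim _ _)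
        exact ⟨c, hc.symm⟩
    have e : (fun y : Q.obj (sglAt M n) ⟶ (DerComp.RHom P).obj G => y ≫ (DerComp.RHom P).map η) =
        E G' ∘ (fun y => y ≫ η) ∘ (E G).symm := by
      funext y
      change _ = (DerComp.RHomAdj P).homEquiv _ _ (((DerComp.RHomAdj P).homEquiv _ _).symm y ≫ η)
      rw [Adjunction.homEquiv_naturality_right, Equiv.apply_symm_apply]
    rw [e]
    exact (E G').bijective.comp (h0.comp (E G).symm.bijective)
  -- hence the boundary of `x` vanishes
  have hx : x ≫ q = 0 := by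
    let s := (singleFunctors (ModSite.Mod O)).shiftIso (-1) (m + 1) m (by omega)
    let A := (shiftEquiv' (DerivedCategory (ModSite.Mod O)) (-1 : ℤ) 1 (by omega)).toAdjunction
    have hq : q ≫ ((DerComp.RHom P).map η)⟦(1 : ℤ)⟧' = 0 := comp_distTriang_mor_zero₃₁ _ hZ
    apply (A.homEquiv _ _).symm.injective
    change _ = (A.homEquiv _ _).symm (0 : Q.obj (sglAt M m) ⟶ ((DerComp.RHom P).obj G)⟦(1 : ℤ)⟧)
    refine (cancel_epi (s.inv.app M)).1 ((hb (m + 1)).1 ?_)
    change (_ ≫ _) ≫ (DerComp.RHom P).map η = (_ ≫ _) ≫ (DerComp.RHom P).map η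
    rw [Category.assoc, Category.assoc]
    refine congrArg (_ ≫ ·) ?_
    refine (A.homEquiv_naturality_right_symm _ _).symm.trans (Eq.trans ?_ (A.homEquiv_naturality_right_symm _ _))
    refine congrArg _ ?_
    change (x ≫ q) ≫ ((DerComp.RHom P).map η)⟦(1 : ℤ)⟧' = 0 ≫ ((DerComp.RHom P).map η)⟦(1 : ℤ)⟧'
    rw [Category.assoc, hq, comp_zero, zero_comp]
  obtain ⟨y, hy⟩ := Triangle.coyoneda_exact₃ _ hZ x hx
  obtain ⟨z, hz⟩ := (hb m).2 y
  refine hy.trans ?_
  change y ≫ p = 0
  rw [← hz]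
  change (z ≫ (DerComp.RHom P).map η) ≫ p = 0
  have h2 : (DerComp.RHom P).map η ≫ p = 0 := comp_distTriang_mor_zero₁₂ _ hZ
  rw [Category.assoc, h2, comp_zero]

end Groth.Agent.DerComp18
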