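import Groth.Agent.DerComp18.ScalFree
import Groth.Agent.SiteMod.GenExtend
import Groth.Agent.QCAlgMod72.RS
import Mathlib.Algebra.Category.ModuleCat.Sheaf.PullbackContinuous

/-!
Extension of scalars along a map of sheaves of rings on a site is the tensor product.
-/

universe u

open CategoryTheory CategoryTheory.Limits Opposite MonoidalCategory
open scoped Classical

set_option autoImplicit false

namespace Groth.Agent.DerComp18

open Groth.Agent.Mod48

variable {C : Type u} [SmallCategory C] {J : GrothendieckTopology C} {O O' : Sheaf J CommRingCat.{u}} (φ : O ⟶ O')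

/-- Restriction of scalars has a left adjoint. -/
theorem scalRes_isRightAdjoint : (scalRes φ).IsRightAdjoint := by
  let α : ModSite.ringSh O ⟶ ((𝟭 C).sheafPushforwardContinuous RingCat.{u} J J).obj (ModSite.ringSh O') :=
    ⟨Functor.whiskerRight φ.hom (forget₂ CommRingCat.{u} RingCat.{u})⟩
  let e : SheafOfModules.pushforward.{u} α ≅ scalRes φ :=
    NatIso.ofComponents (fun M => Iso.refl _) (fun f => by ext; rfl)
  exact Functor.isRightAdjoint_of_iso e

/-- Extension of scalars. -/
noncomputable def extL : ModSite.Mod O ⥤ ModSite.Mod O' :=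
  haveI := scalRes_isRightAdjoint φ
  (scalRes φ).leftAdjoint

/-- The adjunction. -/
noncomputable def extAdj : extL φ ⊣ scalRes φ :=
  haveI := scalRes_isRightAdjoint φ
  Adjunction.ofIsRightAdjoint (scalRes φ)

variable {M : ModSite.Mod O} {N : ModSite.Mod O'}

/-- The action, on sections. -/
noncomputable def actPreApp (f : M ⟶ (scalRes φ).obj N) (X : Cᵒᵖ) :
    (pre M ⊗ pre (scalUnit φ)).obj X ⟶ (pre ((scalRes φ).obj N)).obj X :=
  ModuleCat.ofHom (R := (O.obj ⋙ forget₂ CommRingCat.{u} RingCat.{u}).obj X)
    (Y := (pre ((scalRes φ).obj N)).obj X)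
    (TensorProduct.lift (R := O.obj.obj X) (M := (pre M).obj X) (N := (pre (scalUnit φ)).obj X)
      (P₂ := (pre ((scalRes φ).obj N)).obj X)
      (LinearMap.mk₂ (O.obj.obj X) (fun m r' =>
          (show (pre ((scalRes φ).obj N)).obj X from
            (show O'.obj.obj X from r') • (show (pre N).obj X from (fgt.map f).app X m)))
        (fun m m' r' => (congrArg (fun z : (pre N).obj X => (show O'.obj.obj X from r') • z)
          (map_add ((fgt.map f).app X).hom m m')).trans (smul_add (show O'.obj.obj X from r') _ _))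
        (fun c m r' => (congrArg (fun z : (pre N).obj X => (show O'.obj.obj X from r') • z)
          (((fgt.map f).app X).hom.map_smul c m)).trans (smul_comm (show O'.obj.obj X from r')
            ((φ.hom.app X).hom c) (show (pre N).obj X from (fgt.map f).app X m)))
        (fun m r' r'' => add_smul (show O'.obj.obj X from r') (show O'.obj.obj X from r'')
          (show (pre N).obj X from (fgt.map f).app X m))
        (fun c m r' => mul_smul ((φ.hom.app X).hom c) (show O'.obj.obj X from r')
          (show (pre N).obj X from (fgt.map f).app X m))))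

lemma actPreApp_tp (f : M ⟶ (scalRes φ).obj N) (X : Cᵒᵖ) (m : (pre M).obj X) (r' : O'.obj.obj X) :
    (actPreApp φ f X).hom (tp m (r' : (pre (scalUnit φ)).obj X)) = r' • (show (pre N).obj X from (fgt.map f).app X m) :=
  TensorProduct.lift.tmul _ _

/-- The action on presheaves. -/
noncomputable def actPre (f : M ⟶ (scalRes φ).obj N) : pre M ⊗ pre (scalUnit φ) ⟶ pre ((scalRes φ).obj N) where
  app X := actPreApp φ f X
  naturality {X Y} g := ModuleCat.MonoidalCategory.tensor_ext fun m r' => by
    change (actPreApp φ f Y).hom ((pre M ⊗ pre (scalUnit φ)).map g (tp m r')) =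
      res (pre ((scalRes φ).obj N)) g ((actPreApp φ f X).hom (tp m r'))
    refine (congrArg _ (map_tp g m r')).trans ((actPreApp_tp φ f Y _ _).trans ?_)
    refine Eq.trans ?_ (congrArg (res (pre ((scalRes φ).obj N)) g) (actPreApp_tp φ f X m r')).symm
    refine Eq.trans ?_ (res_smul (pre N) g (show O'.obj.obj X from r') _).symm
    exact congrArg _ (app_res (fgt.map f) g m)

/-- The action `M ⊗ O' ⟶ N` of a map `M ⟶ N`. -/
noncomputable def act (f : M ⟶ (scalRes φ).obj N) :
    ((ModSite.tensorBi O).obj M).obj (scalUnit φ) ⟶ (scalRes φ).obj N :=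
  (shfHomEquiv _ _).symm (actPre φ f)

lemma act_shfU (f : M ⟶ (scalRes φ).obj N) (X : Cᵒᵖ) (m : (pre M).obj X) (r' : O'.obj.obj X) :
    (fgt.map (act φ f)).app X ((shfU (pre M ⊗ pre (scalUnit φ))).app X (tp m (r' : (pre (scalUnit φ)).obj X))) =
      r' • (show (pre N).obj X from (fgt.map f).app X m) := by
  have h : shfU (pre M ⊗ pre (scalUnit φ)) ≫ fgt.map (act φ f) = actPre φ f := by
    rw [← (shfHomEquiv _ _).apply_symm_apply (actPre φ f), shfHomEquiv, Adjunction.homEquiv_unit]
    rfl
  exact (congrArg (fun t : pre M ⊗ pre (scalUnit φ) ⟶ _ => t.app X (tp m r')) h).trans (actPreApp_tp φ f X m r')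

lemma tens_scalUnit_hom_ext {T : ModSite.Mod O}
    {a b : ((ModSite.tensorBi O).obj M).obj (scalUnit φ) ⟶ T}
    (h : ∀ X (m : (pre M).obj X) (r' : (pre (scalUnit φ)).obj X),
      (fgt.map a).app X ((shfU (pre M ⊗ pre (scalUnit φ))).app X (tp m r')) =
        (fgt.map b).app X ((shfU (pre M ⊗ pre (scalUnit φ))).app X (tp m r'))) : a = b := by
  refine (shfHomEquiv _ _).injective ?_
  rw [shfHomEquiv, Adjunction.homEquiv_unit, Adjunction.homEquiv_unit]
  exact tensor_hom_ext fun X m r' => h X m r'

lemma act_natural {M' : ModSite.Mod O} {N' : ModSite.Mod O'} (g : M ⟶ M') (k : N ⟶ N')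
    (f : M ⟶ (scalRes φ).obj N) (f' : M' ⟶ (scalRes φ).obj N') (h : g ≫ f' = f ≫ (scalRes φ).map k) :
    (tR (scalUnit φ)).map g ≫ act φ f' = act φ f ≫ (scalRes φ).map k := by
  refine tens_scalUnit_hom_ext φ fun X m r' => ?_
  have e := congrArg (fun t : M ⟶ (scalRes φ).obj N' => (fgt.map t).app X m) h
  refine (congrArg ((fgt.map (act φ f')).app X) (shfMap_shfU (fgt.map g ▷ pre (scalUnit φ)) X (tp m r'))).trans ?_
  refine (act_shfU φ f' X _ r').trans (Eq.trans ?_ (congrArg ((fgt.map k).app X) (act_shfU φ f X m r')).symm)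
  exact (congrArg (fun z : (pre N').obj X => (show O'.obj.obj X from r') • z) e).trans
    (((fgt.map k).app X).hom.map_smul (show O'.obj.obj X from r') _).symm

lemma psi_act (f : M ⟶ (scalRes φ).obj N) : (psi (uScal φ)).app M ≫ act φ f = f := by
  apply fgt.map_injective
  refine PresheafOfModules.hom_ext fun X => ModuleCat.hom_ext (LinearMap.ext fun m => ?_)
  change (fgt.map (act φ f)).app X ((fgt.map ((psi (uScal φ)).app M)).app X m) = (fgt.map f).app X m
  rw [psi_apply]
  refine (act_shfU φ f X m _).trans ?_
  exact (congrArg (fun c : O'.obj.obj X => c • (show (pre N).obj X from (fgt.map f).app X m))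
    (map_one (φ.hom.app X).hom)).trans (one_smul _ _)

/-- Two maps out of `free ⊗ O'` which agree on the universal section and are linear agree: the comparison. -/
theorem act_etaScal (U : C) : act φ (etaScal φ U) = (thetaFree φ U).hom := by
  let a := (tR (scalUnit φ)).mapIso (freeOnIso (O := O) U) ≪≫ ((tensShfLeft (scalUnit φ)).app (freeY U)).symm
  refine (cancel_epi a.inv).1 ?_
  refine (shfHomEquiv _ _).injective ?_
  rw [shfHomEquiv, Adjunction.homEquiv_unit, Adjunction.homEquiv_unit]
  refine tensor_hom_ext fun X d r' => ?_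
  induction d using Finsupp.induction_linear with
  | zero =>
    have h0 : tp (0 : (freeY U : PreM O).obj X) r' = 0 := TensorProduct.zero_tmul _ _
    exact ((congrArg _ h0).trans (map_zero _)).trans ((congrArg _ h0).trans (map_zero _)).symm
  | add p q hp hq =>
    have h0 : tp (show (freeY U : PreM O).obj X from p + q) r' = tp (show (freeY U : PreM O).obj X from p) r' +
      tp (show (freeY U : PreM O).obj X from q) r' := TensorProduct.add_tmul _ _ _
    exact ((congrArg _ h0).trans (map_add _ _ _)).trans
      ((congrArg₂ (· + ·) hp hq).trans ((congrArg _ h0).trans (map_add _ _ _)).symm)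
  | single i c =>
    let P := (freeY U : PreM O) ⊗ pre (scalUnit φ)
    let δ : (freeY U : PreM O).obj X := Finsupp.single i c
    let δ' : (freeY U : PreM O').obj X := Finsupp.single i ((φ.hom.app X).hom c * (show O'.obj.obj X from r'))
    change (fgt.map (act φ (etaScal φ U))).app X ((fgt.map a.inv).app X ((shfU P).app X (tp δ r'))) =
      (fgt.map (thetaFree φ U).hom).app X ((fgt.map a.inv).app X ((shfU P).app X (tp δ r')))
    have ha : (fgt.map a.inv).app X ((shfU P).app X (tp δ r')) =
        (shfU (pre (ModSite.freeOn O U) ⊗ pre (scalUnit φ))).app X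
          (tp ((fgt.map (freeOnIso (O := O) U).inv).app X ((shfU (freeY U)).app X δ)) r') := by
      change (fgt.map ((tR (scalUnit φ)).map (freeOnIso (O := O) U).inv)).app X
        ((fgt.map (shf.map (shfU (freeY U) ▷ pre (scalUnit φ)))).app X ((shfU P).app X (tp δ r'))) = _
      exact (congrArg _ (shfMap_shfU (shfU (freeY U) ▷ pre (scalUnit φ)) X _)).trans (shfMap_shfU _ X _)
    have hR : (fgt.map (thetaFree φ U).hom).app X ((fgt.map a.inv).app X ((shfU P).app X (tp δ r'))) =
        (fgt.map (freeOnIso (O := O') U).inv).app X ((shfU (freeY U)).app X δ') := by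
      have e0 : (fgt.map a.hom).app X ((fgt.map a.inv).app X ((shfU P).app X (tp δ r'))) = (shfU P).app X (tp δ r') :=
        congrArg (fun t : shf.obj P ⟶ shf.obj P => (fgt.map t).app X ((shfU P).app X (tp δ r'))) a.inv_hom_id
      refine congrArg (fun z => (fgt.map (freeOnIso (O := O') U).inv).app X z) ?_
      refine Eq.trans ?_ (counit_shfU ((scalRes φ).obj (shf.obj (freeY U))) X _)
      refine congrArg (fun z => (fgt.map (shfCounitIso.hom.app ((scalRes φ).obj (shf.obj (freeY U))))).app X z) ?_
      refine Eq.trans ?_ (shfMap_shfU ((scalPre φ).map (shfU (freeY U : PreM O'))) X δ')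
      refine congrArg (fun z => (fgt.map (shf.map ((scalPre φ).map (shfU (freeY U : PreM O'))))).app X z) ?_
      refine Eq.trans ?_ ((shfMap_shfU (theta0 φ U) X (tp δ r')).trans (congrArg _ (theta0App_single φ U X i c r')))
      exact congrArg (fun z => (fgt.map (shf.map (theta0 φ U))).app X z) e0
    rw [hR, ha]
    refine (act_shfU φ (etaScal φ U) X _ r').trans ?_
    have h1 : (fgt.map (freeOnIso (O := O) U).inv).app X ((shfU (freeY U)).app X δ) =
        c • res (pre (ModSite.freeOn O U)) i.op (freeOnEquiv U _ (𝟙 _)) := by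
      have e1 : δ = c • res (freeY U : PreM O) i.op (ModuleCat.freeMk (𝟙 U)) := by
        refine Eq.symm ((congrArg (c • ·) (freeY_map_single U i.op (𝟙 U) 1)).trans ?_)
        refine (Finsupp.smul_single' c _ _).trans ?_
        rw [map_one, mul_one, Category.comp_id]
        rfl
      rw [e1, (((shfU (freeY U : PreM O)).app X)).hom.map_smul, ((fgt.map (freeOnIso (O := O) U).inv).app X).hom.map_smul]
      refine congrArg (c • ·) ?_
      refine (congrArg _ (app_res (shfU (freeY U : PreM O)) i.op _)).trans ((app_res (fgt.map (freeOnIso (O := O) U).inv) i.op _).trans ?_)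
      refine congrArg (res _ i.op) ?_
      rw [← shfFreeYEquiv_id, ← shfFreeYEquiv_comp, Category.id_comp]
      exact (shfFreeYEquiv U _).apply_symm_apply _
    have h2 : (fgt.map (etaScal φ U)).app (op U) (freeOnEquiv U _ (𝟙 _)) = freeOnEquiv U (ModSite.freeOn O' U) (𝟙 _) := by
      rw [← freeOnEquiv_eq]
      exact (freeOnEquiv U _).apply_symm_apply _
    have h3 : (fgt.map (freeOnIso (O := O') U).inv).app X ((shfU (freeY U)).app X δ') =
        ((φ.hom.app X).hom c * (show O'.obj.obj X from r')) • res (pre (ModSite.freeOn O' U)) i.op (freeOnEquiv U _ (𝟙 _)) := by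
      have e1 : δ' = ((φ.hom.app X).hom c * (show O'.obj.obj X from r')) •
          res (freeY U : PreM O') i.op (ModuleCat.freeMk (𝟙 U)) := by
        refine Eq.symm ((congrArg (_ • ·) (freeY_map_single U i.op (𝟙 U) 1)).trans ?_)
        refine (Finsupp.smul_single' _ _ _).trans ?_
        rw [map_one, mul_one, Category.comp_id]
        rfl
      rw [e1, (((shfU (freeY U : PreM O')).app X)).hom.map_smul, ((fgt.map (freeOnIso (O := O') U).inv).app X).hom.map_smul]
      refine congrArg (_ • ·) ?_
      refine (congrArg _ (app_res (shfU (freeY U : PreM O')) i.op _)).trans ((app_res (fgt.map (freeOnIso (O := O') U).inv) i.op _).trans ?_)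
      refine congrArg (res _ i.op) ?_
      rw [← shfFreeYEquiv_id, ← shfFreeYEquiv_comp, Category.id_comp]
      exact (shfFreeYEquiv U _).apply_symm_apply _
    rw [h3, h1]
    refine (congrArg (fun z : (pre (ModSite.freeOn O' U)).obj X => (show O'.obj.obj X from r') • z)
      ((((fgt.map (etaScal φ U)).app X).hom.map_smul c _).trans
        (congrArg (c • ·) ((app_res (fgt.map (etaScal φ U)) i.op _).trans (congrArg _ h2))))).trans ?_
    change (show O'.obj.obj X from r') • ((φ.hom.app X).hom c • res (pre (ModSite.freeOn O' U)) i.op _) = _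
    rw [smul_smul, mul_comm]

/-- `M ⊗ O' ⟶` the restriction of the extension of scalars. -/
noncomputable def beta : tR (scalUnit φ) ⟶ extL φ ⋙ scalRes φ where
  app M := act φ ((extAdj φ).unit.app M)
  naturality M M' g := act_natural φ g ((extL φ).map g) _ _ ((extAdj φ).unit.naturality g)

lemma psi_beta (M : ModSite.Mod O) : (psi (uScal φ)).app M ≫ (beta φ).app M = (extAdj φ).unit.app M :=
  psi_act φ _

instance isIso_beta : IsIso (beta φ) := by
  have : PreservesColimitsOfSize.{u, u} (tR (scalUnit φ)) := ⟨inferInstance⟩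
  have : PreservesColimitsOfSize.{u, u} (extL φ) := (extAdj φ).leftAdjoint_preservesColimits
  have := QCAlgMod72.preservesColimits_restrictScalars ((sheafCompose J (forget₂ CommRingCat.{u} RingCat.{u})).map φ)
  have : PreservesColimitsOfSize.{u, u} (extL φ ⋙ scalRes φ) := comp_preservesColimits _ _
  refine SiteMod.isIso_of_isIso_app_freeOn (beta φ) fun U => ?_
  let k : (extL φ).obj (ModSite.freeOn O U) ⟶ ModSite.freeOn O' U := ((extAdj φ).homEquiv _ _).symm (etaScal φ U)
  have : IsIso k := by
    refine (isIso_iff_coyoneda_map_bijective k).2 fun T => ?_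
    have e : (fun g : ModSite.freeOn O' U ⟶ T => k ≫ g) =
        ((extAdj φ).homEquiv _ T).symm ∘ fun g => etaScal φ U ≫ (scalRes φ).map g := by
      funext g
      exact ((extAdj φ).homEquiv_naturality_right_symm _ g).symm
    rw [e]
    exact (Equiv.bijective _).comp (etaScal_bijective φ U T)
  have h := act_natural φ (𝟙 (ModSite.freeOn O U)) k ((extAdj φ).unit.app _) (etaScal φ U) (by
    rw [Category.id_comp]
    exact (((extAdj φ).homEquiv _ _).apply_symm_apply (etaScal φ U)).symm.trans ((extAdj φ).homEquiv_unit _ _ _))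
  rw [CategoryTheory.Functor.map_id, Category.id_comp, act_etaScal] at h
  have : IsIso ((beta φ).app (ModSite.freeOn O U) ≫ (scalRes φ).map k) := by
    change IsIso (act φ ((extAdj φ).unit.app (ModSite.freeOn O U)) ≫ (scalRes φ).map k)
    rw [← h]
    infer_instance
  exact IsIso.of_isIso_comp_right _ ((scalRes φ).map k)

end Groth.Agent.DerComp18
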