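import Groth.Agent.DerComp18.FlatPerp
import Groth.Agent.DerComp18.ScalExt
import Groth.Agent.DerComp18.RHomPerp
import Groth.Agent.DerComp18.CoverImage
import Groth.Agent.DerComp18.Exists
import Groth.Agent.DerAdj43.Basic
import Mathlib.CategoryTheory.Localization.Adjunction

/-!
Restriction of scalars along a flat map which is an isomorphism modulo an ideal: the derived complete objects are
the same.
-/

universe u

open CategoryTheory CategoryTheory.Limits Opposite DerivedCategory Pretriangulated MonoidalCategory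

attribute [local instance] HasDerivedCategory.standard

set_option autoImplicit false

namespace Groth.Agent.DerComp18

open Groth.Agent.Mod48

variable {C : Type u} [SmallCategory C] {J : GrothendieckTopology C} {O O' : Sheaf J CommRingCat.{u}} (φ : O ⟶ O')

/-- The map of ringed sites of a map of sheaves of rings. -/
noncomputable def idRMor : ModSite.RMor O' O where
  fn := 𝟭 C
  exact := preservesFiniteLimits_of_natIso
    ((Adjunction.id (C := Sheaf J (Type u))).leftAdjointUniq
      (((𝟭 C).sheafAdjunctionContinuous (Type u) J J).ofNatIsoRight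
        (NatIso.ofComponents (fun _ => Iso.refl _) : (𝟭 C).sheafPushforwardContinuous (Type u) J J ≅ 𝟭 _)))
  sharp := ⟨φ.hom⟩

lemma locSpanned_ext_scal {I : DerComp.IdealSh O} {I' : DerComp.IdealSh O'} (hI' : DerComp.IsIdealExt φ I I')
    (hI : LocSpanned I) : LocSpanned I' :=
  locSpanned_ext (idRMor φ) (I := I) (I' := I') ⟨hI'.1, fun I'' h => hI'.2 I'' h⟩ hI

section Ann

variable {O : Sheaf J CommRingCat.{u}} (I : DerComp.IdealSh O)

lemma annMod_of_iso {M N : ModSite.Mod O} (e : M ≅ N) (h : AnnMod I M) : AnnMod I N := fun W f hf x => by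
  have hx : (fgt.map e.hom).app (op W) ((fgt.map e.inv).app (op W) x) = x :=
    congrArg (fun t : N ⟶ N => (fgt.map t).app (op W) x) e.inv_hom_id
  refine (congrArg (f • ·) hx.symm).trans ?_
  exact (((fgt.map e.hom).app (op W)).hom.map_smul f _).symm.trans ((congrArg _ (h W f hf _)).trans (map_zero _))

lemma annMod_of_isZero {M : ModSite.Mod O} (h : IsZero M) : AnnMod I M := fun W f hf x => by
  have hx : x = 0 := congrArg (fun t : M ⟶ M => (fgt.map t).app (op W) x) (h.eq_of_src (𝟙 M) 0)
  rw [hx, smul_zero]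

lemma annMod_single {M : ModSite.Mod O} (h : AnnMod I M) (m k : ℤ) : AnnMod I ((sglAt M m).X k) := by
  by_cases hk : k = m
  · subst hk
    exact annMod_of_iso I (HomologicalComplex.singleObjXSelf (ComplexShape.up ℤ) k M).symm h
  · exact annMod_of_isZero I (HomologicalComplex.isZero_single_obj_X (ComplexShape.up ℤ) m M k hk)

lemma annMod_cone {M N : CC O} (hM : ∀ j, AnnMod I (M.X j)) (hN : ∀ j, AnnMod I (N.X j)) (g : M ⟶ N) (k : ℤ) :
    AnnMod I ((CochainComplex.mappingCone g).X k) := fun W f hf x => by
  let p := (CochainComplex.mappingCone.fst g).1.v k (k + 1) rfl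
  let q := (CochainComplex.mappingCone.snd g).v k k (add_zero k)
  let i := (CochainComplex.mappingCone.inl g).v (k + 1) k (by lia)
  let j := (CochainComplex.mappingCone.inr g).f k
  have hx : x = (fgt.map i).app (op W) ((fgt.map p).app (op W) x) + (fgt.map j).app (op W) ((fgt.map q).app (op W) x) :=
    congrArg (fun t : (CochainComplex.mappingCone g).X k ⟶ _ => (fgt.map t).app (op W) x)
      (CochainComplex.mappingCone.id_X g k (k + 1) rfl).symm
  refine (congrArg (f • ·) hx).trans ?_
  refine (smul_add f _ _).trans ?_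
  refine (congrArg₂ (· + ·) ((((fgt.map i).app (op W)).hom.map_smul f _).symm.trans
    ((congrArg _ (hM (k + 1) W f hf _)).trans (map_zero _)))
    ((((fgt.map j).app (op W)).hom.map_smul f _).symm.trans
      ((congrArg _ (hN k W f hf _)).trans (map_zero _)))).trans (add_zero 0)

lemma isIso_psi_of_isIso_Q {W : ModSite.Mod O} (u : ModSite.unit O ⟶ W) (N : ModSite.Mod O)
    (h : haveI := additive_flip W; IsIso (Q.map (psiC u (sglAt N 0)))) : IsIso ((psi u).app N) := by
  have := additive_flip W
  let F := (ModSite.tensorBi O).flip.obj W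
  let e := (HomologicalComplex.singleMapHomologicalComplex F (ComplexShape.up ℤ) 0).app N
  have he : psiC u (sglAt N 0) ≫ e.hom =
      (HomologicalComplex.single (ModSite.Mod O) (ComplexShape.up ℤ) 0).map ((psi u).app N) := by
    refine HomologicalComplex.from_single_hom_ext ?_
    rw [HomologicalComplex.comp_f, HomologicalComplex.single_map_f_self]
    change (psi u).app _ ≫ e.hom.f 0 = _
    simp only [e, Iso.app_hom, HomologicalComplex.singleMapHomologicalComplex_hom_app_self]
    rw [← Category.assoc]
    erw [← (psi u).naturality (HomologicalComplex.singleObjXSelf (ComplexShape.up ℤ) 0 N).hom]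
    rfl
  have hs : IsIso ((singleFunctor (ModSite.Mod O) 0).map ((psi u).app N)) := by
    change IsIso (Q.map ((HomologicalComplex.single (ModSite.Mod O) (ComplexShape.up ℤ) 0).map ((psi u).app N)))
    rw [← he, Functor.map_comp]
    infer_instance
  exact isIso_of_reflects_iso _ (singleFunctor (ModSite.Mod O) 0)

end Ann

variable [PreservesFiniteLimits (scalRes φ)] [PreservesFiniteColimits (scalRes φ)]
  (hflat : ModSite.IsFlat (scalUnit φ))

instance additive_extL : (extL φ).Additive := (extAdj φ).left_adjoint_additive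

lemma preservesFiniteColimits_extL : PreservesFiniteColimits (extL φ) :=
  have : PreservesColimitsOfSize.{u, u} (extL φ) := (extAdj φ).leftAdjoint_preservesColimits
  PreservesColimitsOfSize.preservesFiniteColimits _

include hflat in
omit [PreservesFiniteColimits (scalRes φ)] in
lemma preservesFiniteLimits_extL : PreservesFiniteLimits (extL φ) := by
  have := (isFlat_iff_preservesFiniteLimits (scalUnit φ)).1 hflat
  have : PreservesFiniteLimits (extL φ ⋙ scalRes φ) := preservesFiniteLimits_of_natIso (asIso (beta φ))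
  have : (scalRes φ).Faithful := QCAlgMod72.faithful_restrictScalars _
  refine ⟨fun K _ _ => ?_⟩
  have : ReflectsLimitsOfShape K (scalRes φ) := reflectsLimitsOfShape_of_reflectsIsomorphisms
  exact preservesLimitsOfShape_of_reflects_of_preserves (extL φ) (scalRes φ)

variable [PreservesFiniteLimits (extL φ)] [PreservesFiniteColimits (extL φ)]

/-- Extension of scalars on the derived categories. -/
noncomputable abbrev extD : DerivedCategory (ModSite.Mod O) ⥤ DerivedCategory (ModSite.Mod O') :=
  (extL φ).mapDerivedCategory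

/-- Restriction of scalars on the derived categories. -/
noncomputable abbrev resD : DerivedCategory (ModSite.Mod O') ⥤ DerivedCategory (ModSite.Mod O) :=
  (scalRes φ).mapDerivedCategory

/-- The adjunction. -/
noncomputable def adjD : extD φ ⊣ resD φ :=
  letI : CatCommSq ((extL φ).mapHomologicalComplex (ComplexShape.up ℤ)) (Q : CC O ⥤ _) Q (extD φ) :=
    ⟨(extL φ).mapDerivedCategoryFactors.symm⟩
  letI : CatCommSq ((scalRes φ).mapHomologicalComplex (ComplexShape.up ℤ)) (Q : CC O' ⥤ _) Q (resD φ) :=
    ⟨(scalRes φ).mapDerivedCategoryFactors.symm⟩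
  (DerAdj43.complexAdj (extAdj φ) (ComplexShape.up ℤ)).localization Q
    (HomologicalComplex.quasiIso (ModSite.Mod O) (ComplexShape.up ℤ)) Q
    (HomologicalComplex.quasiIso (ModSite.Mod O') (ComplexShape.up ℤ)) (extD φ) (resD φ)

lemma adjD_unit (M : CC O) : (adjD φ).unit.app (Q.obj M) =
    Q.map ((DerAdj43.complexAdj (extAdj φ) (ComplexShape.up ℤ)).unit.app M) ≫
      (scalRes φ).mapDerivedCategoryFactors.inv.app _ ≫
      (resD φ).map ((extL φ).mapDerivedCategoryFactors.inv.app M) :=
  letI : CatCommSq ((extL φ).mapHomologicalComplex (ComplexShape.up ℤ)) (Q : CC O ⥤ _) Q (extD φ) :=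
    ⟨(extL φ).mapDerivedCategoryFactors.symm⟩
  letI : CatCommSq ((scalRes φ).mapHomologicalComplex (ComplexShape.up ℤ)) (Q : CC O' ⥤ _) Q (resD φ) :=
    ⟨(scalRes φ).mapDerivedCategoryFactors.symm⟩
  Adjunction.localization_unit_app (DerAdj43.complexAdj (extAdj φ) (ComplexShape.up ℤ)) Q
    (HomologicalComplex.quasiIso (ModSite.Mod O) (ComplexShape.up ℤ)) Q
    (HomologicalComplex.quasiIso (ModSite.Mod O') (ComplexShape.up ℤ)) (extD φ) (resD φ) M

lemma isIso_adjD_counit (M : CC O') (h : ∀ k, IsIso ((extAdj φ).counit.app (M.X k))) :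
    IsIso ((adjD φ).counit.app (Q.obj M)) := by
  letI : CatCommSq ((extL φ).mapHomologicalComplex (ComplexShape.up ℤ)) (Q : CC O ⥤ _) Q (extD φ) :=
    ⟨(extL φ).mapDerivedCategoryFactors.symm⟩
  letI : CatCommSq ((scalRes φ).mapHomologicalComplex (ComplexShape.up ℤ)) (Q : CC O' ⥤ _) Q (resD φ) :=
    ⟨(scalRes φ).mapDerivedCategoryFactors.symm⟩
  have e : (adjD φ).counit.app (Q.obj M) = _ :=
    Adjunction.localization_counit_app (DerAdj43.complexAdj (extAdj φ) (ComplexShape.up ℤ)) Q
      (HomologicalComplex.quasiIso (ModSite.Mod O) (ComplexShape.up ℤ)) Q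
      (HomologicalComplex.quasiIso (ModSite.Mod O') (ComplexShape.up ℤ)) (extD φ) (resD φ) M
  rw [e]
  have : ∀ k, IsIso (((DerAdj43.complexAdj (extAdj φ) (ComplexShape.up ℤ)).counit.app M).f k) := h
  have := HomologicalComplex.Hom.isIso_of_components ((DerAdj43.complexAdj (extAdj φ) (ComplexShape.up ℤ)).counit.app M)
  infer_instance

/-- `psi` followed by the comparison is the unit. -/
noncomputable def betaC (M : CC O) :
    (haveI := additive_flip (scalUnit φ);
      (((ModSite.tensorBi O).flip.obj (scalUnit φ)).mapHomologicalComplex (ComplexShape.up ℤ)).obj M) ≅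
      ((scalRes φ).mapHomologicalComplex (ComplexShape.up ℤ)).obj
        (((extL φ).mapHomologicalComplex (ComplexShape.up ℤ)).obj M) :=
  HomologicalComplex.Hom.isoOfComponents (fun n => (asIso (beta φ)).app (M.X n))
    fun i j _ => ((beta φ).naturality (M.d i j)).symm

variable (I : DerComp.IdealSh O) (I' : DerComp.IdealSh O') (hI : LocSpanned I) (hI' : DerComp.IsIdealExt φ I I')
  (hinj : ∀ (U : C) (f : O.obj.obj (op U)), (φ.hom.app (op U)).hom f ∈ I'.ideal U → f ∈ I.ideal U)
  (hsurj : ∀ (U : C) (f' : O'.obj.obj (op U)), ∃ S ∈ J U, ∀ ⦃V : C⦄ (g : V ⟶ U), S g →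
    ∃ a : O.obj.obj (op V), (O'.obj.map g.op).hom f' - (φ.hom.app (op V)).hom a ∈ I'.ideal V)

include hflat hI hI' hinj hsurj in
/-- The cones of the unit are orthogonal to the complete objects. -/
theorem exists_triangle_unit (X : DerivedCategory (ModSite.Mod O)) :
    ∃ (T : DerivedCategory (ModSite.Mod O)) (a : (resD φ).obj ((extD φ).obj X) ⟶ T) (b : T ⟶ X⟦(1 : ℤ)⟧),
      Triangle.mk ((adjD φ).unit.app X) a b ∈ distinguishedTriangles ∧ Perp I T := by
  obtain ⟨T, a, b, hT⟩ := distinguished_cocone_triangle ((adjD φ).unit.app X)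
  refine ⟨T, a, b, hT, ?_⟩
  let M := Q.objPreimage X
  let e : Q.obj M ≅ X := Q.objObjPreimageIso X
  have := additive_flip (scalUnit φ)
  let T₀ := Q.mapTriangle.obj (CochainComplex.mappingCone.triangle (psiC (uScal φ) M))
  have hT₀ : T₀ ∈ distinguishedTriangles := (DerivedCategory.mem_distTriang_iff _).2 ⟨_, _, _, ⟨Iso.refl _⟩⟩
  have hP : Perp I T₀.obj₃ := perp_cone_psiC (uScal φ) hflat I hI
    (fun V l hl hs => isIso_qMap_uScal φ I I' hI' hinj hsurj l hl hs) M
  let f : T₀.obj₂ ≅ (resD φ).obj ((extD φ).obj X) :=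
    Q.mapIso (betaC φ M) ≪≫ ((scalRes φ).mapDerivedCategoryFactors.app _).symm ≪≫
      (resD φ).mapIso (((extL φ).mapDerivedCategoryFactors.app M).symm ≪≫ (extD φ).mapIso e)
  have hf : T₀.mor₁ ≫ f.hom = e.hom ≫ (adjD φ).unit.app X := by
    refine Eq.trans ?_ ((adjD φ).unit.naturality e.hom).symm
    rw [adjD_unit]
    have h1 : psiC (uScal φ) M ≫ (betaC φ M).hom = (DerAdj43.complexAdj (extAdj φ) (ComplexShape.up ℤ)).unit.app M :=
      HomologicalComplex.hom_ext _ _ fun n => psi_beta φ (M.X n)
    rw [← h1, Functor.map_comp]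
    simp only [Category.assoc, f, Iso.trans_hom, Functor.mapIso_hom, Iso.symm_hom, Iso.app_inv, Functor.map_comp]
    rfl
  let g := isoTriangleOfIso₁₂ T₀ (Triangle.mk ((adjD φ).unit.app X) a b) hT₀ hT e f hf
  exact fun L hL => (hP L hL).of_iso (Triangle.π₃.mapIso g)

include hflat hI hI' hinj hsurj in
/-- The unit is bijective on maps into complete objects. -/
theorem unit_precomp_bijective (X : DerivedCategory (ModSite.Mod O)) {L : DerivedCategory (ModSite.Mod O)}
    (hL : DerComp.IsDerComp O I L) :
    Function.Bijective fun g : (resD φ).obj ((extD φ).obj X) ⟶ L => (adjD φ).unit.app X ≫ g := by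
  obtain ⟨T, a, b, hT, hP⟩ := exists_triangle_unit φ hflat I I' hI hI' hinj hsurj X
  exact DR39.precomp_iso_bijective _ ((shiftFunctorZero (DerivedCategory (ModSite.Mod O)) ℤ).app L)
    ((DR39.subsingleton_hom_iff_precomp_bijective _ hT L).1 (hP L hL) 0)

include hI' in
omit [PreservesFiniteLimits (scalRes φ)] [PreservesFiniteColimits (scalRes φ)] [PreservesFiniteLimits (extL φ)]
  [PreservesFiniteColimits (extL φ)] in
/-- Restriction of scalars of annihilated modules. -/
lemma annMod_scalRes {M : ModSite.Mod O'} (hM : AnnMod I' M) : AnnMod I ((scalRes φ).obj M) :=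
  fun W f hf x => hM W _ (hI'.1 W f hf) x

include hI' in
omit [PreservesFiniteLimits (scalRes φ)] [PreservesFiniteColimits (scalRes φ)] [PreservesFiniteLimits (extL φ)]
  [PreservesFiniteColimits (extL φ)] in
/-- Extension of scalars of annihilated modules. -/
lemma annMod_extL {M : ModSite.Mod O} (hM : AnnMod I M) : AnnMod I' ((extL φ).obj M) := by
  let N := (extL φ).obj M
  let J' : DerComp.IdealSh O' :=
    { ideal := fun Y =>
        { carrier := {f | ∀ (Z : C) (k : Z ⟶ Y) (x : (pre N).obj (op Z)), (O'.obj.map k.op).hom f • x = 0}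
          zero_mem' := fun Z k x => (congrArg (fun c : O'.obj.obj (op Z) => c • x) (map_zero _)).trans (zero_smul _ x)
          add_mem' := fun {a b} ha hb Z k x => (congrArg (fun c : O'.obj.obj (op Z) => c • x) (map_add _ a b)).trans
            ((add_smul _ _ x).trans ((congrArg₂ (· + ·) (ha Z k x) (hb Z k x)).trans (add_zero 0)))
          smul_mem' := fun c a ha Z k x => (congrArg (fun c : O'.obj.obj (op Z) => c • x) (map_mul _ c a)).trans
            ((mul_smul _ _ x).trans ((congrArg _ (ha Z k x)).trans (smul_zero _))) }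
      map_mem := fun {Y Y'} g f hf Z k x => by
        refine (congrArg (fun c : O'.obj.obj (op Z) => c • x) ?_).trans (hf Z (k ≫ g) x)
        rw [op_comp, Functor.map_comp, CommRingCat.comp_apply]
      glue := fun {Y f} S hS hloc Z k x => by
        refine eq_zero_of_locally _ (J.pullback_stable k hS) fun Z' g hg => ?_
        refine (res_smul (pre N) g.op _ x).trans ?_
        have := hloc (g ≫ k) hg Z' (𝟙 _) (res (pre N) g.op x)
        refine Eq.trans (congrArg (fun c : O'.obj.obj (op Z') => c • res (pre N) g.op x) ?_) this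
        rw [op_id, O'.obj.map_id, CommRingCat.id_apply, op_comp, Functor.map_comp, CommRingCat.comp_apply] }
  have hann : AnnMod I ((scalRes φ).obj N) := fun W f hf x => by
    have h : AnnMod I (((ModSite.tensorBi O).obj M).obj (scalUnit φ)) := annMod_tens I hM _
    let y := (fgt.map (inv ((beta φ).app M))).app (op W) x
    have hy : (fgt.map ((beta φ).app M)).app (op W) y = x :=
      congrArg (fun t : (scalRes φ).obj N ⟶ (scalRes φ).obj N => (fgt.map t).app (op W) x) (IsIso.inv_hom_id ((beta φ).app M))
    refine (congrArg (f • ·) hy.symm).trans ?_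
    exact (((fgt.map ((beta φ).app M)).app (op W)).hom.map_smul f y).symm.trans
      ((congrArg _ (h W f hf y)).trans (map_zero _))
  have hle : I' ≤ J' := hI'.2 J' fun Y f hf Z k x => by
    refine Eq.trans (congrArg (fun c : O'.obj.obj (op Z) => c • x) ?_) (hann Z _ (I.map_mem k hf) x)
    exact (CategoryTheory.congr_fun (φ.hom.naturality k.op) f).symm
  intro W f hf x
  have := hle W hf W (𝟙 W) x
  refine Eq.trans (congrArg (fun c : O'.obj.obj (op W) => c • x) ?_) this
  rw [op_id, O'.obj.map_id, CommRingCat.id_apply]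

include hI' hI in
/-- Restriction of scalars preserves orthogonality. -/
theorem perp_resD {Z : DerivedCategory (ModSite.Mod O')} (hZ : Perp I' Z) : Perp I ((resD φ).obj Z) := by
  refine perp_of_annMod hI _ fun M hM n => (Equiv.subsingleton_congr ((adjD φ).homEquiv _ Z)).1 ?_
  let e : (extD φ).obj (Q.obj (sglAt M n)) ≅ Q.obj (sglAt ((extL φ).obj M) n) :=
    (extL φ).mapDerivedCategoryFactors.app _ ≪≫
      Q.mapIso ((HomologicalComplex.singleMapHomologicalComplex (extL φ) (ComplexShape.up ℤ) n).app M)
  have h := (noHom_of_annMod (locSpanned_ext_scal φ hI' hI) (sglAt ((extL φ).obj M) n) (fun k => ?_) hZ).of_iso e.symm 0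
  · exact (Equiv.subsingleton_congr ((shiftFunctorZero (DerivedCategory (ModSite.Mod O')) ℤ).app Z).homToEquiv).1 h
  · exact annMod_single I' (annMod_extL φ I I' hI' hM) n k

include hflat hI hI' hinj hsurj in
/-- **Essential surjectivity.** -/
theorem exists_preimage (E : DerivedCategory (ModSite.Mod O)) (hE : DerComp.IsDerComp O I E) :
    ∃ K' : DerivedCategory (ModSite.Mod O'), DerComp.IsDerComp O' I' K' ∧ Nonempty ((resD φ).obj K' ≅ E) := by
  have := hasDerCompletion O' I'
  let K' := ((DerComp.derCompletion O' I').obj ((extD φ).obj E))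
  let γ := DerComp.toDerCompletion I' ((extD φ).obj E)
  let ζ : E ⟶ (resD φ).obj K'.obj := (adjD φ).unit.app E ≫ (resD φ).map γ
  have hR : DerComp.IsDerComp O I ((resD φ).obj K'.obj) :=
    (isDerComp_iff_scalRes φ I I' hI' K'.obj).1 K'.property
  have hb : ∀ L, DerComp.IsDerComp O I L → Function.Bijective fun g : (resD φ).obj K'.obj ⟶ L => ζ ≫ g := fun L hL => by
    obtain ⟨T, a, b, hT, hP⟩ := exists_triangle_perp I' ((extD φ).obj E)
    have h1 := DR39.precomp_iso_bijective _ ((shiftFunctorZero (DerivedCategory (ModSite.Mod O)) ℤ).app L)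
      ((DR39.subsingleton_hom_iff_precomp_bijective _ ((resD φ).map_distinguished _ hT) L).1
        (perp_resD φ I I' hI hI' hP L hL) 0)
    have h2 := (unit_precomp_bijective φ hflat I I' hI hI' hinj hsurj E hL).comp h1
    refine (congrArg Function.Bijective (funext fun g => ?_)).mp h2
    exact (Category.assoc _ _ _).symm
  obtain ⟨r, hr⟩ := (hb E hE).2 (𝟙 E)
  refine ⟨K'.obj, K'.property, ⟨⟨r, ζ, (hb _ hR).1 ?_, hr⟩⟩⟩
  exact (Category.assoc _ _ _).symm.trans ((congrArg (· ≫ ζ) hr).trans ((Category.id_comp ζ).trans (Category.comp_id ζ).symm))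

include hflat hI hI' hinj hsurj in
/-- The counit is invertible on annihilated modules. -/
lemma isIso_counit_annMod {M : ModSite.Mod O'} (hM : AnnMod I' M) : IsIso ((extAdj φ).counit.app M) := by
  let N := (scalRes φ).obj M
  have hN : AnnMod I N := annMod_scalRes φ I I' hI' hM
  have := additive_flip (scalUnit φ)
  let S := sglAt N 0
  let c := CochainComplex.mappingCone (psiC (uScal φ) S)
  have hP : Perp I (Q.obj c) := perp_cone_psiC (uScal φ) hflat I hI
    (fun V l hl hs => isIso_qMap_uScal φ I I' hI' hinj hsurj l hl hs) S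
  have hcone : ∀ k, AnnMod I (c.X k) := fun k =>
    annMod_cone I (fun j => annMod_single I hN 0 j)
      (fun j => annMod_tens I (annMod_single I hN 0 j) (scalUnit φ)) _ k
  have hz : IsZero (Q.obj c) := (IsZero.iff_id_eq_zero _).2 (by
    have h := (Equiv.subsingleton_congr ((shiftFunctorZero (DerivedCategory (ModSite.Mod O)) ℤ).app (Q.obj c)).homToEquiv).1
      (noHom_of_annMod hI c hcone hP 0)
    exact h.elim _ _)
  let T₀ := Q.mapTriangle.obj (CochainComplex.mappingCone.triangle (psiC (uScal φ) S))
  have hT₀ : T₀ ∈ distinguishedTriangles := (DerivedCategory.mem_distTriang_iff _).2 ⟨_, _, _, ⟨Iso.refl _⟩⟩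
  have hi : IsIso (Q.map (psiC (uScal φ) S)) := (Triangle.isZero₃_iff_isIso₁ T₀ hT₀).1 hz
  have hψ : IsIso ((psi (uScal φ)).app N) := isIso_psi_of_isIso_Q (uScal φ) N hi
  have hu : IsIso ((extAdj φ).unit.app N) := by rw [← psi_beta]; exact IsIso.comp_isIso' hψ ((asIso (beta φ)).app N).isIso_hom
  have hR : IsIso ((scalRes φ).map ((extAdj φ).counit.app M)) :=
    IsIso.of_isIso_fac_left ((extAdj φ).right_triangle_components M)
  have : (scalRes φ).Faithful := QCAlgMod72.faithful_restrictScalars _
  exact isIso_of_reflects_iso _ (scalRes φ)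

include hflat hI hI' hinj hsurj in
/-- Restriction of scalars reflects orthogonality. -/
theorem perp_of_resD {Z : DerivedCategory (ModSite.Mod O')} (hZ : Perp I ((resD φ).obj Z)) : Perp I' Z := by
  refine perp_of_annMod (locSpanned_ext_scal φ hI' hI) _ fun M hM n => subsingleton_of_forall_eq 0 fun x => ?_
  have := isIso_counit_annMod φ hflat I I' hI hI' hinj hsurj hM
  let e : (resD φ).obj (Q.obj (sglAt M n)) ≅ Q.obj (sglAt ((scalRes φ).obj M) n) :=
    (scalRes φ).mapDerivedCategoryFactors.app _ ≪≫
      Q.mapIso ((HomologicalComplex.singleMapHomologicalComplex (scalRes φ) (ComplexShape.up ℤ) n).app M)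
  have hRx : (resD φ).map x = 0 := by
    have h := (noHom_of_annMod hI (sglAt ((scalRes φ).obj M) n)
      (fun k => annMod_single I (annMod_scalRes φ I I' hI' hM) n k) hZ).of_iso e.symm 0
    have h' := (Equiv.subsingleton_congr
      ((shiftFunctorZero (DerivedCategory (ModSite.Mod O)) ℤ).app ((resD φ).obj Z)).homToEquiv).1 h
    exact h'.elim _ _
  have hε : IsIso ((adjD φ).counit.app (Q.obj (sglAt M n))) := isIso_adjD_counit φ (sglAt M n) fun k =>
    isIso_counit_annMod φ hflat I I' hI hI' hinj hsurj (annMod_single I' hM n k)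
  have hnat := (adjD φ).counit.naturality x
  rw [Functor.comp_map, hRx, Functor.map_zero, zero_comp] at hnat
  exact (cancel_epi ((adjD φ).counit.app (Q.obj (sglAt M n)))).1 (hnat.symm.trans comp_zero.symm)

include hflat hI hI' hinj hsurj in
/-- **Full faithfulness.** -/
theorem resD_map_bijective (K' L' : DerivedCategory (ModSite.Mod O')) (hK : DerComp.IsDerComp O' I' K')
    (hL : DerComp.IsDerComp O' I' L') : Function.Bijective fun ψ : K' ⟶ L' => (resD φ).map ψ := by
  let ε := (adjD φ).counit.app K'
  obtain ⟨Z, a, b, hT⟩ := distinguished_cocone_triangle ε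
  have hRT := (resD φ).map_distinguished _ hT
  have htri := (adjD φ).right_triangle_components K'
  have hPR : Perp I ((resD φ).obj Z) := fun L hL => by
    refine (DR39.subsingleton_hom_iff_precomp_bijective _ hRT L).2 fun n => ?_
    have h := unit_precomp_bijective φ hflat I I' hI hI' hinj hsurj ((resD φ).obj K') (isDerComp_shift hL n)
    refine ⟨fun g g' hg => ?_, fun g => ⟨(adjD φ).unit.app _ ≫ g, h.1 ?_⟩⟩
    · have hg' : (resD φ).map ε ≫ g = (resD φ).map ε ≫ g' := hg
      refine ((Category.id_comp g).symm.trans (congrArg (· ≫ g) htri.symm)).trans ?_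
      refine ((Category.assoc _ _ _).trans ((congrArg ((adjD φ).unit.app _ ≫ ·) hg').trans (Category.assoc _ _ _).symm)).trans ?_
      exact (congrArg (· ≫ g') htri).trans (Category.id_comp g')
    · change (adjD φ).unit.app _ ≫ (resD φ).map ε ≫ (adjD φ).unit.app _ ≫ g = (adjD φ).unit.app _ ≫ g
      exact (reassoc_of% htri) _
  have hb : Function.Bijective fun g : K' ⟶ L' => ε ≫ g :=
    DR39.precomp_iso_bijective _ ((shiftFunctorZero (DerivedCategory (ModSite.Mod O')) ℤ).app L')
      ((DR39.subsingleton_hom_iff_precomp_bijective _ hT L').1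
        (perp_of_resD φ hflat I I' hI hI' hinj hsurj hPR L' hL) 0)
  have e : (fun ψ : K' ⟶ L' => (resD φ).map ψ) =
      (adjD φ).homEquiv ((resD φ).obj K') L' ∘ fun ψ => ε ≫ ψ := by
    funext ψ
    change _ = (adjD φ).homEquiv _ _ (ε ≫ ψ)
    rw [Adjunction.homEquiv_unit, Functor.map_comp, reassoc_of% htri]
  rw [e]
  exact (Equiv.bijective _).comp hb

end Groth.Agent.DerComp18
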