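import Groth.Agent.Mod48.ModGen
import Mathlib.Algebra.Category.ModuleCat.Presheaf.Submodule

/-!
A local predicate on sections of a sheaf of modules which holds on generators holds everywhere.
-/

universe u

open CategoryTheory CategoryTheory.Limits Opposite

set_option autoImplicit false

namespace Groth.Agent.DerComp18

open Groth.Agent.Mod48

variable {C : Type u} [SmallCategory C] {J : GrothendieckTopology C} {O : Sheaf J CommRingCat.{u}}

lemma app_injective_of_mono {M N : ModSite.Mod O} (f : M ⟶ N) [Mono f] (W : C) :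
    Function.Injective ((fgt.map f).app (op W)).hom := fun x y h => by
  apply (freeOnEquiv W M).symm.injective
  rw [← cancel_mono f]
  apply (freeOnEquiv W N).injective
  rw [freeOnEquiv_comp, freeOnEquiv_comp, Equiv.apply_symm_apply, Equiv.apply_symm_apply]
  exact h

lemma exists_lift_of_epi {M N : ModSite.Mod O} (f : M ⟶ N) [Epi f] (W : C) (y : (pre N).obj (op W)) :
    ∃ S ∈ J W, ∀ ⦃V : C⦄ (g : V ⟶ W), S g →
      ∃ x : (pre M).obj (op V), (fgt.map f).app (op V) x = res (pre N) g.op y := by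
  obtain ⟨S, hS, h⟩ := (modGen O).lift f ((freeOnEquiv W N).symm y)
  refine ⟨S, hS, fun V g hg => ?_⟩
  obtain ⟨b, hb⟩ := h g hg
  refine ⟨freeOnEquiv V M b, ?_⟩
  exact (freeOnEquiv_comp V b f).symm.trans ((congrArg (freeOnEquiv V N) hb).trans
    ((freeOnEquiv_map_comp g _).trans (congrArg _ (Equiv.apply_symm_apply _ _))))

lemma eq_zero_of_locally {M : ModSite.Mod O} {W : C} (x : (pre M).obj (op W)) {S : Sieve W} (hS : S ∈ J W)
    (h : ∀ ⦃V : C⦄ (g : V ⟶ W), S g → res (pre M) g.op x = 0) : x = 0 :=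
  ext_of_sieve hS fun V g hg => (h g hg).trans (res_zero' _ _).symm

/-- A local submodule predicate holding on generators holds on all sections. -/
theorem forall_of_gen (M : ModSite.Mod O) {ι : Type*} {Y : ι → C} (u : ∀ i, ModSite.freeOn O (Y i) ⟶ M)
    (hu : ∀ ⦃H : ModSite.Mod O⦄ (a b : M ⟶ H), (∀ i, u i ≫ a = u i ≫ b) → a = b)
    (P : ∀ W : C, (pre M).obj (op W) → Prop)
    (h0 : ∀ W, P W 0) (hadd : ∀ W x y, P W x → P W y → P W (x + y))
    (hsmul : ∀ W (r : O.obj.obj (op W)) x, P W x → P W (r • x))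
    (hres : ∀ ⦃V W : C⦄ (g : V ⟶ W) x, P W x → P V (res (pre M) g.op x))
    (hloc : ∀ ⦃W : C⦄ (S : Sieve W), S ∈ J W → ∀ x, (∀ ⦃V : C⦄ (g : V ⟶ W), S g → P V (res (pre M) g.op x)) → P W x)
    (hgen : ∀ i, P (Y i) (freeOnEquiv (Y i) M (u i)))
    (W : C) (x : (pre M).obj (op W)) : P W x := by
  let N : (pre M).Submodule :=
    { obj := fun X =>
        { carrier := {x | P X.unop x}
          zero_mem' := h0 _
          add_mem' := fun {a b} ha hb => hadd _ a b ha hb
          smul_mem' := fun r a ha => hsmul _ r a ha }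
      map := fun {X Y} f a ha => hres f.unop a ha }
  have hepi : Epi (shf.map N.ι) := ⟨fun {H} a b hab => by
    have h1 : N.ι ≫ shfHomEquiv _ H a = N.ι ≫ shfHomEquiv _ H b := by
      rw [← shfHomEquiv_naturality_left, ← shfHomEquiv_naturality_left, hab]
    apply (shfHomEquiv _ H).injective
    rw [← (fgt (O := O)).map_preimage (X := M) (Y := H) (shfHomEquiv _ H a),
      ← (fgt (O := O)).map_preimage (X := M) (Y := H) (shfHomEquiv _ H b)]
    refine congrArg fgt.map (hu _ _ fun i => ?_)
    apply (freeOnEquiv (Y i) H).injective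
    rw [freeOnEquiv_comp, freeOnEquiv_comp, Functor.map_preimage, Functor.map_preimage]
    exact congrArg (fun t : N.toPresheafOfModules ⟶ pre H => (t.app (op (Y i))).hom ⟨_, hgen i⟩) h1⟩
  have : IsIso (shf.map N.ι) := isIso_of_mono_of_epi _
  have hs := ((isIso_shf_map_iff_isLocalIso N.ι).1 this).surj
  refine hloc _ (Presheaf.imageSieve_mem J ((PresheafOfModules.toPresheaf _).map N.ι) x) x fun V g hg => ?_
  obtain ⟨⟨t, ht⟩, ht'⟩ := hg
  change t = res (pre M) g.op x at ht'
  rw [← ht']
  exact ht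

end Groth.Agent.DerComp18
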