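import Groth.Agent.DerComp18.ScalFree
import Groth.Agent.DerComp18.Generate

/-!
A map of sheaves of rings which is an isomorphism modulo an ideal is an isomorphism modulo spanning sections.
-/

universe u

open CategoryTheory CategoryTheory.Limits Opposite

set_option autoImplicit false

namespace Groth.Agent.DerComp18

open Groth.Agent.Mod48

variable {C : Type u} [SmallCategory C] {J : GrothendieckTopology C} {O : Sheaf J CommRingCat.{u}}

lemma qπ_epi : ∀ (l : List (DerComp.GSec O)) (Y : ModSite.Mod O), Epi (qπ l Y)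
  | [], Y => inferInstanceAs (Epi (𝟙 Y))
  | _ :: l, Y => @epi_comp _ _ _ _ _ _ (qπ_epi l Y) _ ⟨fun g h e => coequalizer.hom_ext e⟩

lemma smulEnd_comp_qπ : ∀ (l : List (DerComp.GSec O)) (Y : ModSite.Mod O), ∀ s ∈ l,
    DerComp.smulEnd s Y ≫ qπ l Y = 0
  | [], _, _, hs => absurd hs List.not_mem_nil
  | t :: l, Y, s, hs => by
    change DerComp.smulEnd s Y ≫ qπ l Y ≫ cokernel.π _ = 0
    rcases List.mem_cons.1 hs with rfl | h
    · rw [← Category.assoc, DerComp.smulEnd_comm, Category.assoc, cokernel.condition, comp_zero]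
    · rw [← Category.assoc, smulEnd_comp_qπ l Y s h, zero_comp]

lemma exists_preimage_cokernel {X Y : ModSite.Mod O} (f : X ⟶ Y) (W : C) (y : (pre Y).obj (op W))
    (hy : (fgt.map (cokernel.π f)).app (op W) y = 0) :
    ∃ S ∈ J W, ∀ ⦃V : C⦄ (g : V ⟶ W), S g → ∃ x : (pre X).obj (op V), (fgt.map f).app (op V) x = res (pre Y) g.op y := by
  let S' := ShortComplex.mk f (cokernel.π f) (cokernel.condition f)
  have hS : S'.Exact := ShortComplex.exact_of_g_is_cokernel _ (cokernelIsCokernel f)
  let a := (freeOnEquiv W Y).symm y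
  have ha : a ≫ cokernel.π f = 0 := (freeOnEquiv W _).injective (by
    rw [freeOnEquiv_comp, Equiv.apply_symm_apply, hy, ← comp_zero (f := a) (Z := cokernel f), freeOnEquiv_comp]
    rfl)
  obtain ⟨A, π, hπ, b, hb⟩ := hS.exact_up_to_refinements a ha
  obtain ⟨S, hS', h⟩ := exists_lift_of_epi π W (freeOnEquiv W _ (𝟙 _))
  refine ⟨S, hS', fun V g hg => ?_⟩
  obtain ⟨c, hc⟩ := h g hg
  refine ⟨(fgt.map b).app (op V) c, ?_⟩
  have e : (fgt.map (π ≫ a)).app (op V) c = (fgt.map (b ≫ f)).app (op V) c :=
    congrArg (fun t : A ⟶ Y => (fgt.map t).app (op V) c) hb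
  refine e.symm.trans ?_
  change (fgt.map a).app (op V) ((fgt.map π).app (op V) c) = _
  rw [hc]
  refine (app_res (fgt.map a) g.op _).trans (congrArg _ ?_)
  rw [← freeOnEquiv_eq]
  exact (freeOnEquiv W Y).apply_symm_apply y

/-- The kernel of the projection consists of the sections locally in the span. -/
lemma exists_mem_span_of_qπ : ∀ (l : List (DerComp.GSec O)) (Y : ModSite.Mod O) (W : C) (y : (pre Y).obj (op W)),
    (fgt.map (qπ l Y)).app (op W) y = 0 →
    ∃ S ∈ J W, ∀ ⦃V : C⦄ (g : V ⟶ W), S g →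
      res (pre Y) g.op y ∈ spanAt l V • (⊤ : Submodule (O.obj.obj (op V)) ((pre Y).obj (op V)))
  | [], Y, W, y, hy => ⟨⊤, J.top_mem W, fun V g _ => by
      have h : y = 0 := hy
      rw [h, res_zero']
      exact zero_mem _⟩
  | s :: l, Y, W, y, hy => by
    obtain ⟨S, hS, hS'⟩ := exists_preimage_cokernel (DerComp.smulEnd s (qL l Y)) W ((fgt.map (qπ l Y)).app (op W) y) hy
    choose x hx using hS'
    have hlift := fun V (g : V ⟶ W) (hg : S g) => @exists_lift_of_epi _ _ _ _ _ _ (qπ l Y) (qπ_epi l Y) V (x g hg)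
    choose T hT hT' using hlift
    choose y' hy' using hT'
    have hloc : ∀ V (g : V ⟶ W) (hg : S g) V' (k : V' ⟶ V) (hk : (T V g hg) k),
        (fgt.map (qπ l Y)).app (op V') (res (pre Y) (k ≫ g).op y - s.1 V' • y' V g hg k hk) = 0 := fun V g hg V' k hk => by
      refine (map_sub _ _ _).trans (sub_eq_zero.2 ?_)
      refine (app_res (fgt.map (qπ l Y)) (k ≫ g).op y).trans ?_
      rw [op_comp, ← res_res]
      refine (congrArg (res (pre (qL l Y)) k.op) (hx g hg).symm).trans ?_
      refine ((res_smul (pre (qL l Y)) k.op (s.1 V) (x g hg)).trans ?_).trans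
        (((fgt.map (qπ l Y)).app (op V')).hom.map_smul (s.1 V') (y' V g hg k hk)).symm
      rw [hy' V g hg k hk]
      exact congrArg (· • _) (s.2 k)
    have hrec := fun V g hg V' k hk => exists_mem_span_of_qπ l Y V' _ (hloc V g hg V' k hk)
    choose R hR hR' using hrec
    refine ⟨Sieve.bind S.1 (fun V g hg => Sieve.bind (T V g hg).1 (fun V' k hk => R V g hg V' k hk)),
      J.bind_covering hS (fun V g hg => J.bind_covering (hT V g hg) (fun V' k hk => hR V g hg V' k hk)), ?_⟩
    rintro Z _ ⟨V, a, g, hg, ⟨V', b, k, hk, hb, rfl⟩, rfl⟩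
    have hmem := hR' V g hg V' k hk b hb
    have e : res (pre Y) ((b ≫ k) ≫ g).op y =
        res (pre Y) b.op (res (pre Y) (k ≫ g).op y - s.1 V' • y' V g hg k hk) +
          s.1 Z • res (pre Y) b.op (y' V g hg k hk) := by
      have h1 : res (pre Y) b.op (s.1 V' • y' V g hg k hk) = s.1 Z • res (pre Y) b.op (y' V g hg k hk) :=
        (res_smul (pre Y) b.op (s.1 V') _).trans (congrArg (· • _) (s.2 b))
      rw [← h1, ← res_add, sub_add_cancel, res_res, ← op_comp, Category.assoc]
    rw [e]
    refine add_mem (Submodule.smul_mono_left le_sup_right hmem) ?_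
    exact Submodule.smul_mem_smul (Submodule.mem_sup_left (Ideal.subset_span rfl)) Submodule.mem_top

lemma spanAt_le_ideal (I : DerComp.IdealSh O) {X : C} : ∀ (l : List (DerComp.GSec (O.over X))),
    (∀ s ∈ l, ∀ W : Over X, s.1 W ∈ I.ideal W.left) → ∀ W : Over X, spanAt l W ≤ (I.over X).ideal W
  | [], _, _ => bot_le
  | s :: l, hl, W => sup_le (Ideal.span_le.2 fun x hx => (Set.mem_singleton_iff.1 hx).symm ▸ hl s List.mem_cons_self W)
      (spanAt_le_ideal I l (fun t ht => hl t (List.mem_cons_of_mem _ ht)) W)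

variable {O' : Sheaf J CommRingCat.{u}} (φ : O ⟶ O') (I : DerComp.IdealSh O) (I' : DerComp.IdealSh O')
  (hI' : DerComp.IsIdealExt φ I I')
  (hinj : ∀ (U : C) (f : O.obj.obj (op U)), (φ.hom.app (op U)).hom f ∈ I'.ideal U → f ∈ I.ideal U)
  (hsurj : ∀ (U : C) (f' : O'.obj.obj (op U)), ∃ S ∈ J U, ∀ ⦃V : C⦄ (g : V ⟶ U), S g →
    ∃ a : O.obj.obj (op V), (O'.obj.map g.op).hom f' - (φ.hom.app (op V)).hom a ∈ I'.ideal V)

include hI' hinj in
lemma mono_qMap_uScal {X : C} (l : List (DerComp.GSec (O.over X)))
    (hl : ∀ s ∈ l, ∀ W : Over X, s.1 W ∈ I.ideal W.left) (hspan : Spans I l) :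
    Mono (qMap l ((ModSite.restr O X).map (uScal φ))) := by
  let u := (ModSite.restr O X).map (uScal φ)
  refine Preadditive.mono_of_cancel_zero _ fun {A} k hk => ?_
  suffices h : fgt.map k = fgt.map (0 : A ⟶ qL l _) from fgt.map_injective h
  refine PresheafOfModules.hom_ext fun W => ModuleCat.hom_ext (LinearMap.ext fun a => ?_)
  obtain ⟨W⟩ := W
  change (fgt.map k).app (op W) a = 0
  have := qπ_epi l ((ModSite.restr O X).obj (ModSite.unit O))
  obtain ⟨S, hS, hS'⟩ := exists_lift_of_epi (qπ l ((ModSite.restr O X).obj (ModSite.unit O))) W ((fgt.map k).app (op W) a)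
  refine eq_zero_of_locally _ hS fun V g hg => ?_
  obtain ⟨r, hr⟩ := hS' g hg
  rw [← hr]
  have hz : (fgt.map (qπ l ((ModSite.restr O X).obj (scalUnit φ)))).app (op V) ((fgt.map u).app (op V) r) = 0 := by
    have e := congrArg (fun t : (ModSite.restr O X).obj (ModSite.unit O) ⟶ _ => (fgt.map t).app (op V) r) (qπ_natural l u)
    refine (e.symm.trans ?_)
    change (fgt.map (qMap l u)).app (op V) ((fgt.map (qπ l _)).app (op V) r) = 0
    rw [hr, app_res]
    refine (congrArg (res (pre (qL l _)) g.op) ?_).trans (res_zero' _ _)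
    exact congrArg (fun t : A ⟶ _ => (fgt.map t).app (op W) a) hk
  obtain ⟨R, hR, hR'⟩ := exists_mem_span_of_qπ l _ V _ hz
  have hr' : (φ.hom.app (op V.left)).hom r ∈ I'.ideal V.left := by
    refine I'.glue (Sieve.overEquiv V R) ((GrothendieckTopology.mem_over_iff _ _).1 hR) fun Z k hk => ?_
    let k' : Over.mk (k ≫ V.hom) ⟶ V := Over.homMk k
    have hm := hR' k' ((Sieve.overEquiv_iff R k).1 hk)
    refine Submodule.smul_induction_on (p := fun z : (pre ((ModSite.restr O X).obj (scalUnit φ))).obj (op (Over.mk (k ≫ V.hom))) =>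
      (show O'.obj.obj (op Z) from z) ∈ I'.ideal Z) hm (fun c hc (m : O'.obj.obj (op Z)) _ => ?_) fun _ _ => add_mem
    refine (I'.ideal Z).mul_mem_right m (hI'.1 Z c ?_)
    exact spanAt_le_ideal I l hl (Over.mk (k ≫ V.hom)) hc
  obtain ⟨T, hT, hT'⟩ := hspan V _ (hinj _ _ hr')
  refine eq_zero_of_locally _ hT fun Z k hk => ?_
  refine (app_res (fgt.map (qπ l _)) k.op r).symm.trans ?_
  have hker : ∀ c ∈ spanAt l Z, (fgt.map (qπ l ((ModSite.restr O X).obj (ModSite.unit O)))).app (op Z) c = 0 := by
    intro c hc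
    have hsub : ∀ (l₀ : List (DerComp.GSec (O.over X))), (∀ s ∈ l₀, s ∈ l) → ∀ c ∈ spanAt l₀ Z,
        (fgt.map (qπ l ((ModSite.restr O X).obj (ModSite.unit O)))).app (op Z) c = 0 := by
      intro l₀
      induction l₀ with
      | nil =>
        intro _ c hc
        rw [show c = 0 from (Submodule.mem_bot _).1 hc]
        exact map_zero _
      | cons s l₀ ih =>
        intro hsub c hc
        obtain ⟨a, ha, b, hb, rfl⟩ := Submodule.mem_sup.1 hc
        obtain ⟨d, rfl⟩ := Ideal.mem_span_singleton'.1 ha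
        refine (map_add _ _ _).trans ?_
        rw [ih (fun t ht => hsub t (List.mem_cons_of_mem _ ht)) b hb, add_zero]
        have h0 := congrArg (fun t : (ModSite.restr O X).obj (ModSite.unit O) ⟶ _ => (fgt.map t).app (op Z) d)
          (smulEnd_comp_qπ l _ s (hsub s List.mem_cons_self))
        exact (congrArg _ (mul_comm d (s.1 Z))).trans h0
    exact hsub l (fun _ h => h) c hc
  exact hker _ (hT' k hk)

include hI' hsurj in
lemma epi_qMap_uScal {X : C} (l : List (DerComp.GSec (O.over X))) (hspan : Spans I l) :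
    Epi (qMap l ((ModSite.restr O X).map (uScal φ))) := by
  let u := (ModSite.restr O X).map (uScal φ)
  refine Preadditive.epi_of_cancel_zero _ fun {H} h hh => ?_
  have := qπ_epi l ((ModSite.restr O X).obj (scalUnit φ))
  rw [← cancel_epi (qπ l ((ModSite.restr O X).obj (scalUnit φ))), comp_zero]
  let h' : (ModSite.restr O X).obj (scalUnit φ) ⟶ H := qπ l _ ≫ h
  have hu : ∀ (W : Over X) (r : O.obj.obj (op W.left)),
      (fgt.map h').app (op W) ((φ.hom.app (op W.left)).hom r) = 0 := fun W r => by
    have e : u ≫ h' = 0 := by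
      rw [← Category.assoc, ← qπ_natural, Category.assoc, hh, comp_zero]
    exact congrArg (fun t : (ModSite.restr O X).obj (ModSite.unit O) ⟶ H => (fgt.map t).app (op W) r) e
  let J' : DerComp.IdealSh O' :=
    { ideal := fun Y =>
        { carrier := {f | ∀ (W : Over X) (k : W.left ⟶ Y) (r : O'.obj.obj (op W.left)),
            (fgt.map h').app (op W) (r * (O'.obj.map k.op).hom f) = 0}
          zero_mem' := fun W k r => (congrArg (fun z : O'.obj.obj (op W.left) => (fgt.map h').app (op W) z)
            (show r * (O'.obj.map k.op).hom 0 = 0 by rw [map_zero, mul_zero])).trans (map_zero _)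
          add_mem' := fun {a b} ha hb W k r => (congrArg (fun z : O'.obj.obj (op W.left) => (fgt.map h').app (op W) z)
            (show r * (O'.obj.map k.op).hom (a + b) = r * (O'.obj.map k.op).hom a + r * (O'.obj.map k.op).hom b by
              rw [map_add, mul_add])).trans ((map_add ((fgt.map h').app (op W)).hom _ _).trans
            ((congrArg₂ (· + ·) (ha W k r) (hb W k r)).trans (add_zero 0)))
          smul_mem' := fun c a ha W k r => (congrArg (fun z : O'.obj.obj (op W.left) => (fgt.map h').app (op W) z)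
            (show r * (O'.obj.map k.op).hom (c • a) = r * (O'.obj.map k.op).hom c * (O'.obj.map k.op).hom a by
              rw [smul_eq_mul, map_mul, ← mul_assoc])).trans (ha W k (r * (O'.obj.map k.op).hom c)) }
      map_mem := fun {Y Y'} g f hf W k r => by
        have e : (O'.obj.map k.op).hom ((O'.obj.map g.op).hom f) = (O'.obj.map (k ≫ g).op).hom f := by
          rw [op_comp, Functor.map_comp, CommRingCat.comp_apply]
        rw [e]
        exact hf W (k ≫ g) r
      glue := fun {Y f} S hS hloc W k r => by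
        refine eq_zero_of_locally _ (J.overEquiv_symm_mem_over W (S.pullback k) (J.pullback_stable k hS)) fun W' g hg => ?_
        refine (app_res (fgt.map h') g.op _).symm.trans ?_
        have hg' : S (g.left ≫ k) := (Sieve.overEquiv_symm_iff _ g).1 hg
        have := hloc _ hg' W' (𝟙 _) ((O'.obj.map g.left.op).hom r)
        refine Eq.trans (congrArg (fun z : O'.obj.obj (op W'.left) => (fgt.map h').app (op W') z) ?_) this
        change (O'.obj.map g.left.op).hom (r * (O'.obj.map k.op).hom f) = _
        rw [map_mul, op_id, O'.obj.map_id, CommRingCat.id_apply, op_comp, Functor.map_comp, CommRingCat.comp_apply] }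
  have hle : I' ≤ J' := hI'.2 J' fun Y f hf W k r => by
    obtain ⟨S, hS, hS'⟩ := hspan W _ (I.map_mem k hf)
    refine eq_zero_of_locally _ hS fun W' g hg => ?_
    refine (app_res (fgt.map h') g.op _).symm.trans ?_
    have e : res (pre ((ModSite.restr O X).obj (scalUnit φ))) g.op (r * (O'.obj.map k.op).hom ((φ.hom.app (op Y)).hom f)) =
        (O'.obj.map g.left.op).hom r * (φ.hom.app (op W'.left)).hom ((O.obj.map g.left.op).hom ((O.obj.map k.op).hom f)) := by
      refine (map_mul (O'.obj.map g.left.op).hom r ((O'.obj.map k.op).hom _)).trans (congrArg (_ * ·) ?_)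
      have e1 : ∀ {A B : C} (q : A ⟶ B) (z : O.obj.obj (op B)),
          (O'.obj.map q.op).hom ((φ.hom.app (op B)).hom z) = (φ.hom.app (op A)).hom ((O.obj.map q.op).hom z) :=
        fun q z => (CategoryTheory.congr_fun (φ.hom.naturality q.op) z).symm
      exact (congrArg (O'.obj.map g.left.op).hom (e1 k f)).trans (e1 g.left _)
    rw [e]
    generalize (O'.obj.map g.left.op).hom r = r'
    have hc := hS' g hg
    change (O.obj.map g.left.op).hom ((O.obj.map k.op).hom f) ∈ spanAt l W' at hc
    generalize (O.obj.map g.left.op).hom ((O.obj.map k.op).hom f) = c at hc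
    have hsub : ∀ (l₀ : List (DerComp.GSec (O.over X))), (∀ s ∈ l₀, s ∈ l) → ∀ c ∈ spanAt l₀ W',
        (fgt.map h').app (op W') (r' * (φ.hom.app (op W'.left)).hom c) = 0 := by
      intro l₀
      induction l₀ with
      | nil =>
        intro _ c hc
        have e0 : c = (0 : O.obj.obj (op W'.left)) := (Submodule.mem_bot _).1 hc
        exact (congrArg (fun z : O'.obj.obj (op W'.left) => (fgt.map h').app (op W') z)
          (show r' * (φ.hom.app (op W'.left)).hom c = 0 by rw [e0, map_zero, mul_zero])).trans (map_zero _)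
      | cons s l₀ ih =>
        intro hsub c hc
        obtain ⟨a, ha, b, hb, rfl⟩ := Submodule.mem_sup.1 hc
        obtain ⟨d, rfl⟩ := Ideal.mem_span_singleton'.1 ha
        refine (congrArg (fun z : O'.obj.obj (op W'.left) => (fgt.map h').app (op W') z)
          (show r' * (φ.hom.app (op W'.left)).hom ((show O.obj.obj (op W'.left) from d * s.1 W') + (show O.obj.obj (op W'.left) from b)) =
            r' * (φ.hom.app (op W'.left)).hom (d * s.1 W') + r' * (φ.hom.app (op W'.left)).hom b by
              rw [map_add, mul_add])).trans ?_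
        refine (map_add ((fgt.map h').app (op W')).hom _ _).trans ?_
        rw [ih (fun t ht => hsub t (List.mem_cons_of_mem _ ht)) b hb, add_zero]
        have h0 : DerComp.smulEnd s _ ≫ h' = 0 := by
          rw [← Category.assoc, smulEnd_comp_qπ l _ s (hsub s List.mem_cons_self), zero_comp]
        have h1 := congrArg (fun t : (ModSite.restr O X).obj (scalUnit φ) ⟶ H =>
          (fgt.map t).app (op W') (r' * (φ.hom.app (op W'.left)).hom d)) h0
        refine Eq.trans (congrArg _ ?_) h1
        refine (congrArg (r' * ·) (map_mul (φ.hom.app (op W'.left)).hom (show O.obj.obj (op W'.left) from d)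
          (show O.obj.obj (op W'.left) from s.1 W'))).trans ?_
        exact (mul_assoc _ _ _).symm.trans (mul_comm _ _)
    exact hsub l (fun _ h => h) c hc
  suffices e : fgt.map h' = fgt.map (0 : _ ⟶ H) from fgt.map_injective e
  refine PresheafOfModules.hom_ext fun W => ModuleCat.hom_ext (LinearMap.ext fun f' => ?_)
  obtain ⟨W⟩ := W
  obtain ⟨S, hS, hS'⟩ := hsurj W.left f'
  change (fgt.map h').app (op W) f' = 0
  refine eq_zero_of_locally _ (J.overEquiv_symm_mem_over W S hS) fun W' g hg => ?_
  refine (app_res (fgt.map h') g.op f').symm.trans ?_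
  obtain ⟨a, ha⟩ := hS' g.left ((Sieve.overEquiv_symm_iff _ g).1 hg)
  have h1 := hle _ ha W' (𝟙 _) 1
  rw [op_id, CategoryTheory.Functor.map_id, CommRingCat.id_apply, one_mul] at h1
  have h2 : (fgt.map h').app (op W') ((O'.obj.map g.left.op).hom f') = 0 := by
    have := (map_sub ((fgt.map h').app (op W')).hom _ _).symm.trans h1
    exact (sub_eq_zero.1 this).trans (hu W' a)
  exact h2

include hI' hinj hsurj in
/-- **`φ` is an isomorphism modulo spanning sections.** -/
theorem isIso_qMap_uScal {X : C} (l : List (DerComp.GSec (O.over X)))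
    (hl : ∀ s ∈ l, ∀ W : Over X, s.1 W ∈ I.ideal W.left) (hspan : Spans I l) :
    IsIso (qMap l ((ModSite.restr O X).map (uScal φ))) := by
  have := mono_qMap_uScal φ I I' hI' hinj l hl hspan
  have := epi_qMap_uScal φ I I' hI' hsurj l hspan
  exact isIso_of_mono_of_epi _

end Groth.Agent.DerComp18
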