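import Groth.Agent.DerComp18.KCone
import Groth.Agent.DerComp18.SpansPush
import Mathlib.Algebra.Homology.HomotopyCategory.Pretriangulated

/-!
The derived direct image preserves orthogonality to complete objects.
-/

universe u

open CategoryTheory CategoryTheory.Limits Opposite DerivedCategory Pretriangulated

attribute [local instance] HasDerivedCategory.standard

set_option autoImplicit false

namespace Groth.Agent.DerComp18

open Groth.Agent.Mod48 Groth.Agent.Mod48.LocGen

section ConeIso

variable {A : Type*} [Category A] [Abelian A]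

/-- An isomorphism of arrows gives an isomorphism of cones. -/
noncomputable def coneIso {K₁ L₁ K₂ L₂ : CochainComplex A ℤ} (φ₁ : K₁ ⟶ L₁) (φ₂ : K₂ ⟶ L₂) (a : K₁ ≅ K₂)
    (b : L₁ ≅ L₂) (h : φ₁ ≫ b.hom = a.hom ≫ φ₂) :
    CochainComplex.mappingCone φ₁ ≅ CochainComplex.mappingCone φ₂ where
  hom := CochainComplex.mappingCone.map φ₁ φ₂ a.hom b.hom h
  inv := CochainComplex.mappingCone.map φ₂ φ₁ a.inv b.inv
    (by rw [Iso.comp_inv_eq, Category.assoc, h, Iso.inv_hom_id_assoc])
  hom_inv_id := by
    rw [← CochainComplex.mappingCone.map_comp]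
    simp only [Iso.hom_inv_id]
    exact CochainComplex.mappingCone.map_id φ₁
  inv_hom_id := by
    rw [← CochainComplex.mappingCone.map_comp]
    simp only [Iso.inv_hom_id]
    exact CochainComplex.mappingCone.map_id φ₂

lemma isKInjective_cone {I I' : CochainComplex A ℤ} (φ : I ⟶ I') (hI : I.IsKInjective) (hI' : I'.IsKInjective) :
    (CochainComplex.mappingCone φ).IsKInjective := by
  refine ⟨fun {K} f hK => ⟨HomotopyCategory.homotopyOfEq _ _ ?_⟩⟩
  rw [Functor.map_zero]
  have h3 : (I⟦(1 : ℤ)⟧).IsKInjective := inferInstance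
  have hd : (HomotopyCategory.quotient A (ComplexShape.up ℤ)).map f ≫ (CochainComplex.mappingCone.triangleh φ).mor₃ = 0 := by
    have e : (HomotopyCategory.quotient A (ComplexShape.up ℤ)).map f ≫
        (HomotopyCategory.quotient A (ComplexShape.up ℤ)).map (CochainComplex.mappingCone.triangle φ).mor₃ = 0 := by
      rw [← Functor.map_comp, ← Functor.map_zero]
      exact HomotopyCategory.eq_of_homotopy _ _ (h3.nonempty_homotopy_zero _ hK).some
    exact (Category.assoc _ _ _).symm.trans ((congrArg (· ≫ _) e).trans zero_comp)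
  obtain ⟨g, hg⟩ := Triangle.coyoneda_exact₃ _ (HomotopyCategory.mappingCone_triangleh_distinguished φ)
    ((HomotopyCategory.quotient A (ComplexShape.up ℤ)).map f) hd
  obtain ⟨g', rfl⟩ : ∃ g' : K ⟶ I', (HomotopyCategory.quotient A (ComplexShape.up ℤ)).map g' = g :=
    (HomotopyCategory.quotient A (ComplexShape.up ℤ)).map_surjective g
  exact hg.trans ((congrArg (· ≫ _) ((HomotopyCategory.eq_of_homotopy _ _ (hI'.nonempty_homotopy_zero g' hK).some).trans
    (Functor.map_zero _ _ _))).trans zero_comp)

end ConeIso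

variable {C : Type u} [SmallCategory C] {J : GrothendieckTopology C} {O_C : Sheaf J CommRingCat.{u}}
  {D : Type u} [SmallCategory D] {K : GrothendieckTopology D} {O_D : Sheaf K CommRingCat.{u}}
  (f : ModSite.RMor O_C O_D)

lemma isKInjective_kc : ∀ (l : List (DerComp.GSec O_C)) (M : CC O_C), M.IsKInjective → (kc l M).IsKInjective
  | [], _, h => h
  | _ :: l, _, h => isKInjective_kc l _ (isKInjective_cone _ h h)

variable (V : D)

/-- The ring map of the localised morphism. -/
noncomputable def sharpOver :
    (O_D.over V).obj ⋙ forget₂ CommRingCat.{u} RingCat.{u} ⟶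
      (Over.post f.fn (X := V)).op ⋙ ((O_C.over (f.fn.obj V)).obj ⋙ forget₂ CommRingCat.{u} RingCat.{u}) where
  app W := f.sharpR.hom.app (op W.unop.left)
  naturality W W' g := f.sharpR.hom.naturality g.unop.left.op

/-- The localised direct image, in presheaves. -/
noncomputable def pushOverP : ModSite.Mod (O_C.over (f.fn.obj V)) ⥤ PreM (O_D.over V) :=
  fgt ⋙ PresheafOfModules.pushforward (sharpOver f V)

instance : (pushOverP f V).Additive :=
  ⟨fun {_ _ _ _} => by ext; rfl⟩

/-- It computes the restricted direct image. -/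
noncomputable def pushOverIso :
    f.push ⋙ ModSite.restr O_D V ⋙ fgt ≅ ModSite.restr O_C (f.fn.obj V) ⋙ pushOverP f V :=
  NatIso.ofComponents (fun M => Iso.refl _) (fun g => by
    ext
    rfl)

/-- A component of a global section. -/
abbrev preVal {O : Sheaf J CommRingCat.{u}} (s : DerComp.GSec O) (X : Cᵒᵖ) :
    (O.obj ⋙ forget₂ CommRingCat.{u} RingCat.{u}).obj X := s.1 X.unop

/-- Multiplication by a global section, on presheaves. -/
noncomputable def preSmul {O : Sheaf J CommRingCat.{u}} (s : DerComp.GSec O) (P : PreM O) : P ⟶ P where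
  app X := ModuleCat.ofHom
      { toFun := fun x => preVal s X • x
        map_add' := fun x y => smul_add _ x y
        map_smul' := fun r x => by
          rw [RingHom.id_apply, smul_smul, smul_smul]
          exact congrArg (fun t => t • x) (mul_comm (s.1 X.unop) (show O.obj.obj X from r)) }
  naturality {X Y} g := by
    ext x
    dsimp
    rw [PresheafOfModules.map_smul]
    congr 1
    exact (s.2 g.unop).symm

lemma preSmul_comm {O : Sheaf J CommRingCat.{u}} (s : DerComp.GSec O) {P P' : PreM O} (φ : P ⟶ P') :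
    preSmul s P ≫ φ = φ ≫ preSmul s P' := by
  ext X x
  change (φ.app X).hom (preVal s X • x) = preVal s X • (φ.app X).hom x
  exact (φ.app X).hom.map_smul _ _

lemma fgt_smulEnd {O : Sheaf J CommRingCat.{u}} (s : DerComp.GSec O) (M : ModSite.Mod O) :
    fgt.map (DerComp.smulEnd s M) = preSmul s (pre M) := by
  ext X x
  rfl

lemma pushOverP_smulEnd (s : DerComp.GSec (O_D.over V)) (M : ModSite.Mod (O_C.over (f.fn.obj V))) :
    (pushOverP f V).map (DerComp.smulEnd (pushSec f V s) M) = preSmul s ((pushOverP f V).obj M) := by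
  ext W x
  exact congrArg (fun t : ((O_C.over (f.fn.obj V)).obj ⋙ forget₂ CommRingCat.{u} RingCat.{u}).obj
      (op (Over.mk (f.fn.map W.unop.hom))) => t • (show (pre M).obj (op (Over.mk (f.fn.map W.unop.hom))) from x))
    (pushSec_val f V s W.unop)

/-- The transfer of contractibility. -/
theorem acyclic_of_transfer : ∀ (l : List (DerComp.GSec (O_D.over V))) (N : CC (O_C.over (f.fn.obj V)))
    (M : CC (O_D.over V)),
    (((pushOverP f V).mapHomologicalComplex (ComplexShape.up ℤ)).obj N ≅
      (fgt.mapHomologicalComplex (ComplexShape.up ℤ)).obj M) →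
    Homotopy (𝟙 (kc (l.map (pushSec f V)) N)) 0 → (kc l M).Acyclic
  | [], N, M, e, h => by
    let h1 : Homotopy (𝟙 (((pushOverP f V).mapHomologicalComplex (ComplexShape.up ℤ)).obj N)) 0 :=
      (Homotopy.ofEq (CategoryTheory.Functor.map_id _ _).symm).trans (((pushOverP f V).mapHomotopy h).trans
        (Homotopy.ofEq (Functor.map_zero _ _ _)))
    let h2 : Homotopy (𝟙 ((fgt.mapHomologicalComplex (ComplexShape.up ℤ)).obj M)) 0 :=
      (Homotopy.ofEq (show 𝟙 _ = e.inv ≫ 𝟙 _ ≫ e.hom by rw [Category.id_comp, e.inv_hom_id])).trans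
        (((h1.compRight e.hom).compLeft e.inv).trans (Homotopy.ofEq (by rw [zero_comp, comp_zero])))
    let h3 : Homotopy (𝟙 ((shf.mapHomologicalComplex (ComplexShape.up ℤ)).obj
        ((fgt.mapHomologicalComplex (ComplexShape.up ℤ)).obj M))) 0 :=
      (Homotopy.ofEq (CategoryTheory.Functor.map_id _ _).symm).trans ((shf.mapHomotopy h2).trans
        (Homotopy.ofEq (Functor.map_zero _ _ _)))
    exact acyclic_of_iso ((NatIso.mapHomologicalComplex shfCounitIso (ComplexShape.up ℤ)).app M ≪≫
      (Functor.mapHomologicalComplexIdIso _ (ComplexShape.up ℤ)).app M) (acyclic_of_homotopy_id_zero h3)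
  | s :: l, N, M, e, h =>
    acyclic_of_transfer l _ _
      (CochainComplex.mappingCone.mapHomologicalComplexIso _ _ ≪≫
        coneIso (((pushOverP f V).mapHomologicalComplex (ComplexShape.up ℤ)).map (smulC (pushSec f V s) N))
          ((fgt.mapHomologicalComplex (ComplexShape.up ℤ)).map (smulC s M)) e e (by
            ext n : 1
            change (pushOverP f V).map (DerComp.smulEnd (pushSec f V s) (N.X n)) ≫ e.hom.f n =
              e.hom.f n ≫ fgt.map (DerComp.smulEnd s (M.X n))
            rw [fgt_smulEnd, pushOverP_smulEnd]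
            exact preSmul_comm s (e.hom.f n)) ≪≫
        (CochainComplex.mappingCone.mapHomologicalComplexIso _ _).symm) h

variable {V}

/-- A spanned sheaf of ideals has the same orthogonal as its generators. -/
lemma perp_over_iff {E : Type u} [SmallCategory E] {L : GrothendieckTopology E} {O : Sheaf L CommRingCat.{u}}
    (I : DerComp.IdealSh O) {X : E} (l : List (DerComp.GSec (O.over X)))
    (hl : ∀ s ∈ l, ∀ W : Over X, s.1 W ∈ I.ideal W.left) (hI : Spans I l)
    (Z : DerivedCategory (ModSite.Mod (O.over X))) : Perp (I.over X) Z ↔ Perp (spanSh l) Z :=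
  forall_congr' fun T => imp_congr (isDerComp_iff_spanSh (I := I.over X) (l := l) hl (fun W g hg => hI W g hg) T) Iff.rfl

variable [SiteCmp.HasRpushD f]

/-- **`Rf_*` preserves orthogonality.** -/
theorem perp_rpushD {I : DerComp.IdealSh O_D} {I' : DerComp.IdealSh O_C} (hI : LocSpanned I)
    (hI'' : LocSpanned I') (hI' : DerComp.RIsIdealExt f I I') {Z : DerivedCategory (ModSite.Mod O_C)}
    (hZ : Perp I' Z) : Perp I ((SiteCmp.RpushD f).obj Z) := by
  obtain ⟨P, hP, ⟨eZ₀⟩⟩ := exists_Qh_iso_kInjective _ (enoughKInj_mod O_C) Z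
  let eZ : Q.obj P ≅ Z := ((quotientCompQhIso _).app P).symm ≪≫ eZ₀
  have := LocGen.isIso_unitQ (SiteCmp.RpushD f) (pushUnit f) (isIso_pushUnit f) P hP
  let eR : Q.obj ((f.push.mapHomologicalComplex (ComplexShape.up ℤ)).obj P) ≅ (SiteCmp.RpushD f).obj Z :=
    asIso (LocGen.unitQ (SiteCmp.RpushD f) (pushUnit f) P) ≪≫ (SiteCmp.RpushD f).mapIso eZ
  refine perp_of_cover I _ fun U => ?_
  obtain ⟨S, hS, hS'⟩ := hI U
  refine ⟨S, hS, fun V g hg => ?_⟩
  obtain ⟨l, hl, hspan⟩ := hS' g hg
  have hspan' := spans_push f hI' l hspan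
  have hl' : ∀ s ∈ l.map (pushSec f V), ∀ W : Over (f.fn.obj V), s.1 W ∈ I'.ideal W.left := fun s hs W => by
    obtain ⟨s', hs', rfl⟩ := List.mem_map.1 hs
    exact pushSec_mem f hI'.1 s' (hl s' hs') W
  let X := f.fn.obj V
  have := restr_additive (O := O_C) X
  have := (restr_exact (O := O_C) X).1
  have := (restr_exact (O := O_C) X).2
  have := restr_additive (O := O_D) V
  have := (restr_exact (O := O_D) V).1
  have := (restr_exact (O := O_D) V).2
  let N := ((ModSite.restr O_C X).mapHomologicalComplex (ComplexShape.up ℤ)).obj P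
  let M := ((ModSite.restr O_D V).mapHomologicalComplex (ComplexShape.up ℤ)).obj
    ((f.push.mapHomologicalComplex (ComplexShape.up ℤ)).obj P)
  have hN : Perp (I'.over X) (Q.obj N) := fun L hL =>
    (hZ.restrD hI'' X L hL).of_iso ((restrD X).mapIso eZ.symm ≪≫ (ModSite.restr O_C X).mapDerivedCategoryFactors.app P)
  rw [perp_over_iff I' _ hl' hspan', perp_spanSh_iff] at hN
  have hM : Perp (I.over V) (Q.obj M) := by
    rw [perp_over_iff I l hl hspan, perp_spanSh_iff]
    have := Groth.Agent.SiteMod.extZero_preservesFiniteLimits (O := O_C) X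
    have : PreservesFiniteColimits (ModSite.extZero O_C X) :=
      ⟨fun _ _ _ => ((ModSite.extZeroAdj O_C X).leftAdjoint_preservesColimits :
        PreservesColimitsOfSize.{0, 0} (ModSite.extZero O_C X)).preservesColimitsOfShape⟩
    have : (ModSite.extZero O_C X).PreservesHomology := Functor.preservesHomologyOfExact _
    have hKI : CochainComplex.IsKInjective N := Fib44.isKInjective_map_of_adj (ModSite.extZeroAdj O_C X) P hP
    have := isKInjective_kc (l.map (pushSec f V)) N hKI
    refine acyclic_of_transfer f V l N M ?_ (CochainComplex.IsKInjective.homotopyZero _ hN)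
    exact (NatIso.mapHomologicalComplex (pushOverIso f V) (ComplexShape.up ℤ)).symm.app P
  exact fun L hL => (hM L hL).of_iso
    ((ModSite.restr O_D V).mapDerivedCategoryFactors.symm.app _ ≪≫ (restrD V).mapIso eR)

end Groth.Agent.DerComp18
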