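import Groth.Agent.DerComp18.KillTest
import Groth.Agent.DerComp18.PushPerp
import Groth.Agent.SiteMod.RestrTensor

/-!
Modules annihilated by a sheaf of ideals, and orthogonal objects.
-/

universe u

open CategoryTheory CategoryTheory.Limits Opposite DerivedCategory MonoidalCategory

attribute [local instance] HasDerivedCategory.standard

set_option autoImplicit false

namespace Groth.Agent.DerComp18

open Groth.Agent.Mod48 Groth.Agent.Mod48.LocGen

variable {C : Type u} [SmallCategory C] {J : GrothendieckTopology C} {O : Sheaf J CommRingCat.{u}}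

/-- All sections of `I` act by zero. -/
def AnnMod (I : DerComp.IdealSh O) (M : ModSite.Mod O) : Prop :=
  ∀ (W : C) (f : O.obj.obj (op W)), f ∈ I.ideal W → ∀ x : (pre M).obj (op W), f • x = 0

lemma annMod_local (I : DerComp.IdealSh O) (M : ModSite.Mod O) {W : C} (f : O.obj.obj (op W))
    (x : (pre M).obj (op W)) (S : Sieve W) (hS : S ∈ J W)
    (h : ∀ ⦃V : C⦄ (g : V ⟶ W), S g → (O.obj.map g.op).hom f • res (pre M) g.op x = 0) : f • x = 0 :=
  eq_zero_of_locally _ hS fun V g hg => (res_smul (pre M) g.op f x).trans (h g hg)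

/-- The tensor product with an annihilated module is annihilated. -/
theorem annMod_tens (I : DerComp.IdealSh O) {M : ModSite.Mod O} (hM : AnnMod I M) (N : ModSite.Mod O) :
    AnnMod I (((ModSite.tensorBi O).obj M).obj N) := fun W f hf x => by
  have hs := ((isIso_shf_map_iff_isLocalIso (shfU (pre M ⊗ pre N))).1 (isIso_shf_map_shfU _)).surj
  refine annMod_local I _ f x _ (hs.imageSieve_mem x) fun V g hg => ?_
  obtain ⟨t, ht⟩ := hg
  have hf' := I.map_mem g hf
  generalize (O.obj.map g.op).hom f = a at hf' ⊢
  have h0 : ∀ t : TensorProduct (O.obj.obj (op V)) ((pre M).obj (op V)) ((pre N).obj (op V)), a • t = 0 := fun t => by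
    induction t using TensorProduct.induction_on with
    | zero => exact smul_zero _
    | tmul m n => rw [TensorProduct.smul_tmul', hM V a hf' m, TensorProduct.zero_tmul]
    | add t t' ht ht' => rw [smul_add, ht, ht', add_zero]
  have h1 := (((shfU (pre M ⊗ pre N)).app (op V)).hom.map_smul a t).symm.trans
    ((congrArg _ (h0 t)).trans (map_zero _))
  exact (congrArg (fun z : (pre (shf.obj (pre M ⊗ pre N))).obj (op V) => a • z) ht.symm).trans h1

variable {V : C}

/-- Extension by zero of a module killed by spanning sections is annihilated. -/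
theorem annMod_extZero (I : DerComp.IdealSh O) {l : List (DerComp.GSec (O.over V))} (hI : Spans I l)
    {N : ModSite.Mod (O.over V)} (hN : ∀ s ∈ l, DerComp.smulEnd s N = 0) :
    AnnMod I ((ModSite.extZero O V).obj N) := fun W f hf x => by
  have hspan : ∀ (T : Over V), ∀ c ∈ spanAt l T, ∀ y : (pre N).obj (op T), c • y = 0 := by
    clear hI
    intro T
    induction l with
    | nil =>
      intro c hc y
      rw [show c = 0 from (Submodule.mem_bot _).1 hc, zero_smul]
    | cons s l ih =>
      intro c hc y
      obtain ⟨a, ha, b, hb, rfl⟩ := Submodule.mem_sup.1 hc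
      obtain ⟨r, rfl⟩ := Ideal.mem_span_singleton'.1 ha
      rw [add_smul, mul_smul, ih (fun t ht => hN t (List.mem_cons_of_mem _ ht)) b hb y, add_zero]
      have : s.1 T • y = 0 := (DerComp.smulEnd_apply s N (op T) y).symm.trans
        (congrArg (fun t : N ⟶ N => (t.val.app (op T)).hom y) (hN s List.mem_cons_self))
      rw [this, smul_zero]
  have hNI : AnnMod (I.over V) N := fun T c hc y => by
    obtain ⟨S, hS, hS'⟩ := hI T c hc
    exact eq_zero_of_locally _ hS fun T' g hg => (res_smul (pre N) g.op c y).trans (hspan T' _ (hS' g hg) _)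
  let η := (ModSite.extZeroAdj O V).unit.app N
  let u : (Σ T : Over V, (pre N).obj (op T)) → Σ X : C, ((pre ((ModSite.extZero O V).obj N)).obj (op X)) :=
    fun p => ⟨p.1.left, ((fgt.map η).app (op p.1)).hom p.2⟩
  have hgen := forall_of_gen ((ModSite.extZero O V).obj N) (Y := fun p : Σ T : Over V, (pre N).obj (op T) => p.1.left)
    (fun p => (freeOnEquiv p.1.left _).symm (((fgt.map η).app (op p.1)).hom p.2))
    (fun H a b hab => by
      apply ((ModSite.extZeroAdj O V).homEquiv N H).injective
      apply fgt.map_injective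
      refine PresheafOfModules.hom_ext fun T => ModuleCat.hom_ext (LinearMap.ext fun y => ?_)
      obtain ⟨T⟩ := T
      have h := congrArg (freeOnEquiv T.left H) (hab ⟨T, y⟩)
      rw [freeOnEquiv_comp, freeOnEquiv_comp, Equiv.apply_symm_apply] at h
      rw [Adjunction.homEquiv_unit, Adjunction.homEquiv_unit]
      exact h)
    (fun X y => ∀ (X' : C) (g : X' ⟶ X) (c : O.obj.obj (op X')), c ∈ I.ideal X' → c • res (pre _) g.op y = 0)
    (fun X X' g c _ => by rw [res_zero', smul_zero])
    (fun X y y' hy hy' X' g c hc => by rw [res_add, smul_add, hy X' g c hc, hy' X' g c hc, add_zero])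
    (fun X r y hy X' g c hc => by rw [res_smul, smul_comm, hy X' g c hc, smul_zero])
    (fun X' X k y hy X'' g c hc => by rw [res_res, ← op_comp]; exact hy X'' (g ≫ k) c hc)
    (fun X S hS y hy X' g c hc => by
      refine annMod_local I _ c _ (S.pullback g) (J.pullback_stable g hS) fun X'' k hk => ?_
      have := hy (k ≫ g) hk X'' (𝟙 _) _ (I.map_mem k hc)
      rw [res_res, ← op_comp] at this ⊢
      rw [Category.id_comp] at this
      exact this)
    (fun p X' g c hc => by
      rw [Equiv.apply_symm_apply]
      let k : Over.mk (g ≫ p.1.hom) ⟶ p.1 := Over.homMk g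
      have h1 := app_res (fgt.map η) k.op p.2
      have h2 := ((fgt.map η).app (op (Over.mk (g ≫ p.1.hom)))).hom.map_smul c (res (pre N) k.op p.2)
      refine (congrArg (fun z : (pre ((ModSite.extZero O V).obj N)).obj (op X') => c • z) h1.symm).trans (h2.symm.trans ?_)
      exact (congrArg _ (hNI (Over.mk (g ≫ p.1.hom)) c hc _)).trans (map_zero _))
    W x W (𝟙 W) f hf
  exact (congrArg (fun z : (pre ((ModSite.extZero O V).obj N)).obj (op W) => f • z) (res_id _ _ x)).symm.trans hgen

/-- Maps from a complex of annihilated modules into an orthogonal object vanish. -/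
theorem noHom_of_annMod {I : DerComp.IdealSh O} (hI : LocSpanned I) (T : CC O) (hT : ∀ n, AnnMod I (T.X n))
    {K : DerivedCategory (ModSite.Mod O)} (hK : Perp I K) : NoHom (Q.obj T) K :=
  noHom_of_cover _ _ fun U => by
    obtain ⟨S, hS, hS'⟩ := hI U
    refine ⟨S, hS, fun V g hg => ?_⟩
    obtain ⟨l, hl, hspan⟩ := hS' g hg
    have := restr_additive (O := O) V
    have := (restr_exact (O := O) V).1
    have := (restr_exact (O := O) V).2
    let T' := ((ModSite.restr O V).mapHomologicalComplex (ComplexShape.up ℤ)).obj T
    let K' := Q.objPreimage ((restrD V).obj K)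
    let eK : Q.obj K' ≅ (restrD V).obj K := Q.objObjPreimageIso _
    have hK' : Perp (I.over V) (Q.obj K') := fun L hL => (hK.restrD hI V L hL).of_iso eK.symm
    rw [perp_over_iff I l hl hspan, perp_spanSh_iff] at hK'
    refine ((noHom_of_kc_acyclic l K' hK' (Q.obj T') fun s hs => ?_).of_iso
      ((ModSite.restr O V).mapDerivedCategoryFactors.app T).symm).of_iso_right eK
    rw [← Q_map_smulC, ← Functor.map_zero Q (X := T') (Y := T')]
    refine congrArg Q.map (HomologicalComplex.hom_ext _ _ fun n => ?_)
    apply fgt.map_injective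
    refine PresheafOfModules.hom_ext fun W => ModuleCat.hom_ext (LinearMap.ext fun y => ?_)
    exact hT n W.unop.left _ (hl s hs W.unop) y

end Groth.Agent.DerComp18
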