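import Groth.Agent.DerComp18.ConeSwap
import Groth.Agent.DerComp18.FlatQuot
import Groth.Agent.DerComp18.Kills
import Groth.Agent.SiteMod.RestrTensor
import Groth.Agent.SiteMod.FlatOps

/-!
Tensoring with a flat module which is trivial modulo a sheaf of ideals has orthogonal cones.
-/

universe u

open CategoryTheory CategoryTheory.Limits Opposite DerivedCategory MonoidalCategory

attribute [local instance] HasDerivedCategory.standard

set_option autoImplicit false

namespace Groth.Agent.DerComp18

open Groth.Agent.Mod48

variable {C : Type u} [SmallCategory C] {J : GrothendieckTopology C} {O : Sheaf J CommRingCat.{u}}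

/-- The iterated cone of an isomorphism. -/
noncomputable def kcIso (l : List (DerComp.GSec O)) {M N : CC O} (e : M ≅ N) : kc l M ≅ kc l N where
  hom := kcMap l e.hom
  inv := kcMap l e.inv
  hom_inv_id := (kcMap_comp l _ _).symm.trans ((congrArg (kcMap l) e.hom_inv_id).trans (kcMap_id l _))
  inv_hom_id := (kcMap_comp l _ _).symm.trans ((congrArg (kcMap l) e.inv_hom_id).trans (kcMap_id l _))

lemma cone_acyclic_of_quasiIso {M N : CC O} (f : M ⟶ N) (hf : QuasiIso f) :
    (CochainComplex.mappingCone f).Acyclic := by
  have : IsIso (Q.map f) := (isIso_Q_map_iff_quasiIso (φ := f)).2 hf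
  have hz : IsZero (Q.obj (CochainComplex.mappingCone f)) :=
    (Pretriangulated.Triangle.isZero₃_iff_isIso₁ (Q.mapTriangle.obj (CochainComplex.mappingCone.triangle f))
      ((DerivedCategory.mem_distTriang_iff _).2 ⟨_, _, _, ⟨Iso.refl _⟩⟩)).2 this
  intro i
  rw [HomologicalComplex.exactAt_iff_isZero_homology]
  exact ((homologyFunctor _ i).map_isZero hz).of_iso ((homologyFunctorFactors _ i).app _).symm

lemma smulC_cone (s : DerComp.GSec O) {M N : CC O} (f : M ⟶ N) (h : f ≫ smulC s N = smulC s M ≫ f) :
    CochainComplex.mappingCone.map f f (smulC s M) (smulC s N) h = smulC s (CochainComplex.mappingCone f) := by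
  refine HomologicalComplex.hom_ext _ _ fun n => ?_
  rw [CochainComplex.mappingCone.ext_from_iff f (n + 1) n rfl]
  refine ⟨(inl_v_map h (n + 1) n (by lia)).trans ?_, (inr_f_map h n).trans ?_⟩
  · exact DerComp.smulEnd_comm s _
  · exact DerComp.smulEnd_comm s _

/-- The iterated cone of a cone. -/
theorem kc_cone_acyclic : ∀ (l : List (DerComp.GSec O)) {M N : CC O} (f : M ⟶ N), QuasiIso (kcMap l f) →
    (kc l (CochainComplex.mappingCone f)).Acyclic
  | [], _, _, f, h => cone_acyclic_of_quasiIso f h
  | s :: l, M, N, f, h => by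
    have hc : f ≫ smulC s N = smulC s M ≫ f :=
      HomologicalComplex.hom_ext _ _ fun n => (DerComp.smulEnd_comm s (f.f n)).symm
    refine acyclic_of_iso ?_ (kc_cone_acyclic l (CochainComplex.mappingCone.map (smulC s M) (smulC s N) f f hc.symm) h)
    change kc l _ ≅ kc l (CochainComplex.mappingCone (smulC s (CochainComplex.mappingCone f)))
    rw [← smulC_cone s f hc]
    exact kcIso l (swapIso hc.symm)

section Restr

variable (V : C) {W : ModSite.Mod O} (u : ModSite.unit O ⟶ W)

/-- `psi` restricts to `psi`. -/
theorem restr_psi (X : ModSite.Mod O) :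
    (ModSite.restr O V).map ((psi u).app X) =
      (psi (O := O.over V) ((ModSite.restr O V).map u)).app ((ModSite.restr O V).obj X) ≫
        (SiteMod.restrTensApp V W X).inv := by
  apply fgt.map_injective
  refine PresheafOfModules.hom_ext fun Z => ModuleCat.hom_ext (LinearMap.ext fun x => ?_)
  obtain ⟨Z⟩ := Z
  change (fgt.map ((psi u).app X)).app (op Z.left) x =
    (fgt.map (SiteMod.restrTensApp V W X).inv).app (op Z)
      ((fgt.map ((psi (O := O.over V) ((ModSite.restr O V).map u)).app ((ModSite.restr O V).obj X))).app (op Z) x)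
  let P := pre X ⊗ pre W
  let t : P.obj (op Z.left) := tp (M := pre X) (N := pre W) x ((fgt.map u).app (op Z.left) (1 : O.obj.obj (op Z.left)))
  rw [psi_apply, psi_apply]
  refine Eq.symm ?_
  change (fgt.map (SiteMod.restrShfHom V P)).app (op Z) ((fgt.map (shf.map (SiteMod.restrPreTens V X W).inv)).app (op Z) _) = _
  refine (congrArg (fun z => (fgt.map (SiteMod.restrShfHom V P)).app (op Z) z)
    (shfMap_shfU (SiteMod.restrPreTens V X W).inv (op Z) _)).trans ?_
  change (fgt.map (shfCounitIso.hom.app ((ModSite.restr O V).obj (shf.obj P)))).app (op Z)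
    ((fgt.map (shf.map ((SiteMod.preR V).map (shfU P)))).app (op Z) ((shfU ((SiteMod.preR V).obj P)).app (op Z) t)) = _
  refine (congrArg (fun z => (fgt.map (shfCounitIso.hom.app ((ModSite.restr O V).obj (shf.obj P)))).app (op Z) z)
    (shfMap_shfU ((SiteMod.preR V).map (shfU P)) (op Z) t)).trans ?_
  exact counit_shfU ((ModSite.restr O V).obj (shf.obj P)) (op Z) _

/-- Restriction commutes with the tensor product, on complexes. -/
noncomputable def restrTensCx (W : ModSite.Mod O) (M : CC O) :
    haveI := additive_flip W
    haveI := additive_flip (O := O.over V) ((ModSite.restr O V).obj W)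
    haveI := restr_additive (O := O) V
    (((ModSite.tensorBi (O.over V)).flip.obj ((ModSite.restr O V).obj W)).mapHomologicalComplex (ComplexShape.up ℤ)).obj
        (((ModSite.restr O V).mapHomologicalComplex (ComplexShape.up ℤ)).obj M) ≅
      ((ModSite.restr O V).mapHomologicalComplex (ComplexShape.up ℤ)).obj
        ((((ModSite.tensorBi O).flip.obj W).mapHomologicalComplex (ComplexShape.up ℤ)).obj M) :=
  haveI := additive_flip W
  haveI := additive_flip (O := O.over V) ((ModSite.restr O V).obj W)
  haveI := restr_additive (O := O) V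
  HomologicalComplex.Hom.isoOfComponents (fun n => (SiteMod.restrTensApp V W (M.X n)).symm) fun i j _ => by
    change (SiteMod.restrTensApp V W (M.X i)).inv ≫ (ModSite.restr O V).map ((tR W).map (M.d i j)) =
      (tR ((ModSite.restr O V).obj W)).map ((ModSite.restr O V).map (M.d i j)) ≫ (SiteMod.restrTensApp V W (M.X j)).inv
    rw [Iso.inv_comp_eq, ← Category.assoc, Iso.eq_comp_inv]
    exact SiteMod.restrTensApp_natural V W (M.d i j)

/-- `psi` restricts to `psi`, on complexes. -/
lemma restr_psiC (M : CC O) :
    haveI := restr_additive (O := O) V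
    ((ModSite.restr O V).mapHomologicalComplex (ComplexShape.up ℤ)).map (psiC u M) =
      psiC (O := O.over V) ((ModSite.restr O V).map u) (((ModSite.restr O V).mapHomologicalComplex (ComplexShape.up ℤ)).obj M) ≫
        (restrTensCx V W M).hom :=
  HomologicalComplex.hom_ext _ _ fun n => restr_psi V u (M.X n)

lemma quasiIso_kcMap_restr (hW : ModSite.IsFlat W) (l : List (DerComp.GSec (O.over V)))
    (hu : IsIso (qMap l ((ModSite.restr O V).map u))) (M : CC O) :
    haveI := restr_additive (O := O) V
    QuasiIso (kcMap l (((ModSite.restr O V).mapHomologicalComplex (ComplexShape.up ℤ)).map (psiC u M))) := by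
  have := restr_additive (O := O) V
  let u' : ModSite.unit (O.over V) ⟶ (ModSite.restr O V).obj W := (ModSite.restr O V).map u
  let M' := ((ModSite.restr O V).mapHomologicalComplex (ComplexShape.up ℤ)).obj M
  have h1 : QuasiIso (kcMap l (psiC u' M')) := quasiIso_kcMap_psi u' (SiteMod.isFlat_restr W hW V) l hu M'
  refine (congrArg (fun t => QuasiIso (kcMap l t)) (restr_psiC V u M)).mpr ?_
  refine (congrArg (fun t => QuasiIso t) (kcMap_comp l (psiC u' M') (restrTensCx V W M).hom)).mpr ?_
  exact quasiIso_comp (φ := kcMap l (psiC u' M')) (φ' := (kcIso l (restrTensCx V W M)).hom)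

end Restr

/-- **The cones of `psi` are orthogonal to the complete objects.** -/
theorem perp_cone_psiC {W : ModSite.Mod O} (u : ModSite.unit O ⟶ W) (hW : ModSite.IsFlat W) (I : DerComp.IdealSh O)
    (hI : LocSpanned I)
    (hu : ∀ (V : C) (l : List (DerComp.GSec (O.over V))), (∀ s ∈ l, ∀ T : Over V, s.1 T ∈ I.ideal T.left) →
      Spans I l → IsIso (qMap l ((ModSite.restr O V).map u)))
    (M : CC O) : Perp I (Q.obj (CochainComplex.mappingCone (psiC u M))) := by
  refine perp_of_cover I _ fun U => ?_
  obtain ⟨S, hS, hS'⟩ := hI U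
  refine ⟨S, hS, fun V g hg => ?_⟩
  obtain ⟨l, hl, hspan⟩ := hS' g hg
  have := restr_additive (O := O) V
  have := (restr_exact (O := O) V).1
  have := (restr_exact (O := O) V).2
  have := additive_flip W
  have := additive_flip (O := O.over V) ((ModSite.restr O V).obj W)
  let G := (ModSite.restr O V).mapHomologicalComplex (ComplexShape.up ℤ)
  let u' := (ModSite.restr O V).map u
  have hkc : (kc l (G.obj (CochainComplex.mappingCone (psiC u M)))).Acyclic := by
    refine acyclic_of_iso (kcIso l (CochainComplex.mappingCone.mapHomologicalComplexIso (psiC u M) (ModSite.restr O V))).symm ?_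
    refine kc_cone_acyclic l (G.map (psiC u M)) ?_
    exact quasiIso_kcMap_restr V u hW l (hu V l hl hspan) M
  have hP : Perp (I.over V) (Q.obj (G.obj (CochainComplex.mappingCone (psiC u M)))) := by
    rw [perp_over_iff I l hl hspan, perp_spanSh_iff]
    exact hkc
  exact fun L hL => (hP L hL).of_iso ((ModSite.restr O V).mapDerivedCategoryFactors.app _).symm

end Groth.Agent.DerComp18
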