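import Groth.Agent.DerComp18.KCone

/-!
Vanishing of the iterated cone, tested on modules killed by the sections.
-/

universe u

open CategoryTheory CategoryTheory.Limits Opposite DerivedCategory Pretriangulated

attribute [local instance] HasDerivedCategory.standard

set_option autoImplicit false

namespace Groth.Agent.DerComp18

open Groth.Agent.Mod48 Groth.Agent.Mod48.LocGen

variable {C : Type u} [SmallCategory C] {J : GrothendieckTopology C} {O : Sheaf J CommRingCat.{u}}

/-- The triangle of multiplication by a global section. -/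
lemma exists_smul_triangle (s : DerComp.GSec O) (M : CC O) :
    ∃ (p : Q.obj M ⟶ Q.obj (CochainComplex.mappingCone (smulC s M)))
      (q : Q.obj (CochainComplex.mappingCone (smulC s M)) ⟶ (Q.obj M)⟦(1 : ℤ)⟧),
      Triangle.mk (s • 𝟙 (Q.obj M)) p q ∈ distinguishedTriangles := by
  let T := Q.mapTriangle.obj (CochainComplex.mappingCone.triangle (smulC s M))
  have hT : T ∈ distinguishedTriangles :=
    (DerivedCategory.mem_distTriang_iff _).2 ⟨M, M, smulC s M, ⟨Iso.refl _⟩⟩
  have h0 : Triangle.mk (Q.map (smulC s M)) T.mor₂ T.mor₃ ∈ distinguishedTriangles := hT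
  rw [Q_map_smulC] at h0
  exact ⟨_, _, h0⟩

/-- A complex whose iterated cone vanishes receives no maps from objects killed by the sections. -/
theorem noHom_of_kc_acyclic : ∀ (l : List (DerComp.GSec O)) (M : CC O), (kc l M).Acyclic →
    ∀ A : DerivedCategory (ModSite.Mod O), (∀ s ∈ l, s • 𝟙 A = 0) → NoHom A (Q.obj M)
  | [], M, h, A, _ => fun n => by
    have hz : IsZero (Q.obj M) := by
      rw [IsZero.iff_id_eq_zero, ← CategoryTheory.Functor.map_id]
      have : QuasiIso (0 : M ⟶ M) := by
        constructor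
        intro i
        rw [quasiIsoAt_iff_isIso_homologyMap]
        exact ⟨0, (isZero_homology_of_acyclic h i).eq_of_src _ _, (isZero_homology_of_acyclic h i).eq_of_src _ _⟩
      have hi : IsIso (Q.map (0 : M ⟶ M)) := (isIso_Q_map_iff_quasiIso (ModSite.Mod O) _).2 this
      rw [Functor.map_zero] at hi
      obtain ⟨g, hg, -⟩ := hi.out
      rw [CategoryTheory.Functor.map_id, ← hg, zero_comp]
    exact ⟨fun a b => ((CategoryTheory.shiftFunctor _ n).map_isZero hz).eq_of_tgt a b⟩
  | s :: l, M, h, A, hA => fun n => by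
    refine subsingleton_of_forall_eq 0 fun x => ?_
    obtain ⟨p, q, hT⟩ := exists_smul_triangle s M
    have hN := noHom_of_kc_acyclic l _ h A (fun t ht => hA t (List.mem_cons_of_mem _ ht)) n
    obtain ⟨y, hy⟩ : ∃ y : A ⟶ (Q.obj M)⟦n⟧, x = y ≫ (n.negOnePow • (s • 𝟙 (Q.obj M))⟦n⟧') :=
      Triangle.coyoneda_exact₂ _ (Triangle.shift_distinguished _ hT n) x (hN.elim _ _)
    have hs : (s • 𝟙 A) ≫ y = 0 := by rw [hA s List.mem_cons_self, zero_comp]
    rw [Linear.smul_comp, Category.id_comp] at hs
    refine hy.trans ?_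
    rw [Functor.map_smul, CategoryTheory.Functor.map_id, Linear.comp_units_smul, Linear.comp_smul]
    exact (congrArg (n.negOnePow • ·) ((congrArg (s • ·) (Category.comp_id y)).trans hs)).trans (smul_zero _)

/-- No maps into a cone of a multiplication which is bijective on maps. -/
lemma noHom_cone_of_bijective {A X N : DerivedCategory (ModSite.Mod O)} {s : DerComp.GSec O} {p : X ⟶ N}
    {q : N ⟶ X⟦(1 : ℤ)⟧} (hT : Triangle.mk (s • 𝟙 X) p q ∈ distinguishedTriangles)
    (hb : ∀ n : ℤ, Function.Bijective fun x : A ⟶ X⟦n⟧ => s • x) : NoHom A N := fun n => by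
  refine subsingleton_of_forall_eq 0 fun x => ?_
  have hq : q ≫ (s • 𝟙 X)⟦(1 : ℤ)⟧' = 0 := comp_distTriang_mor_zero₃₁ _ hT
  rw [Functor.map_smul, CategoryTheory.Functor.map_id, Linear.comp_smul] at hq
  have hq' : s • q = 0 := (congrArg (s • ·) (Category.comp_id q)).symm.trans hq
  let e := (shiftFunctorAdd' (DerivedCategory (ModSite.Mod O)) (1 : ℤ) n (1 + n) rfl).app X
  have h1 : x ≫ q⟦n⟧' = 0 := by
    rw [← cancel_mono e.inv, zero_comp]
    refine (hb (1 + n)).1 ?_
    change s • ((x ≫ q⟦n⟧') ≫ e.inv) = s • (0 : A ⟶ _)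
    rw [smul_zero, ← Linear.smul_comp, ← Linear.comp_smul, ← Functor.map_smul, hq', Functor.map_zero, comp_zero,
      zero_comp]
  have h2 : x ≫ ((Triangle.shiftFunctor _ n).obj (Triangle.mk (s • 𝟙 X) p q)).mor₃ = 0 := by
    change x ≫ (n.negOnePow • (q⟦n⟧' ≫ (shiftFunctorComm _ (1 : ℤ) n).hom.app _)) = 0
    rw [Linear.comp_units_smul, ← Category.assoc, h1, zero_comp, smul_zero]
  obtain ⟨y, hy⟩ : ∃ y : A ⟶ X⟦n⟧, x = y ≫ (n.negOnePow • p⟦n⟧') :=
    Triangle.coyoneda_exact₃ _ (Triangle.shift_distinguished _ hT n) x h2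
  obtain ⟨z, hz⟩ := (hb n).2 y
  have hp : (s • 𝟙 X) ≫ p = 0 := comp_distTriang_mor_zero₁₂ _ hT
  rw [Linear.smul_comp, Category.id_comp] at hp
  refine hy.trans ?_
  have hz' : s • z = y := hz
  rw [← hz', Linear.comp_units_smul, Linear.smul_comp, ← Linear.comp_smul, ← Functor.map_smul, hp, Functor.map_zero,
    comp_zero, smul_zero]

/-- A complex receiving no maps from the generators is acyclic. -/
lemma acyclic_of_noHom_freeOn (M : CC O)
    (h : ∀ W : C, NoHom ((singleFunctor (ModSite.Mod O) 0).obj (ModSite.freeOn O W)) (Q.obj M)) : M.Acyclic := by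
  obtain ⟨I, φ, hI, hφ, -, -⟩ := CohDer42.exists_kinjective_resolution M
  refine acyclic_of_isZero_homology fun m => IsZero.of_iso ((modGen O).detect fun W a => ?_)
    (@asIso _ _ _ _ (HomologicalComplex.homologyMap φ m) ((quasiIsoAt_iff_isIso_homologyMap _ _).1 (hφ.quasiIsoAt m)))
  have : Epi (I.homologyπ m) := inferInstance
  obtain ⟨S, hS, hS'⟩ := (modGen O).lift (I.homologyπ m) a
  refine (modGen O).sep a S hS fun V g hg => ?_
  obtain ⟨b, hb⟩ := hS' g hg
  have : IsIso (Q.map φ) := (isIso_Q_map_iff_quasiIso (ModSite.Mod O) φ).2 hφ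
  have hs : Subsingleton (Pd (ModSite.freeOn O V) m ⟶ Q.obj I) :=
    (Equiv.subsingleton_congr ((degEquiv (ModSite.freeOn O V) (Q.obj M) m).toEquiv.trans (asIso (Q.map φ)).homToEquiv)).1
      (h V m)
  obtain ⟨w, hw⟩ := (secHom_of_isKInjective (ModSite.freeOn O V) I m).2 b (Subsingleton.elim _ _)
  have e : b = w ≫ I.toCycles (m - 1) m := (cancel_mono (I.iCycles m)).1
    (hw.symm.trans ((congrArg (w ≫ ·) (I.toCycles_i (m - 1) m)).symm.trans (Category.assoc _ _ _).symm))
  exact hb.symm.trans ((congrArg (· ≫ I.homologyπ m) e).trans ((Category.assoc _ _ _).trans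
    ((congrArg (w ≫ ·) (I.toCycles_comp_homologyπ (m - 1) m)).trans comp_zero)))

/-- The converse, with modules. -/
theorem kc_acyclic_of_modules : ∀ (l : List (DerComp.GSec O)) (M : CC O),
    (∀ N : ModSite.Mod O, (∀ s ∈ l, DerComp.smulEnd s N = 0) →
      NoHom ((singleFunctor (ModSite.Mod O) 0).obj N) (Q.obj M)) → (kc l M).Acyclic
  | [], M, h => by
    exact acyclic_of_noHom_freeOn M fun W => h _ fun s hs => absurd hs List.not_mem_nil
  | s :: l, M, h => by
    obtain ⟨p, q, hT⟩ := exists_smul_triangle s M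
    refine kc_acyclic_of_modules l _ fun N hN => ?_
    let f := DerComp.smulEnd s N
    let S := (singleFunctor (ModSite.Mod O) 0)
    have hk : ∀ t ∈ s :: l, DerComp.smulEnd t (kernel f) = 0 := fun t ht => by
      rw [← cancel_mono (kernel.ι f), zero_comp, DerComp.smulEnd_comm]
      rcases List.mem_cons.1 ht with rfl | ht'
      · exact kernel.condition f
      · rw [hN t ht', comp_zero]
    have hc : ∀ t ∈ s :: l, DerComp.smulEnd t (cokernel f) = 0 := fun t ht => by
      rw [← cancel_epi (cokernel.π f), comp_zero, ← DerComp.smulEnd_comm]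
      rcases List.mem_cons.1 ht with rfl | ht'
      · exact cokernel.condition f
      · rw [hN t ht', zero_comp]
    have hb : ∀ n : ℤ, Function.Bijective fun x : S.obj N ⟶ (Q.obj M)⟦n⟧ => s • x := fun n => by
      have := precomp_bijective_of_ker_coker f (Q.obj M) (h _ hk) (h _ hc) n
      convert this using 1
      funext x
      have e : S.map f = s • 𝟙 (S.obj N) := by
        have : f = s • 𝟙 N := ((DerComp.smul_def s (𝟙 N)).trans (Category.comp_id _)).symm
        rw [this, Functor.map_smul, CategoryTheory.Functor.map_id]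
      rw [e, Linear.smul_comp, Category.id_comp]
    exact noHom_cone_of_bijective hT hb

end Groth.Agent.DerComp18
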