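import Groth.Agent.DerComp18.AwayHom
import Groth.Agent.DerComp18.KillTest
import Mathlib.Algebra.Homology.ShortComplex.PreservesHomology

/-!
A flat module which agrees with the structure sheaf modulo finitely many sections agrees with it on the iterated
cones of these sections.
-/

universe u

open CategoryTheory CategoryTheory.Limits Opposite DerivedCategory Pretriangulated MonoidalCategory

attribute [local instance] HasDerivedCategory.standard

set_option autoImplicit false

namespace Groth.Agent.DerComp18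

open Groth.Agent.Mod48

variable {C : Type u} [SmallCategory C] {J : GrothendieckTopology C} {O : Sheaf J CommRingCat.{u}}

lemma smulEnd_eq_zero_of_mono (s : DerComp.GSec O) {X Y : ModSite.Mod O} (f : X ⟶ Y) [Mono f]
    (h : DerComp.smulEnd s Y = 0) : DerComp.smulEnd s X = 0 := by
  rw [← cancel_mono f, DerComp.smulEnd_comm, h, comp_zero, zero_comp]

lemma smulEnd_eq_zero_of_epi (s : DerComp.GSec O) {X Y : ModSite.Mod O} (f : X ⟶ Y) [Epi f]
    (h : DerComp.smulEnd s X = 0) : DerComp.smulEnd s Y = 0 := by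
  rw [← cancel_epi f, ← DerComp.smulEnd_comm, h, comp_zero, zero_comp]

section Mod

/-- The quotient of a module by the sections of a list. -/
noncomputable def qL : List (DerComp.GSec O) → ModSite.Mod O → ModSite.Mod O
  | [], Y => Y
  | s :: l, Y => cokernel (DerComp.smulEnd s (qL l Y))

/-- The projection. -/
noncomputable def qπ : ∀ (l : List (DerComp.GSec O)) (Y : ModSite.Mod O), Y ⟶ qL l Y
  | [], Y => 𝟙 Y
  | s :: l, Y => qπ l Y ≫ cokernel.π (DerComp.smulEnd s (qL l Y))

/-- The functoriality. -/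
noncomputable def qMap : ∀ (l : List (DerComp.GSec O)) {Y Z : ModSite.Mod O}, (Y ⟶ Z) → (qL l Y ⟶ qL l Z)
  | [], _, _, g => g
  | s :: l, _, _, g => cokernel.map _ _ (qMap l g) (qMap l g) (DerComp.smulEnd_comm s (qMap l g))

lemma qπ_natural : ∀ (l : List (DerComp.GSec O)) {Y Z : ModSite.Mod O} (g : Y ⟶ Z),
    qπ l Y ≫ qMap l g = g ≫ qπ l Z
  | [], _, _, g => (Category.id_comp g).trans (Category.comp_id g).symm
  | s :: l, _, _, g => (Category.assoc _ _ _).trans ((congrArg (qπ l _ ≫ ·) (cokernel.π_desc _ _ _)).trans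
      ((Category.assoc _ _ _).symm.trans ((congrArg (· ≫ _) (qπ_natural l g)).trans (Category.assoc _ _ _))))

lemma tensorBi_map_app_smulEnd (s : DerComp.GSec O) (X Y : ModSite.Mod O) :
    ((ModSite.tensorBi O).map (DerComp.smulEnd s X)).app Y =
      DerComp.smulEnd s (((ModSite.tensorBi O).obj X).obj Y) := by
  apply (shfHomEquiv _ _).injective
  rw [shfHomEquiv, Adjunction.homEquiv_unit, Adjunction.homEquiv_unit]
  refine (shfU_naturality (fgt.map (DerComp.smulEnd s X) ▷ pre Y)).symm.trans ?_
  refine Eq.trans ?_ (congrArg (shfU (pre X ⊗ pre Y) ≫ ·) (fgt_smulEnd s _).symm)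
  refine Eq.trans ?_ (preSmul_comm s (shfU (pre X ⊗ pre Y)))
  refine congrArg (· ≫ shfU (pre X ⊗ pre Y)) ?_
  rw [fgt_smulEnd]
  exact tensor_hom_ext fun W m n => tp_smul_left (preVal s W) m n

lemma tensorBi_smulEnd_eq_zero (s : DerComp.GSec O) {X : ModSite.Mod O} (hX : DerComp.smulEnd s X = 0)
    (Y : ModSite.Mod O) : DerComp.smulEnd s (((ModSite.tensorBi O).obj X).obj Y) = 0 := by
  rw [← tensorBi_map_app_smulEnd, hX]
  exact congrArg (fun t : ((ModSite.tensorBi O).obj X ⟶ (ModSite.tensorBi O).obj X) => t.app Y)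
    ((ModSite.tensorBi O).map_zero X X)

/-- Tensoring with a module killed by the sections does not see them. -/
lemma isIso_tensor_qπ {X : ModSite.Mod O} : ∀ (l : List (DerComp.GSec O)),
    (∀ s ∈ l, DerComp.smulEnd s X = 0) → ∀ Y : ModSite.Mod O, IsIso (((ModSite.tensorBi O).obj X).map (qπ l Y))
  | [], _, Y => ((((ModSite.tensorBi O).obj X).mapIso (Iso.refl Y)).isIso_hom)
  | s :: l, h, Y => by
    have h1 := isIso_tensor_qπ l (fun t ht => h t (List.mem_cons_of_mem _ ht)) Y
    let G := (ModSite.tensorBi O).obj X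
    have : PreservesColimitsOfSize.{u, u} (tL X) := ⟨inferInstance⟩
    have := preservesColimitsOfSize_shrink.{0, u, 0, u} (tL X)
    have : PreservesColimitsOfShape WalkingParallelPair G := preservesColimitsOfShape_of_natIso (tLIso X).symm
    have hz : G.map (DerComp.smulEnd s (qL l Y)) = 0 :=
      (tensorBi_map_smulEnd s X _).trans (tensorBi_smulEnd_eq_zero s (h s List.mem_cons_self) _)
    have : IsIso (G.map (cokernel.π (DerComp.smulEnd s (qL l Y)))) := by
      rw [← π_comp_cokernelComparison (DerComp.smulEnd s (qL l Y)) G]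
      have : IsIso (cokernel.π (G.map (DerComp.smulEnd s (qL l Y)))) := by
        have e := (CokernelCofork.IsColimit.isIso_π _ (cokernelIsCokernel (G.map (DerComp.smulEnd s (qL l Y)))) hz)
        exact e
      infer_instance
    exact (congrArg (fun t => IsIso t) (G.map_comp (qπ l Y) (cokernel.π (DerComp.smulEnd s (qL l Y))))).mpr
      (IsIso.comp_isIso' h1 this)

variable {W : ModSite.Mod O} (u : ModSite.unit O ⟶ W)

/-- `X ⟶ X ⊗ W`. -/
noncomputable def psi : 𝟭 (ModSite.Mod O) ⟶ (ModSite.tensorBi O).flip.obj W :=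
  unitR.inv ≫ (ModSite.tensorBi O).flip.map u

/-- On modules killed by the sections. -/
lemma isIso_psi_of_killed (l : List (DerComp.GSec O)) (hu : IsIso (qMap l u)) {X : ModSite.Mod O}
    (hX : ∀ s ∈ l, DerComp.smulEnd s X = 0) : IsIso ((psi u).app X) := by
  have h1 := isIso_tensor_qπ l hX (ModSite.unit O)
  have h2 := isIso_tensor_qπ l hX W
  have : IsIso (((ModSite.tensorBi O).obj X).map u) := by
    have e := congrArg (((ModSite.tensorBi O).obj X).map) (qπ_natural l u)
    simp only [Functor.map_comp] at e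
    exact IsIso.of_isIso_fac_right e.symm
  change IsIso (unitR.inv.app X ≫ ((ModSite.tensorBi O).obj X).map u)
  infer_instance

variable (hW : ModSite.IsFlat W)

include hW in
/-- On modules on which the sections are nilpotent. -/
lemma isIso_psi_of_nilpotent : ∀ (l q : List (DerComp.GSec O)),
    (∀ X : ModSite.Mod O, (∀ s ∈ l, DerComp.smulEnd s X = 0) → (∀ s ∈ q, DerComp.smulEnd s X = 0) →
      IsIso ((psi u).app X)) →
    ∀ X : ModSite.Mod O, (∀ s ∈ l, ∃ k, DerComp.smulEnd (s ^ k) X = 0) → (∀ s ∈ q, DerComp.smulEnd s X = 0) →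
      IsIso ((psi u).app X)
  | [], q, h, X, _, hq => h X (fun s hs => absurd hs List.not_mem_nil) hq
  | s :: l, q, h, X, hl, hq => by
    obtain ⟨k, hk⟩ := hl s List.mem_cons_self
    have hl' : ∀ t ∈ l, ∃ k, DerComp.smulEnd (t ^ k) X = 0 := fun t ht => hl t (List.mem_cons_of_mem _ ht)
    clear hl
    have := hW.1
    have := hW.2
    have : ((ModSite.tensorBi O).flip.obj W).PreservesZeroMorphisms :=
      ⟨fun A B => congrArg (fun t : ((ModSite.tensorBi O).obj A ⟶ (ModSite.tensorBi O).obj B) => t.app W)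
        ((ModSite.tensorBi O).map_zero A B)⟩
    induction k generalizing X with
    | zero =>
      rw [pow_zero, DerComp.smulEnd_one] at hk
      have hz : IsZero X := (IsZero.iff_id_eq_zero X).2 hk
      exact ⟨0, hz.eq_of_src _ _, (Functor.map_isZero ((ModSite.tensorBi O).flip.obj W) hz).eq_of_src _ _⟩
    | succ k ih =>
      let f := DerComp.smulEnd s X
      let S : ShortComplex (ModSite.Mod O) := ShortComplex.mk (kernel.ι f) (Abelian.factorThruImage f) (by
        rw [← cancel_mono (Abelian.image.ι f), Category.assoc, Abelian.image.fac, kernel.condition, zero_comp])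
      have hS : S.ShortExact :=
        { exact := ShortComplex.exact_of_f_is_kernel _ (isKernelOfComp (Abelian.image.ι f) _ (kernelIsKernel f) _
            (Abelian.image.fac f)) }
      have h1 : IsIso ((psi u).app S.X₁) := by
        refine isIso_psi_of_nilpotent l (s :: q) (fun Z hZl hZq => h Z (fun t ht => ?_) fun t ht =>
          hZq t (List.mem_cons_of_mem _ ht)) _ (fun t ht => ?_) fun t ht => ?_
        · rcases List.mem_cons.1 ht with rfl | ht'
          · exact hZq _ List.mem_cons_self
          · exact hZl t ht'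
        · obtain ⟨j, hj⟩ := hl' t ht
          exact ⟨j, smulEnd_eq_zero_of_mono _ (kernel.ι f) hj⟩
        · rcases List.mem_cons.1 ht with rfl | ht'
          · change DerComp.smulEnd t (kernel f) = 0
            rw [← cancel_mono (kernel.ι f), DerComp.smulEnd_comm, zero_comp]
            exact kernel.condition f
          · exact smulEnd_eq_zero_of_mono _ (kernel.ι f) (hq t ht')
      have h3 : IsIso ((psi u).app S.X₃) := by
        refine ih _ (fun t ht => smulEnd_eq_zero_of_epi t S.g (hq t ht)) ?_ fun t ht => ?_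
        · refine (cancel_epi S.g).1 ?_
          refine (cancel_mono (Abelian.image.ι f)).1 ?_
          rw [comp_zero, zero_comp, Category.assoc, DerComp.smulEnd_comm, ← Category.assoc]
          change (Abelian.factorThruImage f ≫ Abelian.image.ι f) ≫ DerComp.smulEnd (s ^ k) X = 0
          rw [Abelian.image.fac, DerComp.smulEnd_comp, ← pow_succ', hk]
        · obtain ⟨j, hj⟩ := hl' t ht
          exact ⟨j, smulEnd_eq_zero_of_epi _ S.g hj⟩
      let τ : S.map (𝟭 (ModSite.Mod O)) ⟶ S.map ((ModSite.tensorBi O).flip.obj W) := S.mapNatTrans (psi u)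
      have : IsIso τ.τ₁ := h1
      have : IsIso τ.τ₃ := h3
      exact ShortComplex.isIso₂_of_shortExact_of_isIso₁₃ τ (hS.map_of_exact (𝟭 _))
        (hS.map_of_exact ((ModSite.tensorBi O).flip.obj W))

end Mod

section Cx

lemma homologyMap_smulC (t : DerComp.GSec O) (M : CC O) (i : ℤ) :
    HomologicalComplex.homologyMap (smulC t M) i = DerComp.smulEnd t (M.homology i) := by
  rw [← cancel_epi (M.homologyπ i), HomologicalComplex.homologyπ_naturality, ← DerComp.smulEnd_comm]
  refine congrArg (· ≫ M.homologyπ i) ?_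
  rw [← cancel_mono (M.iCycles i), HomologicalComplex.cyclesMap_i, DerComp.smulEnd_comm]
  rfl

lemma smulEnd_homology_eq_zero (t : DerComp.GSec O) (M : CC O) (h : t • 𝟙 (Q.obj M) = 0) (i : ℤ) :
    DerComp.smulEnd t (M.homology i) = 0 := by
  rw [← homologyMap_smulC]
  have h1 : (homologyFunctor (ModSite.Mod O) i).map (Q.map (smulC t M)) ≫ (homologyFunctorFactors (ModSite.Mod O) i).hom.app M =
      (homologyFunctorFactors (ModSite.Mod O) i).hom.app M ≫ HomologicalComplex.homologyMap (smulC t M) i :=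
    (homologyFunctorFactors (ModSite.Mod O) i).hom.naturality (smulC t M)
  rw [Q_map_smulC, h, Functor.map_zero, zero_comp] at h1
  exact (cancel_epi ((homologyFunctorFactors (ModSite.Mod O) i).hom.app M)).1 (h1.symm.trans comp_zero.symm)

lemma killed_cone_of_killed {X N : DerivedCategory (ModSite.Mod O)} {t : DerComp.GSec O} (ht : t • 𝟙 X = 0)
    {r : X ⟶ X} {a : X ⟶ N} {b : N ⟶ X⟦(1 : ℤ)⟧} (hT : Triangle.mk r a b ∈ distinguishedTriangles) :
    (t * t) • 𝟙 N = 0 := by
  obtain ⟨c, hc⟩ := Triangle.yoneda_exact₃ _ hT (t • 𝟙 N) (by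
    change a ≫ (t • 𝟙 N) = 0
    rw [Linear.comp_smul, Category.comp_id]
    have h1 : (t • 𝟙 X) ≫ a = 0 := by rw [ht, zero_comp]
    rwa [Linear.smul_comp, Category.id_comp] at h1)
  have h2 : b ≫ (t • 𝟙 X)⟦(1 : ℤ)⟧' = 0 := by rw [ht, Functor.map_zero, comp_zero]
  rw [Functor.map_smul, CategoryTheory.Functor.map_id, Linear.comp_smul] at h2
  have h2' : t • b = 0 := (congrArg (t • ·) (Category.comp_id b)).symm.trans h2
  rw [mul_smul]
  refine (congrArg (t • ·) hc).trans ?_
  change t • (b ≫ c) = 0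
  rw [← Linear.smul_comp, h2', zero_comp]

lemma exists_pow_killed_kc (t : DerComp.GSec O) : ∀ (l : List (DerComp.GSec O)) (M : CC O),
    (∃ k, (t ^ k) • 𝟙 (Q.obj M) = 0) → ∃ k, (t ^ k) • 𝟙 (Q.obj (kc l M)) = 0
  | [], _, h => h
  | s :: l, M, ⟨k, hk⟩ => by
    obtain ⟨p, q, hT⟩ := exists_smul_triangle s M
    exact exists_pow_killed_kc t l _ ⟨k + k, by rw [pow_add]; exact killed_cone_of_killed hk hT⟩

lemma exists_pow_kc : ∀ (l : List (DerComp.GSec O)) (M : CC O), ∀ t ∈ l, ∃ k, (t ^ k) • 𝟙 (Q.obj (kc l M)) = 0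
  | [], _, _, ht => absurd ht List.not_mem_nil
  | s :: l, M, t, ht => by
    rcases List.mem_cons.1 ht with rfl | ht'
    · obtain ⟨p, q, hT⟩ := exists_smul_triangle t M
      exact exists_pow_killed_kc t l _ ⟨2, by rw [pow_two]; exact killed_cone t hT⟩
    · exact exists_pow_kc l _ t ht'

/-- The functoriality of the iterated cone. -/
noncomputable def kcMap : ∀ (l : List (DerComp.GSec O)) {M N : CC O}, (M ⟶ N) → (kc l M ⟶ kc l N)
  | [], _, _, g => g
  | s :: l, _, _, g => kcMap l (CochainComplex.mappingCone.map _ _ g g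
      (HomologicalComplex.hom_ext _ _ fun n => DerComp.smulEnd_comm s (g.f n)))

lemma kcMap_comp : ∀ (l : List (DerComp.GSec O)) {M N P : CC O} (g : M ⟶ N) (h : N ⟶ P),
    kcMap l (g ≫ h) = kcMap l g ≫ kcMap l h
  | [], _, _, _, g, h => rfl
  | s :: l, _, _, _, g, h =>
    (congrArg (kcMap l) (CochainComplex.mappingCone.map_comp _ _ _ _ _ _ _ _ _)).trans (kcMap_comp l _ _)

lemma kcMap_id : ∀ (l : List (DerComp.GSec O)) (M : CC O), kcMap l (𝟙 M) = 𝟙 (kc l M)
  | [], _ => rfl
  | s :: l, M => (congrArg (kcMap l) (CochainComplex.mappingCone.map_id (smulC s M))).trans (kcMap_id l _)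

variable {W : ModSite.Mod O} (u : ModSite.unit O ⟶ W)

set_option backward.isDefEq.respectTransparency false in
@[reassoc]
lemma map_inl_v_iso {A B : Type*} [Category A] [Category B] [Preadditive A] [Preadditive B] [HasBinaryBiproducts A]
    [HasBinaryBiproducts B] (H : A ⥤ B) [H.Additive] {K L : CochainComplex A ℤ} (φ : K ⟶ L) (n : ℤ) :
    H.map ((CochainComplex.mappingCone.inl φ).v (n + 1) n (by lia)) ≫
      (CochainComplex.mappingCone.mapHomologicalComplexIso φ H).hom.f n =
      (CochainComplex.mappingCone.inl ((H.mapHomologicalComplex (ComplexShape.up ℤ)).map φ)).v (n + 1) n (by lia) := by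
  change H.map _ ≫ (H.map ((CochainComplex.mappingCone.fst φ).1.v n (n + 1) rfl) ≫ _ +
    H.map ((CochainComplex.mappingCone.snd φ).v n n (add_zero n)) ≫ _) = _
  simp only [Preadditive.comp_add, ← Category.assoc, ← H.map_comp, CochainComplex.mappingCone.inl_v_fst_v,
    CochainComplex.mappingCone.inl_v_snd_v, H.map_id, H.map_zero, zero_comp, add_zero, Category.id_comp]

set_option backward.isDefEq.respectTransparency false in
@[reassoc]
lemma map_inr_f_iso {A B : Type*} [Category A] [Category B] [Preadditive A] [Preadditive B] [HasBinaryBiproducts A]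
    [HasBinaryBiproducts B] (H : A ⥤ B) [H.Additive] {K L : CochainComplex A ℤ} (φ : K ⟶ L) (n : ℤ) :
    H.map ((CochainComplex.mappingCone.inr φ).f n) ≫
      (CochainComplex.mappingCone.mapHomologicalComplexIso φ H).hom.f n =
      (CochainComplex.mappingCone.inr ((H.mapHomologicalComplex (ComplexShape.up ℤ)).map φ)).f n := by
  change H.map _ ≫ (H.map ((CochainComplex.mappingCone.fst φ).1.v n (n + 1) rfl) ≫ _ +
    H.map ((CochainComplex.mappingCone.snd φ).v n n (add_zero n)) ≫ _) = _
  simp only [Preadditive.comp_add, ← Category.assoc, ← H.map_comp, CochainComplex.mappingCone.inr_f_fst_v,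
    CochainComplex.mappingCone.inr_f_snd_v, H.map_id, H.map_zero, zero_comp, zero_add, Category.id_comp]

@[reassoc]
lemma inl_v_coneMap {A : Type*} [Category A] [Preadditive A] [HasBinaryBiproducts A] {K₁ L₁ K₂ L₂ : CochainComplex A ℤ}
    (φ₁ : K₁ ⟶ L₁) (φ₂ : K₂ ⟶ L₂) (a : K₁ ⟶ K₂) (b : L₁ ⟶ L₂) (h : φ₁ ≫ b = a ≫ φ₂) (n : ℤ) :
    (CochainComplex.mappingCone.inl φ₁).v (n + 1) n (by lia) ≫ (CochainComplex.mappingCone.map φ₁ φ₂ a b h).f n =
      a.f (n + 1) ≫ (CochainComplex.mappingCone.inl φ₂).v (n + 1) n (by lia) := by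
  simp [CochainComplex.mappingCone.map]

@[reassoc]
lemma inr_f_coneMap {A : Type*} [Category A] [Preadditive A] [HasBinaryBiproducts A] {K₁ L₁ K₂ L₂ : CochainComplex A ℤ}
    (φ₁ : K₁ ⟶ L₁) (φ₂ : K₂ ⟶ L₂) (a : K₁ ⟶ K₂) (b : L₁ ⟶ L₂) (h : φ₁ ≫ b = a ≫ φ₂) (n : ℤ) :
    (CochainComplex.mappingCone.inr φ₁).f n ≫ (CochainComplex.mappingCone.map φ₁ φ₂ a b h).f n =
      b.f n ≫ (CochainComplex.mappingCone.inr φ₂).f n := by
  simp [CochainComplex.mappingCone.map]

lemma additive_flip (W : ModSite.Mod O) : ((ModSite.tensorBi O).flip.obj W).Additive :=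
  ⟨fun {A B f g} => congrArg (fun t : ((ModSite.tensorBi O).obj A ⟶ (ModSite.tensorBi O).obj B) => t.app W)
    ((ModSite.tensorBi O).map_add)⟩

/-- `psi` on complexes. -/
noncomputable def psiC (M : CC O) :
    M ⟶ (haveI := additive_flip W; (((ModSite.tensorBi O).flip.obj W).mapHomologicalComplex (ComplexShape.up ℤ)).obj M) where
  f n := (psi u).app (M.X n)
  comm' i j _ := ((psi u).naturality (M.d i j)).symm

lemma exists_kc_iso : ∀ (l : List (DerComp.GSec O)) (M : CC O),
    haveI := additive_flip W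
    ∃ e : (((ModSite.tensorBi O).flip.obj W).mapHomologicalComplex (ComplexShape.up ℤ)).obj (kc l M) ≅
        kc l ((((ModSite.tensorBi O).flip.obj W).mapHomologicalComplex (ComplexShape.up ℤ)).obj M),
      psiC u (kc l M) ≫ e.hom = kcMap l (psiC u M)
  | [], M => ⟨Iso.refl _, Category.comp_id _⟩
  | s :: l, M => by
    have := additive_flip W
    let F := ((ModSite.tensorBi O).flip.obj W).mapHomologicalComplex (ComplexShape.up ℤ)
    obtain ⟨e, he⟩ := exists_kc_iso l (CochainComplex.mappingCone (smulC s M))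
    have hs : F.map (smulC s M) ≫ (Iso.refl (F.obj M)).hom = (Iso.refl (F.obj M)).hom ≫ smulC s (F.obj M) :=
      HomologicalComplex.hom_ext _ _ fun n => by
        change ((ModSite.tensorBi O).map (DerComp.smulEnd s (M.X n))).app W ≫ 𝟙 _ = 𝟙 _ ≫ DerComp.smulEnd s _
        rw [Category.comp_id, Category.id_comp]
        exact tensorBi_map_app_smulEnd s _ _
    let i : F.obj (CochainComplex.mappingCone (smulC s M)) ≅ CochainComplex.mappingCone (smulC s (F.obj M)) :=
      CochainComplex.mappingCone.mapHomologicalComplexIso _ _ ≪≫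
        coneIso (F.map (smulC s M)) (smulC s (F.obj M)) (Iso.refl _) (Iso.refl _) hs
    refine ⟨e ≪≫ ⟨kcMap l i.hom, kcMap l i.inv, (kcMap_comp l _ _).symm.trans ((congrArg (kcMap l) i.hom_inv_id).trans (kcMap_id l _)),
      (kcMap_comp l _ _).symm.trans ((congrArg (kcMap l) i.inv_hom_id).trans (kcMap_id l _))⟩, ?_⟩
    change psiC u (kc l _) ≫ e.hom ≫ kcMap l i.hom = kcMap l _
    refine ((Category.assoc _ _ _).symm.trans ((congrArg (· ≫ kcMap l i.hom) he).trans (kcMap_comp l _ _).symm)).trans ?_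
    refine congrArg (kcMap l) (HomologicalComplex.hom_ext _ _ fun n => ?_)
    rw [CochainComplex.mappingCone.ext_from_iff _ (n + 1) n rfl]
    have h1 := (psi u).naturality ((CochainComplex.mappingCone.inl (smulC s M)).v (n + 1) n (by lia))
    have h2 := (psi u).naturality ((CochainComplex.mappingCone.inr (smulC s M)).f n)
    dsimp only [Functor.id_obj, Functor.id_map] at h1 h2
    refine ⟨?_, ?_⟩
    · refine Eq.trans ?_ (inl_v_coneMap _ _ _ _ _ n).symm
      change _ ≫ ((psi u).app _ ≫ ((CochainComplex.mappingCone.mapHomologicalComplexIso (smulC s M)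
        ((ModSite.tensorBi O).flip.obj W)).hom.f n ≫ (CochainComplex.mappingCone.map (F.map (smulC s M))
        (smulC s (F.obj M)) (𝟙 _) (𝟙 _) hs).f n)) = _
      refine ((Category.assoc _ _ _).symm.trans (congrArg (· ≫ _) h1)).trans ?_
      refine (Category.assoc _ _ _).trans (congrArg ((psi u).app (M.X (n + 1)) ≫ ·) ?_)
      refine (map_inl_v_iso_assoc _ (smulC s M) n _).trans ?_
      exact (inl_v_coneMap _ _ _ _ hs n).trans (Category.id_comp _)
    · refine Eq.trans ?_ (inr_f_coneMap _ _ _ _ _ n).symm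
      change _ ≫ ((psi u).app _ ≫ ((CochainComplex.mappingCone.mapHomologicalComplexIso (smulC s M)
        ((ModSite.tensorBi O).flip.obj W)).hom.f n ≫ (CochainComplex.mappingCone.map (F.map (smulC s M))
        (smulC s (F.obj M)) (𝟙 _) (𝟙 _) hs).f n)) = _
      refine ((Category.assoc _ _ _).symm.trans (congrArg (· ≫ _) h2)).trans ?_
      refine (Category.assoc _ _ _).trans (congrArg ((psi u).app (M.X n) ≫ ·) ?_)
      refine (map_inr_f_iso_assoc _ (smulC s M) n _).trans ?_
      exact (inr_f_coneMap _ _ _ _ hs n).trans (Category.id_comp _)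

variable (hW : ModSite.IsFlat W)

include hW in
/-- **`psi` is a quasi-isomorphism on the iterated cones.** -/
theorem quasiIso_kcMap_psi (l : List (DerComp.GSec O)) (hu : IsIso (qMap l u)) (M : CC O) :
    haveI := additive_flip W
    QuasiIso (kcMap l (psiC u M)) := by
  have := additive_flip W
  obtain ⟨e, he⟩ := exists_kc_iso u l M
  rw [← he]
  have := hW.1
  have := hW.2
  have : QuasiIso (psiC u (kc l M)) := ⟨fun i => by
    rw [quasiIsoAt_iff' _ (i - 1) i (i + 1) (by simp) (by simp)]
    let S := (kc l M).sc' (i - 1) i (i + 1)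
    have hn : IsIso ((psi u).app S.homology) := by
      refine isIso_psi_of_nilpotent u hW l [] (fun X hX _ => isIso_psi_of_killed u l hu hX) _ (fun t ht => ?_)
        fun t ht => absurd ht List.not_mem_nil
      obtain ⟨k, hk⟩ := exists_pow_kc l M t ht
      refine ⟨k, ?_⟩
      have h0 := smulEnd_homology_eq_zero _ _ hk i
      exact smulEnd_eq_zero_of_mono _ ((kc l M).homologyIsoSc' (i - 1) i (i + 1) (by simp) (by simp)).inv h0
    rw [NatTrans.app_homology] at hn
    rw [ShortComplex.quasiIso_iff]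
    have h' := (isIso_comp_left_iff (S.mapHomologyIso (𝟭 (ModSite.Mod O))).inv _).1 hn
    exact (isIso_comp_right_iff _ (S.mapHomologyIso ((ModSite.tensorBi O).flip.obj W)).hom).1 h'⟩
  infer_instance

end Cx

end Groth.Agent.DerComp18
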