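import Groth.Agent.DerComp18.Poly
import Groth.Agent.DerComp18.Away
import Groth.Agent.Coh69.Grothendieck
import Groth.Agent.DR39.DC

/-!
No maps from modules with an invertible endomorphism which is locally nilpotent modulo `l` to complexes complete
along `l`.
-/

universe u

open CategoryTheory CategoryTheory.Limits Opposite DerivedCategory Pretriangulated

attribute [local instance] HasDerivedCategory.standard

set_option autoImplicit false

namespace Groth.Agent.DerComp18

open Groth.Agent.Mod48 Groth.Agent.Mod48.LocGen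

section Abstract

variable {A : Type*} [Category A] [Abelian A] [HasDerivedCategory A]

lemma precomp_mor₂_bijective {X₁ X₂ X₃ : A} {f : X₁ ⟶ X₂} {g : X₂ ⟶ X₃} {w : f ≫ g = 0}
    (hS : (ShortComplex.mk f g w).ShortExact) (L : DerivedCategory A)
    (h : ∀ n : ℤ, Subsingleton ((singleFunctor A 0).obj X₁ ⟶ L⟦n⟧)) (n : ℤ) :
    Function.Bijective fun x : (singleFunctor A 0).obj X₃ ⟶ L⟦n⟧ => (singleFunctor A 0).map g ≫ x := by
  refine (DR39.subsingleton_hom_iff_precomp_bijective _
    (rot_of_distTriang _ hS.singleTriangle_distinguished) L).1 (fun k => ?_) n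
  let T := (shiftEquiv (DerivedCategory A) (1 : ℤ)).toAdjunction
  refine (Equiv.subsingleton_congr ?_).2 (h (k - 1))
  exact (T.homEquiv _ _).trans
    (Iso.homToEquiv ((shiftFunctorAdd' (DerivedCategory A) k (-1) (k - 1) (by lia)).app L).symm)

lemma precomp_mor₁_bijective {X₁ X₂ X₃ : A} {f : X₁ ⟶ X₂} {g : X₂ ⟶ X₃} {w : f ≫ g = 0}
    (hS : (ShortComplex.mk f g w).ShortExact) (L : DerivedCategory A)
    (h : ∀ n : ℤ, Subsingleton ((singleFunctor A 0).obj X₃ ⟶ L⟦n⟧)) (n : ℤ) :
    Function.Bijective fun x : (singleFunctor A 0).obj X₂ ⟶ L⟦n⟧ => (singleFunctor A 0).map f ≫ x :=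
  (DR39.subsingleton_hom_iff_precomp_bijective _ hS.singleTriangle_distinguished L).1 h n

/-- A morphism with no maps out of its kernel and cokernel is inverted by `Hom(-, L)`. -/
lemma precomp_bijective_of_ker_coker {M N : A} (f : M ⟶ N) (L : DerivedCategory A)
    (hk : ∀ n : ℤ, Subsingleton ((singleFunctor A 0).obj (kernel f) ⟶ L⟦n⟧))
    (hc : ∀ n : ℤ, Subsingleton ((singleFunctor A 0).obj (cokernel f) ⟶ L⟦n⟧)) (n : ℤ) :
    Function.Bijective fun x : (singleFunctor A 0).obj N ⟶ L⟦n⟧ => (singleFunctor A 0).map f ≫ x := by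
  have h1 : (ShortComplex.mk (kernel.ι f) (Abelian.factorThruImage f) (by
      rw [← cancel_mono (Abelian.image.ι f), Category.assoc, Abelian.image.fac, kernel.condition,
        zero_comp])).ShortExact :=
    { exact := ShortComplex.exact_of_f_is_kernel _ (isKernelOfComp (Abelian.image.ι f) _ (kernelIsKernel f) _
        (Abelian.image.fac f)) }
  have h2 : (ShortComplex.mk (Abelian.image.ι f) (cokernel.π f) (kernel.condition (cokernel.π f))).ShortExact :=
    { exact := ShortComplex.exact_kernel _ }
  have := (precomp_mor₂_bijective h1 L hk n).comp (precomp_mor₁_bijective h2 L hc n)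
  convert this using 1
  funext x
  change _ = (singleFunctor A 0).map _ ≫ (singleFunctor A 0).map _ ≫ x
  rw [← Category.assoc, ← Functor.map_comp, Abelian.image.fac]

/-- Maps out of an object on which `e` is bijective and complete vanish. -/
lemma eq_zero_of_compEnd {D : Type*} [Category D] [Preadditive D] {X T : D} {e : X ⟶ X} (hc : CompEnd e T)
    (hb : Function.Bijective fun x : X ⟶ T => e ≫ x) (x : X ⟶ T) : x = 0 := by
  let E := (Equiv.ofBijective _ hb).symm
  have hE : ∀ y, e ≫ E y = y := (Equiv.ofBijective _ hb).apply_symm_apply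
  let s : ℕ → (X ⟶ T) := fun n => E^[n] x
  have : s = 0 := hc.1 (funext fun n => by
    change s n - e ≫ s (n + 1) = 0 - e ≫ (0 : X ⟶ T)
    simp only [s, Function.iterate_succ_apply', hE]
    simp)
  exact congrFun this 0

end Abstract

variable {C : Type u} [SmallCategory C] {J : GrothendieckTopology C} {O : Sheaf J CommRingCat.{u}}

/-- **No maps from a module killed modulo `l` to an object complete along `l`.** -/
theorem subsingleton_of_killed (L : DerivedCategory (ModSite.Mod O)) :
    ∀ (l : List (DerComp.GSec O)),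
      (∀ s ∈ l, ∀ (X : ModSite.Mod O) (m : ℤ), CompEnd (Pm (DerComp.smulEnd s X) m) L) →
      ∀ (M : ModSite.Mod O) (e : M ⟶ M) [IsIso e], (∀ W x, Killed l e W x) →
        ∀ n : ℤ, Subsingleton ((singleFunctor (ModSite.Mod O) 0).obj M ⟶ L⟦n⟧)
  | [], _, M, e, _, h, n => by
    have := (singleFunctor (ModSite.Mod O) 0).map_isZero (isZero_of_killed_nil h)
    exact ⟨fun a b => this.eq_of_src a b⟩
  | s :: l, hl, M, e, _, h, n => by
    let f := DerComp.smulEnd s M
    have hk : DerComp.smulEnd s (kernel f) = 0 := by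
      rw [← cancel_mono (kernel.ι f), zero_comp, DerComp.smulEnd_comm, kernel.condition]
    have hc : DerComp.smulEnd s (cokernel f) = 0 := by
      rw [← cancel_epi (cokernel.π f), comp_zero, ← DerComp.smulEnd_comm, cokernel.condition]
    have w : f ≫ (asIso e).hom = (asIso e).hom ≫ f := DerComp.smulEnd_comm s e
    let eK : kernel f ≅ kernel f := kernel.mapIso f f (asIso e) (asIso e) w
    let eC : cokernel f ≅ cokernel f := cokernel.mapIso f f (asIso e) (asIso e) w
    have hl' : ∀ t ∈ l, ∀ (X : ModSite.Mod O) (m : ℤ), CompEnd (Pm (DerComp.smulEnd t X) m) L :=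
      fun t ht => hl t (List.mem_cons_of_mem _ ht)
    have hb := precomp_bijective_of_ker_coker f L
      (subsingleton_of_killed L l hl' _ eK.hom fun W x =>
        killed_tail hk (killed_of_mono (kernel.ι f) eK.hom (kernel.lift_ι _ _ _) x (h W _)))
      (subsingleton_of_killed L l hl' _ eC.hom fun W x =>
        killed_tail hc (killed_of_epi (cokernel.π f) eC.hom (cokernel.π_desc _ _ _).symm h W x)) n
    exact ⟨fun a b => sub_eq_zero.1
      (eq_zero_of_compEnd ((compEnd_degEquiv f L n).2 (hl s List.mem_cons_self M n)) hb (a - b))⟩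

end Groth.Agent.DerComp18
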