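import Mathlib.CategoryTheory.Linear.Basic
import Mathlib.Algebra.Homology.DerivedCategory.TStructure
import Mathlib.Algebra.Homology.DerivedCategory.Linear
import Mathlib.RingTheory.Noetherian.Basic
import Mathlib.RingTheory.Finiteness.Finsupp
import Groth.Agent.Mod48.Devissage

/-!
Finiteness of morphism modules in a derived category: reduction to objects in one degree.
-/

universe w v u

open CategoryTheory CategoryTheory.Limits CategoryTheory.Pretriangulated DerivedCategory

set_option autoImplicit false

namespace Groth.Agent.DerComp18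

section Tri

variable {D : Type*} [Category D] [Preadditive D] [HasZeroObject D] [HasShift D ℤ]
  [∀ n : ℤ, (shiftFunctor D n).Additive] [Pretriangulated D] {B : Type*} [CommRing B] [IsNoetherianRing B]
  [Linear B D]

lemma finite_of_exact {M₁ M₂ M₃ : Type*} [AddCommGroup M₁] [Module B M₁] [AddCommGroup M₂] [Module B M₂]
    [AddCommGroup M₃] [Module B M₃] [Module.Finite B M₁] [Module.Finite B M₃] (f : M₁ →ₗ[B] M₂) (g : M₂ →ₗ[B] M₃)
    (h : ∀ x, g x = 0 → x ∈ LinearMap.range f) : Module.Finite B M₂ := by
  haveI : IsNoetherian B (LinearMap.range f) := isNoetherian_of_isNoetherianRing_of_finite B _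
  haveI : IsNoetherian B (LinearMap.ker g) :=
    isNoetherian_of_injective (Submodule.inclusion (fun x hx => h x hx : LinearMap.ker g ≤ LinearMap.range f))
      (Submodule.inclusion_injective _)
  haveI : Module.Finite B (M₂ ⧸ LinearMap.ker g) :=
    Module.Finite.equiv g.quotKerEquivRange.symm
  exact Module.Finite.of_submodule_quotient (LinearMap.ker g)

theorem finite_hom_obj₂ (Y : D) {T : Triangle D} (hT : T ∈ distinguishedTriangles)
    (h₁ : Module.Finite B (Y ⟶ T.obj₁)) (h₃ : Module.Finite B (Y ⟶ T.obj₃)) : Module.Finite B (Y ⟶ T.obj₂) :=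
  finite_of_exact (Linear.rightComp B Y T.mor₁) (Linear.rightComp B Y T.mor₂) fun x hx => by
    obtain ⟨y, hy⟩ := Triangle.coyoneda_exact₂ _ hT x hx
    exact ⟨y, hy.symm⟩

theorem finite_hom_obj₂' (L : D) {T : Triangle D} (hT : T ∈ distinguishedTriangles)
    (h₁ : Module.Finite B (T.obj₁ ⟶ L)) (h₃ : Module.Finite B (T.obj₃ ⟶ L)) : Module.Finite B (T.obj₂ ⟶ L) :=
  finite_of_exact (Linear.leftComp B L T.mor₂) (Linear.leftComp B L T.mor₁) fun x hx => by
    obtain ⟨y, hy⟩ := Triangle.yoneda_exact₂ _ hT x hx
    exact ⟨y, hy.symm⟩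

omit [HasZeroObject D] [HasShift D ℤ] [∀ n : ℤ, (shiftFunctor D n).Additive] [Pretriangulated D] in
theorem finite_hom_congr_iso {Y Y' L L' : D} (e : Y ≅ Y') (e' : L ≅ L') (h : Module.Finite B (Y ⟶ L)) :
    Module.Finite B (Y' ⟶ L') :=
  have := h
  Module.Finite.equiv (Linear.homCongr B e e')

end Tri

section Dev

variable {A : Type u} [Category.{v} A] [Abelian A] [HasDerivedCategory.{w} A] {B : Type*} [CommRing B]
  [IsNoetherianRing B] [Linear B A] (P : ObjectProperty A) (hP : ∀ {M N : A}, (M ≅ N) → P M → P N)

include hP in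
/-- Dévissage in the target. -/
theorem finite_hom_of_isGE_target (Y : DerivedCategory A) (b : ℤ) [Y.IsLE b]
    (h : ∀ M, P M → ∀ q : ℤ, Module.Finite B (Y ⟶ (singleFunctor A q).obj M))
    (E : DerivedCategory A) (hE : ∀ i, P ((homologyFunctor A i).obj E)) (a : ℤ) [E.IsGE a] :
    Module.Finite B (Y ⟶ E) := by
  suffices key : ∀ (d : ℕ) (E : DerivedCategory A) (c : ℤ), E.IsGE c →
      (∀ i, c ≤ i → i ≤ b → P ((homologyFunctor A i).obj E)) → b + 1 ≤ c + d → Module.Finite B (Y ⟶ E) from
    key (b + 1 - a).toNat E a inferInstance (fun i _ _ => hE i) (by omega)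
  intro d
  induction d with
  | zero =>
    intro E c hc _ hcd
    have : Subsingleton (Y ⟶ E) := subsingleton_of_forall_eq 0 fun f =>
      TStructure.t.zero_of_isLE_of_isGE f b c (by omega) inferInstance hc
    infer_instance
  | succ d ih =>
    intro E c hc hE hcd
    by_cases hb : b < c
    · have : Subsingleton (Y ⟶ E) := subsingleton_of_forall_eq 0 fun f =>
        TStructure.t.zero_of_isLE_of_isGE f b c hb inferInstance hc
      infer_instance
    let t : Triangulated.TStructure (DerivedCategory A) := TStructure.t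
    have hT := t.triangleLTGE_distinguished (c + 1) E
    refine finite_hom_obj₂ Y hT ?_ ?_
    · let W := (t.truncLT (c + 1)).obj E
      have hW₁ : t.IsLE W c := t.isLE_truncLT_obj E (c + 1) c (by omega)
      have hW₂ : t.IsGE W c := inferInstance
      obtain ⟨M, ⟨e⟩⟩ := exists_iso_singleFunctor_obj_of_isGE_of_isLE W c
      have := Mod48.isIso_homology_truncLTι E (c + 1) c (by omega)
      let eM : (homologyFunctor A c).obj E ≅ M :=
        (asIso ((homologyFunctor A c).map ((t.truncLTι (c + 1)).app E))).symm ≪≫
          (homologyFunctor A c).mapIso e ≪≫ (singleFunctorCompHomologyFunctorIso A c).app M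
      exact finite_hom_congr_iso (Iso.refl Y) e.symm (h _ (hP eM (hE c le_rfl (by omega))) c)
    · refine ih ((t.truncGE (c + 1)).obj E) (c + 1) inferInstance (fun i hi hib => ?_) (by omega)
      have := Mod48.isIso_homology_truncGEπ E (c + 1) i hi
      exact hP (asIso ((homologyFunctor A i).map ((t.truncGEπ (c + 1)).app E))) (hE i (by omega) hib)

include hP in
/-- Dévissage in the source. -/
theorem finite_hom_of_isLE_source (L : DerivedCategory A) (a : ℤ) [L.IsGE a]
    (h : ∀ M, P M → ∀ q : ℤ, Module.Finite B ((singleFunctor A q).obj M ⟶ L))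
    (K : DerivedCategory A) (hK : ∀ i, P ((homologyFunctor A i).obj K)) (b : ℤ) [K.IsLE b] :
    Module.Finite B (K ⟶ L) := by
  suffices key : ∀ (d : ℕ) (K : DerivedCategory A) (c : ℤ), K.IsLE c →
      (∀ i, a ≤ i → i ≤ c → P ((homologyFunctor A i).obj K)) → c + 1 ≤ a + d → Module.Finite B (K ⟶ L) from
    key (b + 1 - a).toNat K b inferInstance (fun i _ _ => hK i) (by omega)
  intro d
  induction d with
  | zero =>
    intro K c hc _ hcd
    have : Subsingleton (K ⟶ L) := subsingleton_of_forall_eq 0 fun f =>
      TStructure.t.zero_of_isLE_of_isGE f c a (by omega) hc inferInstance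
    infer_instance
  | succ d ih =>
    intro K c hc hK hcd
    by_cases hb : c < a
    · have : Subsingleton (K ⟶ L) := subsingleton_of_forall_eq 0 fun f =>
        TStructure.t.zero_of_isLE_of_isGE f c a hb hc inferInstance
      infer_instance
    let t : Triangulated.TStructure (DerivedCategory A) := TStructure.t
    have hT := t.triangleLTGE_distinguished c K
    refine finite_hom_obj₂' L hT ?_ ?_
    · refine ih ((t.truncLT c).obj K) (c - 1) (t.isLE_truncLT_obj K c (c - 1) (by omega)) (fun i hai hi => ?_)
        (by omega)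
      have := Mod48.isIso_homology_truncLTι K c i (by omega)
      exact hP (asIso ((homologyFunctor A i).map ((t.truncLTι c).app K))).symm (hK i hai (by omega))
    · let W := (t.truncGE c).obj K
      have hW₁ : t.IsGE W c := inferInstance
      have hW₂ : t.IsLE W c := inferInstance
      obtain ⟨M, ⟨e⟩⟩ := exists_iso_singleFunctor_obj_of_isGE_of_isLE W c
      have := Mod48.isIso_homology_truncGEπ K c c le_rfl
      let eM : (homologyFunctor A c).obj K ≅ M :=
        asIso ((homologyFunctor A c).map ((t.truncGEπ c).app K)) ≪≫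
          (homologyFunctor A c).mapIso e ≪≫ (singleFunctorCompHomologyFunctorIso A c).app M
      exact finite_hom_congr_iso e.symm (Iso.refl L) (h _ (hP eM (hK c (by omega) le_rfl)) c)

end Dev

end Groth.Agent.DerComp18
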