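import Groth.Agent.DerComp18.Perp

/-!
Orthogonality to complete objects along finitely many global sections: iterated cones.
-/

universe u

open CategoryTheory CategoryTheory.Limits Opposite DerivedCategory Pretriangulated

attribute [local instance] HasDerivedCategory.standard

set_option autoImplicit false

namespace Groth.Agent.DerComp18

open Groth.Agent.Mod48 Groth.Agent.Mod48.LocGen

variable {C : Type u} [SmallCategory C] {J : GrothendieckTopology C} {O : Sheaf J CommRingCat.{u}}

/-- Multiplication by a global section on a complex. -/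
noncomputable def smulC (s : DerComp.GSec O) (M : CC O) : M ⟶ M where
  f n := DerComp.smulEnd s (M.X n)
  comm' i j _ := DerComp.smulEnd_comm s (M.d i j)

lemma Q_map_smulC (s : DerComp.GSec O) (M : CC O) : Q.map (smulC s M) = s • 𝟙 (Q.obj M) :=
  Q_map_smulEnd s M _ fun _ => rfl

/-- The iterated cone of multiplications. -/
noncomputable def kc : List (DerComp.GSec O) → CC O → CC O
  | [], M => M
  | s :: l, M => kc l (CochainComplex.mappingCone (smulC s M))

section Spanned

/-- Completeness along the sections of a list. -/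
lemma isDerComp_spanSh (l : List (DerComp.GSec O)) (L : DerivedCategory (ModSite.Mod O))
    (h : ∀ s ∈ l, ∀ (U : C) (m : ℤ), CompEnd (Pm (fe O U (s.1 U)) m) L) : DerComp.IsDerComp O (spanSh l) L := by
  rw [isDerComp_iff_le]
  rintro U f ⟨S, hS, hf⟩
  refine (idealOf L).glue S hS fun V g hg => ?_
  have h2 : spanAt l V ≤ (idealOf L).ideal V := by
    clear hf hg g hS
    induction l with
    | nil => exact bot_le
    | cons s l ih =>
      refine sup_le (Ideal.span_le.2 ?_) (ih fun t ht => h t (List.mem_cons_of_mem _ ht))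
      rintro x (rfl : x = s.1 V)
      intro W k m
      have e : (O.obj.map k.op).hom (s.1 V) = s.1 W := s.2 k
      rw [e]
      exact h s List.mem_cons_self W m
  exact h2 (hf g hg)

lemma mem_spanSh {l : List (DerComp.GSec O)} {s : DerComp.GSec O} (hs : s ∈ l) (U : C) :
    s.1 U ∈ (spanSh l).ideal U :=
  ⟨⊤, J.top_mem U, fun V g _ => by rw [s.2 g]; exact mem_spanAt hs V⟩

lemma compEnd_of_spanSh {l : List (DerComp.GSec O)} {s : DerComp.GSec O} (hs : s ∈ l)
    {L : DerivedCategory (ModSite.Mod O)} (hL : DerComp.IsDerComp O (spanSh l) L)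
    (X : DerivedCategory (ModSite.Mod O)) : CompEnd (s • 𝟙 X) L :=
  compEnd_smul_of_local s L (fun U => ⟨⊤, J.top_mem U, fun V _ _ m =>
    (isDerComp_iff O _ L).1 hL V _ (mem_spanSh hs V) m⟩) X

lemma isDerComp_spanSh_of_le {l l' : List (DerComp.GSec O)} (h : ∀ s ∈ l', s ∈ l)
    {L : DerivedCategory (ModSite.Mod O)} (hL : DerComp.IsDerComp O (spanSh l) L) :
    DerComp.IsDerComp O (spanSh l') L :=
  isDerComp_spanSh l' L fun s hs U m => (isDerComp_iff O _ L).1 hL U _ (mem_spanSh (h s hs) U) m

/-- A sheaf of ideals spanned by `l` has the same complete objects. -/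
lemma isDerComp_iff_spanSh {I : DerComp.IdealSh O} {l : List (DerComp.GSec O)}
    (hl : ∀ s ∈ l, ∀ U, s.1 U ∈ I.ideal U) (hI : I ≤ spanSh l) (L : DerivedCategory (ModSite.Mod O)) :
    DerComp.IsDerComp O I L ↔ DerComp.IsDerComp O (spanSh l) L :=
  ⟨fun h => isDerComp_spanSh l L fun s hs U m => (isDerComp_iff O I L).1 h U _ (hl s hs U) m,
    fun h => (isDerComp_iff_le I L).2 fun U => (hI U).trans ((isDerComp_iff_le _ L).1 h U)⟩

/-- Objects killed by a power of `s` are complete along `s`. -/
lemma compEnd_of_killed {X L : DerivedCategory (ModSite.Mod O)} (e : X ⟶ X)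
    (h : ∀ x : X ⟶ L, e ≫ e ≫ e ≫ e ≫ x = 0) : CompEnd e L := by
  refine ⟨fun x x' hx => ?_, fun y => ⟨fun n => y n + e ≫ (y (n + 1) + e ≫ (y (n + 2) + e ≫ y (n + 3))), ?_⟩⟩
  · have hd : ∀ n, x n - x' n = e ≫ (x (n + 1) - x' (n + 1)) := fun n => by
      have := congrFun hx n
      simp only [Phi] at this
      rw [Preadditive.comp_sub]
      exact sub_eq_sub_iff_sub_eq_sub.1 this
    funext n
    rw [← sub_eq_zero, hd, hd, hd, hd]
    exact h _
  · funext n
    simp only [Phi, Preadditive.comp_add]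
    rw [h (y (n + 1 + 3))]
    abel

lemma killed_cone {X N : DerivedCategory (ModSite.Mod O)} (t : DerComp.GSec O) {a : X ⟶ N} {b : N ⟶ X⟦(1 : ℤ)⟧}
    (hT : Triangle.mk (t • 𝟙 X) a b ∈ distinguishedTriangles) : (t * t) • 𝟙 N = 0 := by
  obtain ⟨c, hc⟩ := Triangle.yoneda_exact₃ _ hT (t • 𝟙 N) (by
    change a ≫ (t • 𝟙 N) = 0
    rw [Linear.comp_smul, Category.comp_id]
    have h1 : (t • 𝟙 X) ≫ a = 0 := comp_distTriang_mor_zero₁₂ _ hT
    rwa [Linear.smul_comp, Category.id_comp] at h1)
  have h2 : b ≫ (t • 𝟙 X)⟦(1 : ℤ)⟧' = 0 := comp_distTriang_mor_zero₃₁ _ hT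
  rw [Functor.map_smul, CategoryTheory.Functor.map_id, Linear.comp_smul] at h2
  have h2' : t • b = 0 := (congrArg (t • ·) (Category.comp_id b)).symm.trans h2
  rw [mul_smul]
  refine (congrArg (t • ·) hc).trans ?_
  change t • (b ≫ c) = 0
  rw [← Linear.smul_comp, h2', zero_comp]

end Spanned

lemma isDerComp_obj₁ {I : DerComp.IdealSh O} {T : Triangle (DerivedCategory (ModSite.Mod O))}
    (hT : T ∈ distinguishedTriangles) (h₂ : DerComp.IsDerComp O I T.obj₂) (h₃ : DerComp.IsDerComp O I T.obj₃) :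
    DerComp.IsDerComp O I T.obj₁ := fun U f hf n => by
  have hT' := Triangle.shift_distinguished _ (inv_rot_of_distTriang T hT) n
  refine ⟨fun x y => sub_eq_zero.1 ?_⟩
  have h2 : Subsingleton (SiteCmp.inD O ((ModSite.extZero O U).obj (DerComp.awayOver O U f)) ⟶
      ((Triangle.shiftFunctor _ n).obj T.invRotate).obj₁) := (isDerComp_shift h₃ (-1)) U f hf n
  obtain ⟨g, hg⟩ := Triangle.coyoneda_exact₂ _ hT' (x - y) ((h₂ U f hf n).elim _ _)
  exact hg.trans ((congrArg (· ≫ _) (h2.elim g 0)).trans zero_comp)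

/-- One step of the recursion. -/
lemma perp_spanSh_triangle (s : DerComp.GSec O) (l : List (DerComp.GSec O))
    {X N : DerivedCategory (ModSite.Mod O)} {p : X ⟶ N} {q : N ⟶ X⟦(1 : ℤ)⟧}
    (hT : Triangle.mk (s • 𝟙 X) p q ∈ distinguishedTriangles) :
    Perp (spanSh (s :: l)) X ↔ Perp (spanSh l) N := by
  refine ⟨fun h L hL => ?_, fun h L hL => ?_⟩
  · have hN : ∀ L', DerComp.IsDerComp O (spanSh (s :: l)) L' → NoHom N L' := fun L' hL' =>
      NoHom.obj₃ hT (h L' hL') (h L' hL')
    intro n
    refine subsingleton_of_forall_eq 0 fun x => ?_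
    let t := s * s
    have hNt : t • 𝟙 N = 0 := killed_cone s hT
    obtain ⟨Cn, a, b, hC⟩ := distinguished_cocone_triangle (t • 𝟙 (L⟦n⟧))
    have hL0 := isDerComp_shift hL n
    let T' := (Triangle.mk (t • 𝟙 (L⟦n⟧)) a b).invRotate
    have hT' : T' ∈ distinguishedTriangles := inv_rot_of_distTriang _ hC
    have hl : DerComp.IsDerComp O (spanSh l) T'.obj₁ := isDerComp_obj₁ hT' hL0 hL0
    have hCn : (t * t) • 𝟙 Cn = 0 := killed_cone t hC
    have hk : (t * t) • 𝟙 T'.obj₁ = 0 := by
      change (t * t) • 𝟙 (Cn⟦(-1 : ℤ)⟧) = 0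
      rw [← CategoryTheory.Functor.map_id, ← Functor.map_smul, hCn, Functor.map_zero]
    have hL' : DerComp.IsDerComp O (spanSh (s :: l)) T'.obj₁ := by
      refine isDerComp_spanSh _ _ fun r hr U m => ?_
      rcases List.mem_cons.1 hr with rfl | hr'
      · rw [← smulEnd_freeOn, Pm_smulEnd_eq]
        refine compEnd_of_killed _ fun y => ?_
        simp only [Linear.smul_comp, Category.id_comp, smul_smul]
        have : y ≫ ((t * t) • 𝟙 T'.obj₁) = 0 := by rw [hk, comp_zero]
        rw [Linear.comp_smul, Category.comp_id] at this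
        convert this using 2
        change r * (r * (r * r)) = r * r * (r * r)
        ring
      · exact (isDerComp_iff O _ _).1 hl U _ (mem_spanSh hr' U) m
    obtain ⟨g, hg⟩ := Triangle.coyoneda_exact₂ T' hT' x (by
      have h1 : (t • 𝟙 N) ≫ x = 0 := by rw [hNt, zero_comp]
      rw [Linear.smul_comp, Category.id_comp] at h1
      exact ((Linear.comp_smul _ _ _ x t (𝟙 (L⟦n⟧))).trans (congrArg (t • ·) (Category.comp_id x))).trans h1)
    have h0 := hN _ hL' 0
    have : Subsingleton (N ⟶ T'.obj₁) :=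
      (Equiv.subsingleton_congr ((shiftFunctorZero (DerivedCategory (ModSite.Mod O)) ℤ).app T'.obj₁).homToEquiv).1 h0
    exact hg.trans ((congrArg (· ≫ T'.mor₁) (Subsingleton.elim (α := N ⟶ T'.obj₁) g 0)).trans zero_comp)
  · intro n
    have hl := isDerComp_spanSh_of_le (fun r hr => List.mem_cons_of_mem _ hr) hL
    have hb := (DR39.subsingleton_hom_iff_precomp_bijective _ hT L).1 (h L hl) n
    refine subsingleton_of_forall_eq 0 fun x => ?_
    exact eq_zero_of_compEnd (compEnd_of_spanSh List.mem_cons_self (isDerComp_shift hL n) X) hb x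

lemma perp_spanSh_cons (s : DerComp.GSec O) (l : List (DerComp.GSec O)) (M : CC O) :
    Perp (spanSh (s :: l)) (Q.obj M) ↔ Perp (spanSh l) (Q.obj (CochainComplex.mappingCone (smulC s M))) := by
  let T := Q.mapTriangle.obj (CochainComplex.mappingCone.triangle (smulC s M))
  have hT : T ∈ distinguishedTriangles :=
    (DerivedCategory.mem_distTriang_iff _).2 ⟨M, M, smulC s M, ⟨Iso.refl _⟩⟩
  have h0 : Triangle.mk (Q.map (smulC s M)) T.mor₂ T.mor₃ ∈ distinguishedTriangles := hT
  rw [Q_map_smulC] at h0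
  exact perp_spanSh_triangle s l h0

/-- **Orthogonality along global sections is the vanishing of the iterated cone.** -/
theorem perp_spanSh_iff : ∀ (l : List (DerComp.GSec O)) (M : CC O),
    Perp (spanSh l) (Q.obj M) ↔ (kc l M).Acyclic
  | [], M => by
    refine ⟨fun h => ?_, fun h L _ => NoHom.of_isZero ?_⟩
    · have h0 := h (Q.obj M) (isDerComp_spanSh [] _ fun s hs => absurd hs List.not_mem_nil) 0
      have h0' : Subsingleton (Q.obj M ⟶ Q.obj M) :=
        (Equiv.subsingleton_congr ((shiftFunctorZero (DerivedCategory (ModSite.Mod O)) ℤ).app (Q.obj M)).homToEquiv).1 h0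
      have hz : IsZero (Q.obj M) := (IsZero.iff_id_eq_zero _).2 (Subsingleton.elim _ _)
      exact acyclic_of_isZero_homology fun i =>
        ((homologyFunctor (ModSite.Mod O) i).map_isZero hz).of_iso ((homologyFunctorFactors (ModSite.Mod O) i).app M).symm
    · rw [IsZero.iff_id_eq_zero, ← CategoryTheory.Functor.map_id]
      have : QuasiIso (0 : M ⟶ M) := by
        constructor
        intro i
        rw [quasiIsoAt_iff_isIso_homologyMap]
        exact ⟨0, (isZero_homology_of_acyclic h i).eq_of_src _ _, (isZero_homology_of_acyclic h i).eq_of_src _ _⟩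
      have hi : IsIso (Q.map (0 : M ⟶ M)) := (isIso_Q_map_iff_quasiIso (ModSite.Mod O) _).2 this
      rw [Functor.map_zero] at hi
      obtain ⟨g, hg, -⟩ := hi.out
      rw [CategoryTheory.Functor.map_id, ← hg, zero_comp]
  | s :: l, M => (perp_spanSh_cons s l M).trans (perp_spanSh_iff l _)

end Groth.Agent.DerComp18
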