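import Groth.Agent.DCX42.PushAdj
import Groth.Agent.DCK91.FlatAcyclic
import Groth.Agent.Mod48.PullSESMain
import Groth.Agent.Mod48.ModPush
import Groth.Prelude.Def_SiteCmp

/-!
The derived inverse image along a morphism of ringed sites is left adjoint to `Rf_*`.
-/

universe u

open CategoryTheory CategoryTheory.Limits Opposite

attribute [local instance] HasDerivedCategory.standard

set_option autoImplicit false
set_option backward.isDefEq.respectTransparency false

namespace Groth.Agent.DerComp18

open Groth.Agent.Mod48

variable {C D : Type u} [SmallCategory C] [SmallCategory D] {J : GrothendieckTopology C}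
  {K : GrothendieckTopology D} {O_C : Sheaf J CommRingCat.{u}} {O_D : Sheaf K CommRingCat.{u}}
  (f : ModSite.RMor O_C O_D)

/-- `Rf_*` has a left adjoint on derived categories. -/
theorem isRightAdjoint_rpushD [SiteCmp.HasRpushD f] : (SiteCmp.RpushD f).IsRightAdjoint := by
  have : f.pull.Additive := f.adj.left_adjoint_additive
  have : f.push.Additive := f.adj.right_adjoint_additive
  let WD := HomotopyCategory.quasiIso (ModSite.Mod O_D) (ComplexShape.up ℤ)
  let WC := HomotopyCategory.quasiIso (ModSite.Mod O_C) (ComplexShape.up ℤ)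
  have hG : DCK91.PreservesFlatSES f.pull := fun S hS h => pull_shortExact f S hS h
  obtain ⟨L, α, hα, hi⟩ := DCK91.exists_leftDerived (DerivedCategory.Qh (C := ModSite.Mod O_D))
    DCK91.hasRes_KFF (DCK91.inverts_KFF f.pull hG)
  have := hα
  let β := (SiteCmp.pushKh f).totalRightDerivedUnit DerivedCategory.Qh WC
  have : (L ⋙ SiteCmp.RpushD f).IsLeftDerivedFunctor
      ((Functor.associator _ _ _).inv ≫ Functor.whiskerRight α (SiteCmp.RpushD f)) WD :=
    DCX42.isLeftDerived_of_adapted DerivedCategory.Qh DCK91.hasRes_KFF _ _ fun E hE => by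
      have := hi E hE
      change IsIso (𝟙 _ ≫ (SiteCmp.RpushD f).map (α.app E))
      infer_instance
  have : (SiteCmp.RpushD f ⋙ L).IsRightDerivedFunctor
      (Functor.whiskerRight β L ≫ (Functor.associator _ _ _).hom) WC :=
    Mod48.isRightDerivedFunctor_comp _ β (enoughKInj_mod O_C) _ _ rfl
  exact ⟨L, ⟨(Mod48.adjHomotopy f.adj).derived WD WC α β⟩⟩

end Groth.Agent.DerComp18
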