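import Groth.Agent.DerComp18.Away
import Groth.Agent.DR39.DC
import Groth.Agent.CohDer42.KInj
import Groth.Agent.CohDer42.Telescope
import Mathlib.Algebra.Homology.GrothendieckAbelian
import Mathlib.Algebra.Homology.DerivedCategory.SingleTriangle

/-!
Complexes without maps to the shifts of an object of the derived category: closure properties.
-/

universe w v u

open CategoryTheory CategoryTheory.Limits DerivedCategory Pretriangulated

set_option autoImplicit false
set_option linter.unusedSectionVars false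

namespace Groth.Agent.DerComp18

section Basic

variable {D : Type*} [Category D] [Preadditive D] [HasShift D ℤ]

/-- No maps from `X` to any shift of `L`. -/
def NoHom (X L : D) : Prop := ∀ n : ℤ, Subsingleton (X ⟶ L⟦n⟧)

lemma NoHom.of_iso {X X' L : D} (h : NoHom X L) (e : X ≅ X') : NoHom X' L := fun n =>
  (Equiv.subsingleton_congr e.homFromEquiv).1 (h n)

lemma NoHom.of_iso_right {X L L' : D} (h : NoHom X L) (e : L ≅ L') : NoHom X L' := fun n =>
  (Equiv.subsingleton_congr ((shiftFunctor D n).mapIso e).homToEquiv).1 (h n)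

lemma NoHom.shift_right {X L : D} (h : NoHom X L) (k : ℤ) : NoHom X (L⟦k⟧) := fun n =>
  (Equiv.subsingleton_congr ((shiftFunctorAdd' D k n (k + n) rfl).app L).homToEquiv).1 (h (k + n))

lemma NoHom.shift {X L : D} (h : NoHom X L) (k : ℤ) : NoHom (X⟦k⟧) L := fun n =>
  (Equiv.subsingleton_congr (((shiftEquiv D k).toAdjunction.homEquiv X (L⟦n⟧)).trans
    ((shiftFunctorAdd' D n (-k) (n - k) (by lia)).app L).symm.homToEquiv)).2 (h (n - k))

lemma NoHom.of_isZero {X L : D} (h : IsZero X) : NoHom X L := fun _ => ⟨fun a b => h.eq_of_src a b⟩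

end Basic

section Triangle

variable {D : Type*} [Category D] [Preadditive D] [HasZeroObject D] [HasShift D ℤ]
  [∀ n : ℤ, (shiftFunctor D n).Additive] [Pretriangulated D] {L : D}

lemma NoHom.obj₂ {T : Triangle D} (hT : T ∈ distinguishedTriangles) (h₁ : NoHom T.obj₁ L)
    (h₃ : NoHom T.obj₃ L) : NoHom T.obj₂ L := fun n => by
  refine ⟨fun a b => sub_eq_zero.1 ?_⟩
  obtain ⟨g, hg⟩ := Triangle.yoneda_exact₂ T hT (a - b) ((h₁ n).elim _ _)
  rw [hg, (h₃ n).elim g 0, comp_zero]

lemma NoHom.obj₃ {T : Triangle D} (hT : T ∈ distinguishedTriangles) (h₁ : NoHom T.obj₁ L)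
    (h₂ : NoHom T.obj₂ L) : NoHom T.obj₃ L :=
  NoHom.obj₂ (rot_of_distTriang T hT) h₂ (h₁.shift 1)

end Triangle

variable {A : Type u} [Category.{v} A] [Abelian A] [IsGrothendieckAbelian.{v} A] [HasDerivedCategory.{w} A]
  {L : DerivedCategory A}

lemma NoHom.X₂_of_shortExact {S : ShortComplex (CochainComplex A ℤ)} (hS : S.ShortExact)
    (h₁ : NoHom (Q.obj S.X₁) L) (h₃ : NoHom (Q.obj S.X₃) L) : NoHom (Q.obj S.X₂) L :=
  NoHom.obj₂ (triangleOfSES_distinguished hS) h₁ h₃

lemma NoHom.X₃_of_shortExact {S : ShortComplex (CochainComplex A ℤ)} (hS : S.ShortExact)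
    (h₁ : NoHom (Q.obj S.X₁) L) (h₂ : NoHom (Q.obj S.X₂) L) : NoHom (Q.obj S.X₃) L :=
  NoHom.obj₃ (triangleOfSES_distinguished hS) h₁ h₂

/-- Coproducts of complexes. -/
lemma NoHom.cofan {ι : Type*} {X : ι → CochainComplex A ℤ} {c : Cofan X} (hc : IsColimit c)
    (h : ∀ i, NoHom (Q.obj (X i)) L) : NoHom (Q.obj c.pt) L := fun n => by
  have : HasCoproduct X := ⟨⟨⟨c, hc⟩⟩⟩
  refine Equiv.subsingleton_congr ((Q.mapIso (hc.coconePointUniqueUpToIso (coproductIsCoproduct X))).homFromEquiv)
    |>.2 ?_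
  obtain ⟨I, φ, hI, hφ, -, -⟩ := CohDer42.exists_kinjective_resolution (Q.objPreimage (L⟦n⟧))
  let e : Q.obj I ≅ L⟦n⟧ := (asIso (Q.map φ)).symm ≪≫ Q.objObjPreimageIso (L⟦n⟧)
  refine (Equiv.subsingleton_congr e.homToEquiv).1 (subsingleton_of_forall_eq 0 fun x => ?_)
  obtain ⟨f, rfl⟩ := CohDer42.Q_map_surjective_of_isKInjective (Z := ∐ X) (I := I) x
  rw [← Q.map_zero]
  refine CohDer42.Q_map_eq_of_forall_sigma fun i => ?_
  have := (Equiv.subsingleton_congr e.homToEquiv).2 (h i n)
  exact Subsingleton.elim _ _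

section Tele

variable {B : Type u} [Category.{v} B] [Abelian B] [IsGrothendieckAbelian.{v} B] (F : ℕ ⥤ B)

/-- The map of the telescope. -/
noncomputable def tele : (∐ fun n => F.obj n) ⟶ ∐ fun n => F.obj n :=
  Sigma.desc fun n => Sigma.ι (fun n => F.obj n) n -
    F.map (homOfLE (Nat.le_succ n)) ≫ Sigma.ι (fun n => F.obj n) (n + 1)

open Classical in
/-- The projections. -/
noncomputable def teleProj (m : ℕ) : (∐ fun n => F.obj n) ⟶ F.obj m :=
  Sigma.desc fun n => if h : n = m then eqToHom (congrArg F.obj h) else 0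

lemma mono_tele : Mono (tele F) := by
  refine Preadditive.mono_of_cancel_zero _ fun {T} k hk => ?_
  have hp : ∀ m, k ≫ teleProj F m = 0 := fun m => by
    induction m with
    | zero =>
      have h0 : tele F ≫ teleProj F 0 = teleProj F 0 := Sigma.hom_ext _ _ fun n => by simp [tele, teleProj]
      rw [← h0, reassoc_of% hk, zero_comp]
    | succ m ih =>
      have h1 : tele F ≫ teleProj F (m + 1) =
          teleProj F (m + 1) - teleProj F m ≫ F.map (homOfLE (Nat.le_succ m)) :=
        Sigma.hom_ext _ _ fun n => by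
          by_cases h : n = m
          · subst h; simp [tele, teleProj]
          · simp [tele, teleProj, h]
      have := congrArg (k ≫ ·) h1
      simp only [Preadditive.comp_sub, reassoc_of% hk, zero_comp, reassoc_of% ih, sub_zero] at this
      exact this.symm
  let e : (∐ fun i : ULift.{v} ℕ => F.obj i.down) ≅ ∐ fun n => F.obj n :=
    { hom := Sigma.desc fun i => Sigma.ι (fun n => F.obj n) i.down
      inv := Sigma.desc fun n => Sigma.ι (fun i : ULift.{v} ℕ => F.obj i.down) ⟨n⟩
      hom_inv_id := Sigma.hom_ext _ _ fun i => by simp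
      inv_hom_id := Sigma.hom_ext _ _ fun n => by simp }
  let δ : (∐ fun i : ULift.{v} ℕ => F.obj i.down) ⟶ ∏ᶜ fun i : ULift.{v} ℕ => F.obj i.down :=
    Pi.lift fun i => e.hom ≫ teleProj F i.down
  have : Mono δ := by
    refine CohDer42.Telescope.mono_sigmaToPi _ δ (fun i => ?_) fun i j hij => ?_
    · simp [δ, e, teleProj]
    · have : i.down ≠ j.down := fun h => hij (ULift.ext _ _ h)
      simp [δ, e, teleProj, this]
  have : IsIso e.inv := Iso.isIso_inv e
  rw [← cancel_mono e.inv, zero_comp, ← cancel_mono δ, zero_comp]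
  refine Pi.hom_ext _ _ fun i => ?_
  simp only [δ, Category.assoc, Pi.lift_π, zero_comp, Iso.inv_hom_id_assoc]
  exact hp i.down

lemma tele_desc {c : Cocone F} : tele F ≫ Sigma.desc (fun n => c.ι.app n) = 0 :=
  Sigma.hom_ext _ _ fun n => by simp [tele]

/-- The telescope of a sequence is exact. -/
lemma tele_shortExact {c : Cocone F} (hc : IsColimit c) :
    (ShortComplex.mk (tele F) (Sigma.desc fun n => c.ι.app n) (tele_desc F)).ShortExact := by
  have := mono_tele F
  have hdesc : ∀ {Z : B} (k : (∐ fun n => F.obj n) ⟶ Z), tele F ≫ k = 0 →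
      ∀ n, F.map (homOfLE (Nat.le_succ n)) ≫ Sigma.ι (fun n => F.obj n) (n + 1) ≫ k =
        Sigma.ι (fun n => F.obj n) n ≫ k := fun k hk n => by
    have := congrArg (Sigma.ι (fun n => F.obj n) n ≫ ·) hk
    simp only [tele, Sigma.ι_desc_assoc, Preadditive.sub_comp, Category.assoc, comp_zero, sub_eq_zero] at this
    exact this.symm
  have hπ : IsColimit (CokernelCofork.ofπ (Sigma.desc fun n => c.ι.app n) (tele_desc F)) :=
    CokernelCofork.IsColimit.ofπ _ _
      (fun k hk => hc.desc (Cocone.mk _ (NatTrans.ofSequence (fun n => Sigma.ι (fun n => F.obj n) n ≫ k)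
        fun n => by
          simp only [Functor.const_obj_obj, Functor.const_obj_map, Category.comp_id]
          exact hdesc k hk n)))
      (fun k hk => Sigma.hom_ext _ _ fun n => by simp)
      (fun k hk m hm => hc.hom_ext fun n => by
        rw [hc.fac]
        simp [← hm])
  have : Epi (Sigma.desc fun n => c.ι.app n) := Cofork.IsColimit.epi hπ
  exact { exact := ShortComplex.exact_of_g_is_cokernel _ hπ }

end Tele

/-- Sequential colimits of complexes. -/
lemma NoHom.nat (F : ℕ ⥤ CochainComplex A ℤ) {c : Cocone F} (hc : IsColimit c)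
    (h : ∀ n, NoHom (Q.obj (F.obj n)) L) : NoHom (Q.obj c.pt) L :=
  have hS : NoHom (Q.obj (∐ fun n => F.obj n)) L := NoHom.cofan (coproductIsCoproduct _) h
  NoHom.X₃_of_shortExact (tele_shortExact F hc) hS hS

end Groth.Agent.DerComp18
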