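import Groth.Agent.DerComp18.Perp
import Groth.Agent.DerComp18.SecHom
import Groth.Agent.DerComp18.Exists

/-!
Cohomology over an object as global cohomology on the localised site; completion there.
-/

universe u

open CategoryTheory CategoryTheory.Limits Opposite DerivedCategory Pretriangulated

attribute [local instance] HasDerivedCategory.standard

set_option autoImplicit false

namespace Groth.Agent.DerComp18

open Groth.Agent.Mod48 Groth.Agent.Mod48.LocGen

variable {C : Type u} [SmallCategory C] {J : GrothendieckTopology C} {O : Sheaf J CommRingCat.{u}} (U : C)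

/-- `j_! O_U` corepresents global sections of the restriction, in the derived category too. -/
theorem exists_homOver_equiv (M : DerivedCategory (ModSite.Mod O)) :
    Nonempty ((SiteCmp.inD O (ModSite.freeOn O U) ⟶ M) ≃
      (SiteCmp.inD (O.over U) (ModSite.unit (O.over U)) ⟶ (restrD U).obj M)) := by
  have := restr_additive (O := O) U
  have := (restr_exact (O := O) U).1
  have := (restr_exact (O := O) U).2
  let η := (ModSite.extZeroAdj O U).homEquiv (ModSite.unit (O.over U)) _ (𝟙 (ModSite.freeOn O U))
  have hη : ∀ T : ModSite.Mod O, Function.Bijective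
      fun g : ModSite.freeOn O U ⟶ T => η ≫ (ModSite.restr O U).map g := fun T => by
    have e : (fun g : ModSite.freeOn O U ⟶ T => η ≫ (ModSite.restr O U).map g) =
        fun g => (ModSite.extZeroAdj O U).homEquiv (ModSite.unit (O.over U)) T g := funext fun g => by
      have h := (ModSite.extZeroAdj O U).homEquiv_naturality_right (𝟙 (ModSite.freeOn O U)) g
      rw [Category.id_comp] at h
      exact h.symm
    rw [e]
    exact Equiv.bijective _
  have := SiteMod.extZero_preservesFiniteLimits (O := O) U
  have : PreservesFiniteColimits (ModSite.extZero O U) :=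
    ⟨fun _ _ _ => ((ModSite.extZeroAdj O U).leftAdjoint_preservesColimits :
      PreservesColimitsOfSize.{0, 0} (ModSite.extZero O U)).preservesColimitsOfShape⟩
  have : (ModSite.extZero O U).PreservesHomology := Functor.preservesHomologyOfExact _
  exact ⟨Equiv.ofBijective _ (tu_bijective (restrD U) (ModSite.restr O U).mapDerivedCategoryFactorsh.inv η hη
    (enoughKInj_mod O) (fun I _ => inferInstance) (fun I hI => by
      have := Fib44.isKInjective_map_of_adj (ModSite.extZeroAdj O U) I hI
      exact secHom_of_isKInjective _ _) 0 M)⟩

/-- The same for shifts. -/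
theorem exists_homOver_equiv_shift (M : DerivedCategory (ModSite.Mod O)) (p : ℤ) :
    Nonempty ((SiteCmp.inD O (ModSite.freeOn O U) ⟶ M⟦p⟧) ≃
      (SiteCmp.inD (O.over U) (ModSite.unit (O.over U)) ⟶ ((restrD U).obj M)⟦p⟧)) := by
  have := restr_additive (O := O) U
  have := (restr_exact (O := O) U).1
  have := (restr_exact (O := O) U).2
  obtain ⟨e⟩ := exists_homOver_equiv U (M⟦p⟧)
  exact ⟨e.trans (((restrD (O := O) U).commShiftIso p).app M).homToEquiv⟩

/-- Completion commutes with restriction, in the form of an isomorphism. -/
theorem exists_restr_completion_iso {I : DerComp.IdealSh O} (hI : LocSpanned I) [DerComp.HasDerCompletion O I]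
    [DerComp.HasDerCompletion (O.over U) (I.over U)] (F : DerivedCategory (ModSite.Mod O)) :
    Nonempty (((DerComp.derCompletion (O.over U) (I.over U)).obj ((restrD U).obj F)).obj ≅
      (restrD U).obj ((DerComp.derCompletion O I).obj F).obj) := by
  have := restr_additive (O := O) U
  have := (restr_exact (O := O) U).1
  have := (restr_exact (O := O) U).2
  obtain ⟨K, a, b, hT, hK⟩ := exists_triangle_perp I F
  have hD := (ModSite.restr O U).mapDerivedCategory.map_distinguished _ hT
  have hc := isDerComp_restrD I U _ ((DerComp.derCompletion O I).obj F).property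
  have := isIso_homEquiv_symm hc _ _ _ hD (hK.restrD hI U)
  exact ⟨(ObjectProperty.ι _).mapIso (@asIso _ _ _ _ _ this)⟩

end Groth.Agent.DerComp18
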