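import Groth.Agent.SiteMod.PullPairs
import Mathlib.CategoryTheory.Sites.Closed
import Groth.Prelude.Def_ModSite

/-!
Local properties of arrows into inverse images of objects along a morphism of ringed sites may be checked on
inverse images of arrows.
-/

universe u

open CategoryTheory CategoryTheory.Limits Opposite

set_option autoImplicit false

namespace Groth.Agent.DerComp18

open Groth.Agent.SiteMod

variable {C : Type u} [SmallCategory C] {J : GrothendieckTopology C}

variable (J) in
/-- The sheaf of closed sieves. -/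
noncomputable def omegaSh : Sheaf J (Type u) :=
  ⟨(Functor.closedSieves J).toFunctor, (isSheaf_iff_isSheaf_of_type _ _).2 (classifier_isSheaf J)⟩

/-- A local property of sections of a presheaf of sets. -/
structure IsLocalPred (T : Cᵒᵖ ⥤ Type u) (P : ∀ Z : C, T.obj (op Z) → Prop) : Prop where
  stable : ∀ ⦃Z' Z : C⦄ (h : Z' ⟶ Z) (x : T.obj (op Z)), P Z x → P Z' (T.map h.op x)
  glue : ∀ ⦃Z : C⦄ (S : Sieve Z), S ∈ J Z → ∀ x : T.obj (op Z),
    (∀ ⦃Z' : C⦄ (h : Z' ⟶ Z), S h → P Z' (T.map h.op x)) → P Z x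

variable {T : Cᵒᵖ ⥤ Type u} {P : ∀ Z : C, T.obj (op Z) → Prop} (hP : IsLocalPred (J := J) T P)

/-- The sieve where a local property holds. -/
def predSieve (Z : C) (x : T.obj (op Z)) : Sieve Z where
  arrows Z' := {h | P Z' (T.map h.op x)}
  downward_closed {Z' Z''} h hh k := by
    have := hP.stable k _ hh
    rw [← Functor.map_comp_apply, ← op_comp] at this
    exact this

lemma isClosed_predSieve (Z : C) (x : T.obj (op Z)) : J.IsClosed (predSieve hP Z x) := fun Z' h hh =>
  hP.glue _ hh _ fun Z'' k hk => by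
    have : P Z'' (T.map (k ≫ h).op x) := hk
    rw [op_comp, Functor.map_comp_apply] at this
    exact this

/-- The classifying map of a local property. -/
noncomputable def chi : T ⟶ (omegaSh J).obj where
  app Z := ↾fun x => (⟨predSieve hP Z.unop x, isClosed_predSieve hP _ x⟩ :
    {S : Sieve Z.unop // J.IsClosed S})
  naturality Z Z' g := by
    ext x
    refine Subtype.ext (Sieve.ext fun W h => ?_)
    change P W (T.map h.op (T.map g x)) ↔ P W (T.map (h ≫ g.unop).op x)
    rw [← Functor.map_comp_apply]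
    rfl

/-- The constant map to the largest sieve. -/
noncomputable def chiTop (T : Cᵒᵖ ⥤ Type u) : T ⟶ (omegaSh J).obj where
  app Z := ↾fun _ => (⟨⊤, fun _ _ _ => trivial⟩ : {S : Sieve Z.unop // J.IsClosed S})
  naturality Z Z' g := by
    ext x
    exact Subtype.ext Sieve.pullback_top.symm

include hP in
lemma pred_of_chi_eq_top (h : chi hP = chiTop T) (Z : C) (x : T.obj (op Z)) : P Z x := by
  have h1 : predSieve hP Z x = ⊤ := congrArg Subtype.val (congrArg (fun (t : T ⟶ (omegaSh J).obj) => t.app (op Z) x) h)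
  have h2 : (predSieve hP Z x).arrows (𝟙 Z) := by rw [h1]; trivial
  have h3 : P Z (T.map (𝟙 Z).op x) := h2
  rw [op_id, Functor.map_id_apply] at h3
  exact h3

lemma chi_eq_top_of_pred (Z : C) (x : T.obj (op Z)) (h : P Z x) : predSieve hP Z x = ⊤ :=
  Sieve.ext fun _ k => ⟨fun _ => trivial, fun _ => hP.stable k x h⟩

variable {D : Type u} [SmallCategory D] {K : GrothendieckTopology D} {O_C : Sheaf J CommRingCat.{u}}
  {O_D : Sheaf K CommRingCat.{u}} (f : ModSite.RMor O_C O_D)

/-- A local property of pairs of arrows into inverse images may be checked on inverse images of pairs. -/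
theorem pred_pairs (X Y : D) {P : ∀ Z : C, (prodT (f.fn.obj X) (f.fn.obj Y)).obj (op Z) → Prop}
    (hP : IsLocalPred (J := J) (prodT (f.fn.obj X) (f.fn.obj Y)) P)
    (h : ∀ (W : D) (a : W ⟶ X) (b : W ⟶ Y), P (f.fn.obj W) (f.fn.map a, f.fn.map b))
    (Z : C) (x : (prodT (f.fn.obj X) (f.fn.obj Y)).obj (op Z)) : P Z x := by
  refine pred_of_chi_eq_top hP ((bijective_pairMap J K f.fn X Y (omegaSh J)).1 ?_) Z x
  ext W p
  exact Subtype.ext (chi_eq_top_of_pred hP _ _ (h W.unop p.1 p.2))

/-- A local property of arrows into the inverse image of an object may be checked on the image of a covering. -/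
theorem pred_cover (X : D) {P : ∀ Z : C, (Z ⟶ f.fn.obj X) → Prop}
    (hP : IsLocalPred (J := J) (yoneda.obj (f.fn.obj X)) P)
    (S : Sieve X) (hS : S ∈ K X) (h : ∀ ⦃W : D⦄ (a : W ⟶ X), S a → P (f.fn.obj W) (f.fn.map a))
    (Z : C) (x : Z ⟶ f.fn.obj X) : P Z x := by
  have hsh := f.fn.op_comp_isSheaf_of_types K J (omegaSh J)
  have key : (chi hP).app (op (f.fn.obj X)) (𝟙 _) = (chiTop (yoneda.obj (f.fn.obj X))).app (op (f.fn.obj X)) (𝟙 _) := by
    refine (hsh S hS).isSeparatedFor.ext fun W a ha => ?_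
    refine ((congrArg (fun t => t (𝟙 (f.fn.obj X))) ((chi hP).naturality (f.fn.map a).op)).symm.trans ?_).trans
      (congrArg (fun t => t (𝟙 (f.fn.obj X))) ((chiTop (J := J) (yoneda.obj (f.fn.obj X))).naturality (f.fn.map a).op))
    refine Subtype.ext (chi_eq_top_of_pred hP _ _ ?_)
    change P (f.fn.obj W) (f.fn.map a ≫ 𝟙 _)
    rw [Category.comp_id]
    exact h a ha
  have h1 : (predSieve hP (f.fn.obj X) (𝟙 _)).arrows x := by
    rw [show predSieve hP (f.fn.obj X) (𝟙 _) = ⊤ from congrArg Subtype.val key]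
    trivial
  have h2 : P Z (x ≫ 𝟙 _) := h1
  rwa [Category.comp_id] at h2

end Groth.Agent.DerComp18
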