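import Groth.Agent.DerComp18.Generate
import Groth.Prelude.Def_DerComp

/-!
Sections killed, locally, by polynomials in an endomorphism congruent to a power of the variable.
-/

universe u

open CategoryTheory CategoryTheory.Limits Opposite Polynomial

set_option autoImplicit false

namespace Groth.Agent.DerComp18

open Groth.Agent.Mod48

variable {C : Type u} [SmallCategory C] {J : GrothendieckTopology C} {O : Sheaf J CommRingCat.{u}}

/-- The ideal of `O(W)` spanned by a list of global sections. -/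
noncomputable def spanAt : List (DerComp.GSec O) → ∀ W : C, Ideal (O.obj.obj (op W))
  | [], _ => ⊥
  | s :: l, W => Ideal.span {s.1 W} ⊔ spanAt l W

lemma map_spanAt (l : List (DerComp.GSec O)) {V W : C} (g : V ⟶ W) :
    (spanAt l W).map (O.obj.map g.op).hom ≤ spanAt l V := by
  induction l with
  | nil => exact (Ideal.map_bot).le
  | cons s l ih =>
    rw [spanAt, spanAt, Ideal.map_sup, Ideal.map_span, Set.image_singleton, s.2 g]
    exact sup_le_sup le_rfl ih

lemma mem_spanAt {l : List (DerComp.GSec O)} {s : DerComp.GSec O} (h : s ∈ l) (W : C) : s.1 W ∈ spanAt l W := by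
  induction l with
  | nil => simp at h
  | cons t l ih =>
    rw [spanAt]
    rcases List.mem_cons.1 h with rfl | h'
    · exact Ideal.mem_sup_left (Ideal.subset_span rfl)
    · exact Ideal.mem_sup_right (ih h')

/-- An endomorphism on sections. -/
noncomputable def eS {M : ModSite.Mod O} (e : M ⟶ M) (W : C) :
    Module.End (O.obj.obj (op W)) ((pre M).obj (op W)) :=
  ((fgt.map e).app (op W)).hom

lemma res_aeval {M : ModSite.Mod O} (e : M ⟶ M) {V W : C} (g : V ⟶ W) (p : (O.obj.obj (op W))[X])
    (x : (pre M).obj (op W)) :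
    res (pre M) g.op (aeval (eS e W) p x) = aeval (eS e V) (p.map (O.obj.map g.op).hom) (res (pre M) g.op x) := by
  induction p using Polynomial.induction_on' with
  | add p q hp hq =>
    simp only [map_add, Polynomial.map_add, LinearMap.add_apply]
    rw [res_add, hp, hq]
  | monomial n r =>
    simp only [Polynomial.map_monomial, aeval_monomial, Module.algebraMap_end_apply, Module.End.mul_apply]
    rw [res_smul]
    refine congrArg ((O.obj.map g.op).hom r • ·) ?_
    induction n with
    | zero => simp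
    | succ n ih =>
      rw [pow_succ', pow_succ', Module.End.mul_apply, Module.End.mul_apply, ← ih]
      exact (app_res (fgt.map e) g.op _).symm

lemma app_aeval {M N : ModSite.Mod O} (e : M ⟶ M) (e' : N ⟶ N) (h : M ⟶ N) (he : e ≫ h = h ≫ e') (W : C)
    (p : (O.obj.obj (op W))[X]) (x : (pre M).obj (op W)) :
    ((fgt.map h).app (op W)).hom (aeval (eS e W) p x) = aeval (eS e' W) p (((fgt.map h).app (op W)).hom x) := by
  induction p using Polynomial.induction_on' with
  | add p q hp hq =>
    simp only [map_add, LinearMap.add_apply]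
    rw [hp, hq]
  | monomial n r =>
    simp only [aeval_monomial, Module.algebraMap_end_apply, Module.End.mul_apply]
    refine (LinearMap.map_smul _ r _).trans (congrArg (r • ·) ?_)
    induction n with
    | zero => simp
    | succ n ih =>
      rw [pow_succ', pow_succ', Module.End.mul_apply, Module.End.mul_apply, ← ih]
      exact congrArg (fun t : M ⟶ N => ((fgt.map t).app (op W)).hom ((eS e W ^ n) x)) he

/-- Locally killed by a polynomial congruent to a power of the variable modulo a family of ideals. -/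
def KilledBy (a : ∀ W : C, Ideal (O.obj.obj (op W))) {M : ModSite.Mod O} (e : M ⟶ M) (W : C)
    (x : (pre M).obj (op W)) : Prop :=
  ∃ S ∈ J W, ∀ ⦃V : C⦄ (g : V ⟶ W), S g → ∃ (p : (O.obj.obj (op V))[X]) (n : ℕ),
    p - X ^ n ∈ (a V).map Polynomial.C ∧ aeval (eS e V) p (res (pre M) g.op x) = 0

/-- Locally killed by a polynomial congruent to a power of the variable modulo `spanAt l`. -/
abbrev Killed (l : List (DerComp.GSec O)) {M : ModSite.Mod O} (e : M ⟶ M) (W : C) (x : (pre M).obj (op W)) : Prop :=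
  KilledBy (spanAt l) e W x

section Killed

variable {I : ∀ W : C, Ideal (O.obj.obj (op W))} {l : List (DerComp.GSec O)} {M : ModSite.Mod O} {e : M ⟶ M}

lemma killed_zero (W : C) : KilledBy I e W (0 : (pre M).obj (op W)) :=
  ⟨⊤, J.top_mem W, fun V g _ => ⟨1, 0, by simp, by rw [res_zero', map_zero]⟩⟩

lemma killed_add {W : C} {x y : (pre M).obj (op W)} (hx : KilledBy I e W x) (hy : KilledBy I e W y) :
    KilledBy I e W (x + y) := by
  obtain ⟨S, hS, hS'⟩ := hx
  obtain ⟨T, hT, hT'⟩ := hy
  refine ⟨S ⊓ T, J.intersection_covering hS hT, fun V g hg => ?_⟩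
  obtain ⟨p, n, hp, hp'⟩ := hS' g hg.1
  obtain ⟨q, k, hq, hq'⟩ := hT' g hg.2
  refine ⟨p * q, n + k, ?_, ?_⟩
  · have : p * q - X ^ (n + k) = (p - X ^ n) * q + X ^ n * (q - X ^ k) := by ring
    rw [this]
    exact Ideal.add_mem _ (Ideal.mul_mem_right _ _ hp) (Ideal.mul_mem_left _ _ hq)
  · rw [res_add, map_add]
    have h1 : aeval (eS e V) (p * q) (res (pre M) g.op x) = 0 := by
      rw [mul_comm, map_mul, Module.End.mul_apply, hp', map_zero]
    have h2 : aeval (eS e V) (p * q) (res (pre M) g.op y) = 0 := by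
      rw [map_mul, Module.End.mul_apply, hq', map_zero]
    rw [h1, h2, add_zero]

lemma killed_smul {W : C} (r : O.obj.obj (op W)) {x : (pre M).obj (op W)} (hx : KilledBy I e W x) :
    KilledBy I e W (r • x) := by
  obtain ⟨S, hS, hS'⟩ := hx
  refine ⟨S, hS, fun V g hg => ?_⟩
  obtain ⟨p, n, hp, hp'⟩ := hS' g hg
  refine ⟨p, n, hp, ?_⟩
  rw [res_smul]
  exact (LinearMap.map_smul _ _ _).trans ((congrArg _ hp').trans (smul_zero _))

lemma killed_res {V W : C} (g : V ⟶ W) {x : (pre M).obj (op W)} (hx : KilledBy I e W x) :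
    KilledBy I e V (res (pre M) g.op x) := by
  obtain ⟨S, hS, hS'⟩ := hx
  refine ⟨S.pullback g, J.pullback_stable g hS, fun Z h hh => ?_⟩
  obtain ⟨p, n, hp, hp'⟩ := hS' (h ≫ g) hh
  exact ⟨p, n, hp, by rw [res_res]; exact hp'⟩

lemma killed_local {W : C} {S : Sieve W} (hS : S ∈ J W) {x : (pre M).obj (op W)}
    (h : ∀ ⦃V : C⦄ (g : V ⟶ W), S g → KilledBy I e V (res (pre M) g.op x)) : KilledBy I e W x := by
  choose T hT hT' using h
  refine ⟨Sieve.bind S.1 T, J.bind_covering hS hT, fun Z k hk => ?_⟩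
  obtain ⟨V, a, b, hb, ha, rfl⟩ := hk
  obtain ⟨p, n, hp, hp'⟩ := hT' b hb a ha
  refine ⟨p, n, hp, ?_⟩
  rw [res_res] at hp'
  exact hp'

/-- A section acted on by a section of the span is killed. -/
lemma killed_of_eigen {W : C} {x : (pre M).obj (op W)} (a : O.obj.obj (op W)) (he : eS e W x = a • x)
    (ha : ∃ S ∈ J W, ∀ ⦃V : C⦄ (g : V ⟶ W), S g → (O.obj.map g.op).hom a ∈ I V) : KilledBy I e W x := by
  obtain ⟨S, hS, hS'⟩ := ha
  refine ⟨S, hS, fun V g hg => ⟨X - Polynomial.C ((O.obj.map g.op).hom a), 1, ?_, ?_⟩⟩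
  · rw [pow_one, sub_sub_cancel_left]
    exact neg_mem (Ideal.mem_map_of_mem _ (hS' g hg))
  · have h0 : eS e V (res (pre M) g.op x) = (O.obj.map g.op).hom a • res (pre M) g.op x :=
      (app_res (fgt.map e) g.op x).trans ((congrArg (res (pre M) g.op) he).trans (res_smul _ _ _ _))
    simp only [map_sub, aeval_X, aeval_C, LinearMap.sub_apply, Module.algebraMap_end_apply]
    rw [h0, sub_self]

/-- For the empty list an invertible endomorphism leaves nothing. -/
lemma isZero_of_killed_nil [IsIso e] (h : ∀ W x, Killed [] e W x) : IsZero M := by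
  refine (modGen O).detect fun W a => (freeOnEquiv W M).injective ((?_ : freeOnEquiv W M a = 0).trans
    (freeOnEquiv_zero W M).symm)
  obtain ⟨S, hS, hS'⟩ := h W (freeOnEquiv W M a)
  refine eq_zero_of_locally _ hS fun V g hg => ?_
  obtain ⟨p, n, hp, hp'⟩ := hS' g hg
  rw [spanAt, Ideal.map_bot, Ideal.mem_bot, sub_eq_zero] at hp
  rw [hp, aeval_X_pow] at hp'
  have hinj : Function.Injective (eS e V) := app_injective_of_mono e V
  clear hp
  induction n with
  | zero => simpa using hp'
  | succ n ih =>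
    rw [pow_succ', Module.End.mul_apply] at hp'
    exact ih (hinj (hp'.trans (map_zero (eS e V)).symm))

lemma killed_of_mono {K : ModSite.Mod O} (i : K ⟶ M) [Mono i] (eK : K ⟶ K) (hi : eK ≫ i = i ≫ e) {W : C}
    (x : (pre K).obj (op W)) (hx : KilledBy I e W (((fgt.map i).app (op W)).hom x)) : KilledBy I eK W x := by
  obtain ⟨S, hS, hS'⟩ := hx
  refine ⟨S, hS, fun V g hg => ?_⟩
  obtain ⟨p, n, hp, hp'⟩ := hS' g hg
  refine ⟨p, n, hp, app_injective_of_mono i V ?_⟩
  rw [app_aeval eK e i hi, map_zero]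
  exact (congrArg (aeval (eS e V) p) (app_res (fgt.map i) g.op x)).trans hp'

lemma killed_of_epi {Q : ModSite.Mod O} (π : M ⟶ Q) [Epi π] (eQ : Q ⟶ Q) (hπ : e ≫ π = π ≫ eQ)
    (h : ∀ W x, KilledBy I e W x) (W : C) (y : (pre Q).obj (op W)) : KilledBy I eQ W y := by
  obtain ⟨S, hS, hS'⟩ := exists_lift_of_epi π W y
  refine killed_local hS fun V g hg => ?_
  obtain ⟨x, hx⟩ := hS' g hg
  rw [← hx]
  obtain ⟨T, hT, hT'⟩ := h V x
  refine ⟨T, hT, fun Z k hk => ?_⟩
  obtain ⟨p, n, hp, hp'⟩ := hT' k hk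
  refine ⟨p, n, hp, ?_⟩
  have := (app_aeval e eQ π hπ Z p (res (pre M) k.op x)).symm.trans ((congrArg _ hp').trans (map_zero _))
  exact (congrArg (aeval (eS eQ Z) p) (app_res (fgt.map π) k.op x).symm).trans this

/-- Drop a section which acts by zero. -/
lemma killed_tail {s : DerComp.GSec O} (hs : DerComp.smulEnd s M = 0) {W : C} {x : (pre M).obj (op W)}
    (hx : Killed (s :: l) e W x) : Killed l e W x := by
  obtain ⟨S, hS, hS'⟩ := hx
  refine ⟨S, hS, fun V g hg => ?_⟩
  obtain ⟨p, n, hp, hp'⟩ := hS' g hg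
  rw [spanAt, Ideal.map_sup, Ideal.map_span, Set.image_singleton, Submodule.mem_sup] at hp
  obtain ⟨a, ha, b, hb, hab⟩ := hp
  obtain ⟨c, rfl⟩ := Ideal.mem_span_singleton'.1 ha
  refine ⟨X ^ n + b, n, by rwa [add_sub_cancel_left], ?_⟩
  have h0 : ∀ z : (pre M).obj (op V), s.1 V • z = 0 := fun z =>
    (DerComp.smulEnd_apply s M (op V) z).symm.trans
      (congrArg (fun t : M ⟶ M => (t.val.app (op V)).hom z) hs)
  have hd : aeval (eS e V) (c * Polynomial.C (s.1 V)) (res (pre M) g.op x) = 0 := by
    simp only [map_mul, aeval_C, Module.End.mul_apply, Module.algebraMap_end_apply]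
    rw [h0, map_zero]
  have e1 : p = c * Polynomial.C (s.1 V) + (X ^ n + b) := by linear_combination -hab
  rw [e1, map_add, LinearMap.add_apply, hd, zero_add] at hp'
  exact hp'

end Killed

end Groth.Agent.DerComp18
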