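import Groth.Agent.DerComp18.SheafHomFinite
import Groth.Agent.DerComp18.KCone
import Groth.Agent.DerComp18.Gen
import Groth.Agent.DR40.CompFinite
import Groth.Agent.AdicC27.Approx
import Groth.Agent.DerComp18.AffineFinite

/-!
Derived completion is fully faithful on coherent complexes of a proper scheme over a complete Noetherian ring.
-/

universe u

open CategoryTheory CategoryTheory.Limits CategoryTheory.Pretriangulated AlgebraicGeometry DerivedCategory

attribute [local instance] HasDerivedCategory.standard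

set_option autoImplicit false
set_option synthInstance.maxHeartbeats 200000
set_option linter.style.haveILetI false

namespace Groth.Agent.DerComp18

open Groth.Agent.Mod48 Groth.Agent.Mod48.LocGen

section Five

variable {D : Type*} [Category D] [Preadditive D] {F : D} (e : F ⟶ F)

lemma Phi_comp {T T' : D} (f : T ⟶ T') (x : ℕ → (F ⟶ T)) :
    Phi e T' (fun n => x n ≫ f) = fun n => Phi e T x n ≫ f := by
  funext n
  simp [Phi, Category.assoc]

lemma Phi_sub {T : D} (x y : ℕ → (F ⟶ T)) : Phi e T (fun n => x n - y n) = fun n => Phi e T x n - Phi e T y n := by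
  funext n
  simp only [Phi, Preadditive.comp_sub]
  abel

lemma Phi_zero {T : D} : Phi e T 0 = 0 := by
  funext n
  simp [Phi]

variable [HasZeroObject D] [HasShift D ℤ] [∀ n : ℤ, (shiftFunctor D n).Additive] [Pretriangulated D]

/-- Completeness passes to the third vertex. -/
lemma compEnd_obj₃ {T : Triangle D} (hT : T ∈ distinguishedTriangles) (h₁ : CompEnd e T.obj₁)
    (h₂ : CompEnd e T.obj₂) (h₁' : CompEnd e (T.obj₁⟦(1 : ℤ)⟧)) (h₂' : CompEnd e (T.obj₂⟦(1 : ℤ)⟧)) :
    CompEnd e T.obj₃ := by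
  refine ⟨fun x x' hxx => ?_, fun y => ?_⟩
  · suffices key : ∀ x, Phi e T.obj₃ x = 0 → x = 0 from by
      have := key (fun n => x n - x' n) (by rw [Phi_sub, hxx]; funext n; exact sub_self _)
      funext n
      exact sub_eq_zero.1 (congrFun this n)
    intro x hx
    have h : (fun n => x n ≫ T.mor₃) = 0 := h₁'.1 (by
      rw [Phi_comp, hx, Phi_zero]
      funext n
      exact zero_comp)
    choose y hy using fun n => Triangle.coyoneda_exact₃ T hT (x n) (congrFun h n)
    have hg : ∀ n, Phi e T.obj₂ y n ≫ T.mor₂ = 0 := fun n => by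
      have := congrFun (Phi_comp e T.mor₂ y) n
      rw [← this, ← funext hy]
      exact congrFun hx n
    choose z hz using fun n => Triangle.coyoneda_exact₂ T hT _ (hg n)
    obtain ⟨w, hw⟩ := h₁.2 z
    have hyw : y = fun n => w n ≫ T.mor₁ := h₂.1 (by
      rw [Phi_comp, hw]
      exact funext hz)
    funext n
    rw [hy n, hyw, Category.assoc, comp_distTriang_mor_zero₁₂ _ hT, comp_zero]
    rfl
  · obtain ⟨u, hu⟩ := h₁'.2 fun n => y n ≫ T.mor₃
    have h : (fun n => u n ≫ T.mor₁⟦(1 : ℤ)⟧') = 0 := h₂'.1 (by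
      rw [Phi_comp, hu, Phi_zero]
      funext n
      change (y n ≫ T.mor₃) ≫ T.mor₁⟦(1 : ℤ)⟧' = 0
      rw [Category.assoc, comp_distTriang_mor_zero₃₁ _ hT, comp_zero])
    choose x hx using fun n => Triangle.coyoneda_exact₁ T hT (u n) (congrFun h n)
    have hv : ∀ n, (y n - Phi e T.obj₃ x n) ≫ T.mor₃ = 0 := fun n => by
      rw [Preadditive.sub_comp, ← congrFun (Phi_comp e T.mor₃ x) n, ← funext hx, hu, sub_self]
    choose v hv' using fun n => Triangle.coyoneda_exact₃ T hT _ (hv n)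
    obtain ⟨t, ht⟩ := h₂.2 v
    refine ⟨fun n => x n + t n ≫ T.mor₂, funext fun n => ?_⟩
    have h1 := congrFun (Phi_comp e T.mor₂ t) n
    rw [ht] at h1
    have h2 := hv' n
    simp only [Phi, Preadditive.comp_add] at h1 h2 ⊢
    rw [eq_add_of_sub_eq h2]
    rw [← h1]
    abel

/-- Completeness of all shifts passes to the third vertex. -/
lemma compEnd_shift_obj₃ {T : Triangle D} (hT : T ∈ distinguishedTriangles)
    (h₁ : ∀ n : ℤ, CompEnd e (T.obj₁⟦n⟧)) (h₂ : ∀ n : ℤ, CompEnd e (T.obj₂⟦n⟧)) (n : ℤ) :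
    CompEnd e (T.obj₃⟦n⟧) := by
  refine compEnd_obj₃ e (Triangle.shift_distinguished T hT n) (h₁ n) (h₂ n) ?_ ?_
  · exact (compEnd_iff_of_iso e e (Iso.refl F) ((shiftFunctorAdd' D n 1 (n + 1) rfl).app T.obj₁) (by simp)).1
      (h₁ (n + 1))
  · exact (compEnd_iff_of_iso e e (Iso.refl F) ((shiftFunctorAdd' D n 1 (n + 1) rfl).app T.obj₂) (by simp)).1
      (h₂ (n + 1))

variable {R : Type*} [Semiring R] [Linear R D]

/-- Maps into an object on whose cone they vanish, complete for the scalar, vanish. -/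
lemma eq_zero_of_triangle (F : D) {X N : D} (s : R) {p : X ⟶ N} {q : N ⟶ X⟦(1 : ℤ)⟧}
    (hT : Triangle.mk (s • 𝟙 X) p q ∈ distinguishedTriangles) (hN : ∀ (n : ℤ) (y : F ⟶ N⟦n⟧), y = 0)
    (hs : ∀ n : ℤ, (s • 𝟙 X)⟦n⟧' = s • 𝟙 (X⟦n⟧)) (hc : ∀ n : ℤ, CompEnd (s • 𝟙 F) (X⟦n⟧)) (n : ℤ)
    (x : F ⟶ X⟦n⟧) : x = 0 := by
  have hT' := Triangle.shift_distinguished _ hT n
  let T' := (Triangle.shiftFunctor D n).obj (Triangle.mk (s • 𝟙 X) p q)
  have hm : ∀ y : F ⟶ X⟦n⟧, y ≫ T'.mor₁ = n.negOnePow • ((s • 𝟙 F) ≫ y) := fun y => by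
    change y ≫ (n.negOnePow • (s • 𝟙 X)⟦n⟧') = _
    rw [Linear.comp_units_smul, hs, Linear.comp_smul,
      Category.comp_id, Linear.smul_comp, Category.id_comp]
  refine eq_zero_of_compEnd (hc n) ⟨fun y y' hy => sub_eq_zero.1 ?_, fun y => ?_⟩ x
  · have hy0 : (s • 𝟙 F) ≫ (y - y') = 0 := by rw [Preadditive.comp_sub, sub_eq_zero]; exact hy
    obtain ⟨g, hg⟩ := Triangle.coyoneda_exact₂ _ (inv_rot_of_distTriang _ hT') (y - y') (by
      refine (hm (y - y')).trans ?_
      rw [hy0, smul_zero]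
      rfl)
    let i := (shiftFunctorAdd' D n (-1) (n + -1) rfl).app N
    have h1 : (g : F ⟶ (N⟦n⟧)⟦(-1 : ℤ)⟧) = 0 := (cancel_mono i.inv).1 ((hN _ _).trans zero_comp.symm)
    rw [hg]
    exact (congrArg (· ≫ _) h1).trans zero_comp
  · obtain ⟨g, hg⟩ := Triangle.coyoneda_exact₂ _ hT' y (hN n _)
    refine ⟨n.negOnePow • g, ?_⟩
    change (s • 𝟙 F) ≫ (n.negOnePow • g) = y
    rw [Linear.comp_units_smul]
    exact (hm g).symm.trans hg.symm

end Five

section Derived

variable {A : Type*} [Category A] [Abelian A] [HasDerivedCategory A] (F : DerivedCategory A)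

lemma compEnd_shift_obj₃D (e : F ⟶ F) {T : Triangle (DerivedCategory A)} (hT : T ∈ distinguishedTriangles)
    (h₁ : ∀ n : ℤ, CompEnd e (T.obj₁⟦n⟧)) (h₂ : ∀ n : ℤ, CompEnd e (T.obj₂⟦n⟧)) (n : ℤ) :
    CompEnd e (T.obj₃⟦n⟧) :=
  compEnd_shift_obj₃ e hT h₁ h₂ n

lemma eq_zero_of_triangleD {R : Type*} [Ring R] [Linear R A] {X N : DerivedCategory A} (s : R) {p : X ⟶ N}
    {q : N ⟶ X⟦(1 : ℤ)⟧} (hT : Triangle.mk (s • 𝟙 X) p q ∈ distinguishedTriangles)
    (hN : ∀ (n : ℤ) (y : F ⟶ N⟦n⟧), y = 0) (hc : ∀ n : ℤ, CompEnd (s • 𝟙 F) (X⟦n⟧)) (n : ℤ) (x : F ⟶ X⟦n⟧) :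
    x = 0 :=
  eq_zero_of_triangle F s hT hN (fun k => by rw [Functor.map_smul, CategoryTheory.Functor.map_id]) hc n x

/-- Maps out of `F` along a triangle on whose cone they vanish. -/
lemma comp_bijective_of_triangle {X N L : DerivedCategory A} {r : X ⟶ L} {p : L ⟶ N} {q : N ⟶ X⟦(1 : ℤ)⟧}
    (hT : Triangle.mk r p q ∈ distinguishedTriangles) (hN : ∀ (n : ℤ) (y : F ⟶ N⟦n⟧), y = 0) :
    Function.Bijective fun ψ : F ⟶ X => ψ ≫ r := by
  refine ⟨fun y y' hy => sub_eq_zero.1 ?_, fun y => ?_⟩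
  · obtain ⟨g, hg⟩ := Triangle.coyoneda_exact₂ _ (inv_rot_of_distTriang _ hT) (y - y') (by
      change (y - y') ≫ r = 0
      rw [Preadditive.sub_comp, sub_eq_zero]
      exact hy)
    rw [hg, show (g : F ⟶ N⟦(-1 : ℤ)⟧) = 0 from hN _ g]
    exact zero_comp
  · have h0 : y ≫ p = 0 := by
      rw [← cancel_mono ((shiftFunctorZero (DerivedCategory A) ℤ).inv.app N), zero_comp]
      exact hN 0 _
    obtain ⟨g, hg⟩ := Triangle.coyoneda_exact₂ _ hT y h0
    exact ⟨g, hg.symm⟩

lemma isGE_shiftD (G : DerivedCategory A) (b n : ℤ) [G.IsGE b] : (G⟦n⟧).IsGE (b - n) :=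
  TStructure.t.isGE_shift G b n (b - n) (by omega)

end Derived

section Finite

variable {D : Type*} [Category D] [Preadditive D] {B : Type*} [CommRing B] [Linear B D]

/-- A finite module of maps is complete for a scalar from a complete ideal of a ring over which it is finite. -/
lemma compEnd_of_finite {A : Type*} [CommRing A] [IsNoetherianRing A] (φ : A →+* B) (hφ : φ.Finite) (I : Ideal A)
    [IsAdicComplete I A] (F G : D) (h : Module.Finite B (F ⟶ G)) {r : A} (hr : r ∈ I) :
    CompEnd (φ r • 𝟙 F) G := by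
  letI := φ.toAlgebra
  letI := Module.compHom (F ⟶ G) φ
  haveI : IsScalarTower A B (F ⟶ G) := ⟨fun a b x => mul_smul (φ a) b x⟩
  haveI : Module.Finite A B := hφ
  haveI := h
  haveI : Module.Finite A (F ⟶ G) := Module.Finite.trans B _
  haveI := AdicC27.isAdicComplete_of_finite (I := I) (F ⟶ G)
  have hc := DR39.DCM.comp_of_isAdicComplete (M := F ⟶ G) I hr
  have e : Phi (φ r • 𝟙 F) G = fun x n => x n - r • x (n + 1) := by
    funext x n
    rw [Phi, Linear.smul_comp, Category.id_comp]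
    rfl
  rw [CompEnd, e]
  exact hc

end Finite

section Site

variable {C : Type u} [SmallCategory C] {J : GrothendieckTopology C} {O : Sheaf J CommRingCat.{u}}

/-- No maps from `F` to an orthogonal object along sections for which all maps out of `F` are complete. -/
theorem eq_zero_of_perp_spanSh (F : DerivedCategory (ModSite.Mod O)) : ∀ (l : List (DerComp.GSec O))
    (X : DerivedCategory (ModSite.Mod O)), (∀ s ∈ l, ∀ n : ℤ, CompEnd (s • 𝟙 F) (X⟦n⟧)) → Perp (spanSh l) X →
    ∀ (n : ℤ) (x : F ⟶ X⟦n⟧), x = 0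
  | [], X, _, hX, n, x => by
    have h0 := hX X (isDerComp_spanSh [] _ fun s hs => absurd hs List.not_mem_nil) 0
    have h0' : Subsingleton (X ⟶ X) :=
      (Equiv.subsingleton_congr ((shiftFunctorZero (DerivedCategory (ModSite.Mod O)) ℤ).app X).homToEquiv).1 h0
    rw [← Category.comp_id x, ← CategoryTheory.Functor.map_id, Subsingleton.elim (𝟙 X) 0, Functor.map_zero, comp_zero]
  | s :: l, X, hc, hX, n, x => by
    obtain ⟨N, p, q, hT⟩ := distinguished_cocone_triangle (s • 𝟙 X)
    exact eq_zero_of_triangleD F s hT (eq_zero_of_perp_spanSh F l N (fun r hr => compEnd_shift_obj₃D F _ hT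
      (fun k => hc r (List.mem_cons_of_mem _ hr) k) fun k => hc r (List.mem_cons_of_mem _ hr) k)
      ((perp_spanSh_triangle s l hT).1 hX))
      (hc s List.mem_cons_self) n x

/-- **Derived completion is bijective on maps out of `F` into `G`** when the maps from `F` to all shifts of `G` are
complete along spanning global sections. -/
theorem derCompletion_map_bijective {I : DerComp.IdealSh O} [DerComp.HasDerCompletion O I]
    (F G : DerivedCategory (ModSite.Mod O)) (l : List (DerComp.GSec O)) (hl : ∀ s ∈ l, ∀ U : C, s.1 U ∈ I.ideal U)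
    (hI : I ≤ spanSh l) (hG : ∀ s ∈ l, ∀ n : ℤ, CompEnd (s • 𝟙 F) (G⟦n⟧)) :
    Function.Bijective fun ψ : F ⟶ G => (DerComp.derCompletion O I).map ψ := by
  obtain ⟨K, a, b, hT, hK⟩ := exists_triangle_perp I G
  have hĜ : ∀ s ∈ l, ∀ n : ℤ, CompEnd (s • 𝟙 F) ((((DerComp.derCompletion O I).obj G).obj)⟦n⟧) := fun s hs n =>
    compEnd_smul_of_local s _ (fun U => ⟨⊤, J.top_mem U, fun V _ _ m => (isDerComp_iff O I _).1
      (isDerComp_shift ((DerComp.derCompletion O I).obj G).property n) V _ (hl s hs V) m⟩) F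
  have hK0 : ∀ (n : ℤ) (y : F ⟶ K⟦n⟧), y = 0 :=
    eq_zero_of_perp_spanSh F l K (fun s hs => compEnd_shift_obj₃D F _ hT (hG s hs) (hĜ s hs))
      fun L hL => hK L ((isDerComp_iff_spanSh hl hI L).2 hL)
  let E := (DerComp.derCompletionAdj O I).homEquiv F ((DerComp.derCompletion O I).obj G)
  have key : (fun ψ : F ⟶ G => ψ ≫ DerComp.toDerCompletion I G) =
      E ∘ fun ψ : F ⟶ G => (DerComp.derCompletion O I).map ψ := by
    funext ψ
    refine Eq.trans ?_ ((DerComp.derCompletionAdj O I).homEquiv_unit _ _ _).symm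
    exact (DerComp.derCompletionAdj O I).unit.naturality ψ
  exact (Function.Bijective.of_comp_iff' E.bijective _).1 (key ▸ comp_bijective_of_triangle F hT hK0)

end Site

section Scheme

variable {X : Scheme.{u}}

variable (X) in
/-- The global sections attached to the elements of the base ring. -/
noncomputable def baseGSec (A : Type u) [CommRing A] [X.Over (Spec (CommRingCat.of A))] :
    A →+* DerComp.GSec X.sheaf :=
  (gsecEquiv X.sheaf (isTerminalTop (α := X.Opens))).symm.toRingHom.comp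
    ((Scheme.ΓSpecIso (CommRingCat.of A)).inv ≫ (X ↘ Spec (CommRingCat.of A)).appTop).hom

/-- Global sections of a proper scheme are finite over the base ring. -/
lemma baseGSec_finite (A : Type u) [CommRing A] [IsNoetherianRing A] [X.Over (Spec (CommRingCat.of A))]
    [IsProper (X ↘ Spec (CommRingCat.of A))] : (baseGSec X A).Finite :=
  (RingHom.Finite.of_surjective (gsecEquiv X.sheaf (isTerminalTop (α := X.Opens))).symm.toRingHom
    (gsecEquiv X.sheaf (isTerminalTop (α := X.Opens))).symm.surjective).comp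
      (LimTop61.finite_appTop_of_isProper (CommRingCat.of A) (X ↘ Spec (CommRingCat.of A)))

/-- Maps between coherent complexes are complete along a complete ideal of the base. -/
theorem compEnd_baseGSec {A : Type u} [CommRing A] [IsNoetherianRing A] (I : Ideal A) [IsAdicComplete I A]
    [X.Over (Spec (CommRingCat.of A))] [IsProper (X ↘ Spec (CommRingCat.of A))]
    (F G : DerivedCategory (ModSite.Mod X.sheaf)) (hF : DCoh.IsCohD (X := X) F) (hG : DCoh.IsCohD (X := X) G)
    (a b : ℤ) [F.IsLE a] [G.IsGE b] {r : A} (hr : r ∈ I) : CompEnd (baseGSec X A r • 𝟙 F) G := by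
  have := finite_hom_cohD A F G hF hG a b
  exact compEnd_of_finite (baseGSec X A) (baseGSec_finite A) I F G this hr

/-- The same for all shifts of the target. -/
theorem compEnd_baseGSec_shift {A : Type u} [CommRing A] [IsNoetherianRing A] (I : Ideal A) [IsAdicComplete I A]
    [X.Over (Spec (CommRingCat.of A))] [IsProper (X ↘ Spec (CommRingCat.of A))]
    (F G : DerivedCategory (ModSite.Mod X.sheaf)) (hF : DCoh.IsCohD (X := X) F) (hG : DCoh.IsCohD (X := X) G)
    (a b : ℤ) [F.IsLE a] [G.IsGE b] {r : A} (hr : r ∈ I) (n : ℤ) : CompEnd (baseGSec X A r • 𝟙 F) (G⟦n⟧) :=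
  @compEnd_baseGSec X A _ _ I _ _ _ F (G⟦n⟧) hF (isCohD_shift G hG n) a (b - n) _ (isGE_shiftD G b n) r hr

end Scheme

end Groth.Agent.DerComp18
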