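import Groth.Agent.CohDer42.KInj
import Groth.Agent.CohDer42.DerProd
import Mathlib.Algebra.Homology.HomotopyCategory.MappingCocone
import Mathlib.Algebra.Homology.HomotopyCategory.DegreewiseSplit
import Mathlib.Algebra.Homology.DerivedCategory.KInjective
import Mathlib.CategoryTheory.Adjunction.Opposites
import Mathlib.CategoryTheory.ObjectProperty.FullSubcategory

/-!
# Bousfield localisation of `D(A)` at a set of objects, `A` Grothendieck abelian

For a small family of complexes `G i`, the inclusion of the objects `X` with `Hom(G i, X⟦n⟧) = 0` for all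
`i, n` has a left adjoint, built by the small object argument.
-/

universe w v u

open CategoryTheory Category Limits HomologicalComplex CochainComplex.HomComplex
open CochainComplex hiding shiftFunctor shiftFunctorAdd'
open scoped ZeroObject

set_option autoImplicit false
set_option linter.unusedSectionVars false
set_option backward.isDefEq.respectTransparency false

namespace Groth.Agent.DerComp18

open Groth.Agent.CohDer42

variable {A : Type u} [Category.{v} A] [Abelian A]

section Lifting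

/-- every chain map from `C` to a shift of `K` is null-homotopic -/
def Null (C K : CochainComplex A ℤ) : Prop :=
  ∀ (n : ℤ) (e : C ⟶ K⟦n⟧), Nonempty (Homotopy e 0)

set_option backward.defeqAttrib.useBackward true in
set_option backward.isDefEq.respectTransparency false in
theorem eq_δ_of_null {C K : CochainComplex A ℤ} (z : Cocycle C K 1) (h₃ : Null C K) :
    ∃ α : Cochain C K 0, δ 0 1 α = z.1 := by
  obtain ⟨φ, hφ⟩ := (Cocycle.equivHom ..).surjective (z.rightShift 1 0 (zero_add 1))
  rw [Cocycle.ext_iff] at hφ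
  dsimp at hφ
  obtain ⟨h⟩ := h₃ 1 φ
  obtain ⟨f, hf⟩ := Cochain.equivHomotopy _ _ h
  simp only [Int.reduceNeg, Cochain.ofHom_zero, add_zero] at hf
  refine ⟨(1 : ℤ).negOnePow • Cochain.rightUnshift f 0 (by lia), ?_⟩
  apply (Cochain.rightShiftAddEquiv _ _ _ (1 : ℤ) 0 (by simp)).injective
  dsimp
  rw [← hφ, hf, δ_units_smul, Cochain.rightShift_units_smul,
    Cochain.δ_rightUnshift _ _ _ _ 0 (by simp)]
  simp [smul_smul]

theorem exists_extension (K : CochainComplex A ℤ) (hK : ∀ n, Injective (K.X n))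
    (S : ShortComplex (CochainComplex A ℤ)) (hS : S.ShortExact) (h₃ : Null S.X₃ K) (φ : S.X₁ ⟶ K) :
    ∃ ψ : S.X₂ ⟶ K, S.f ≫ ψ = φ := by
  have := hS.mono_f
  have := hS.epi_g
  have := hK
  have hm : ∀ n, Mono (S.f.f n) := fun n => inferInstance
  have sq : CommSq φ S.f (0 : K ⟶ (0 : CochainComplex A ℤ)) 0 := ⟨by simp⟩
  let l : ∀ n, S.X₂.X n ⟶ K.X n := fun n =>
    @Injective.factorThru A _ _ _ _ (hK n) (φ.f n) (S.f.f n) (hm n)
  let hsq : ∀ n, (sq.map (HomologicalComplex.eval _ _ n)).LiftStruct := fun n =>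
    { l := l n
      fac_left := @Injective.comp_factorThru A _ _ _ _ (hK n) (φ.f n) (S.f.f n) (hm n)
      fac_right := ((HomologicalComplex.eval A (ComplexShape.up ℤ) n).map_isZero
        (isZero_zero (CochainComplex A ℤ))).eq_of_tgt _ _ }
  have hL : IsLimit (KernelFork.ofι (f := (0 : K ⟶ (0 : CochainComplex A ℤ))) (𝟙 K) comp_zero) :=
    KernelFork.IsLimit.ofId _ rfl
  let z := Lifting.cocycle₁ sq hsq hS.gIsCokernel hL
  obtain ⟨α, hα⟩ := eq_δ_of_null z h₃
  have := Lifting.hasLift sq hsq hS.gIsCokernel hL α hα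
  exact ⟨sq.lift, sq.fac_left⟩

/-- the null-homotopy of the cocone of an identity -/
noncomputable def homotopyZeroShift (L : CochainComplex A ℤ) :
    Homotopy (𝟙 ((mappingCocone (𝟙 L))⟦(1 : ℤ)⟧)) 0 :=
  let e := (shiftFunctorCompIsoId (CochainComplex A ℤ) (-1 : ℤ) 1 (by lia)).app (mappingCone (𝟙 L))
  (Homotopy.ofEq (show 𝟙 ((mappingCocone (𝟙 L))⟦(1 : ℤ)⟧) = e.hom ≫ 𝟙 _ ≫ e.inv by simp; rfl)).trans
    ((((mappingCone.homotopyToZeroOfId L).compRight e.inv).compLeft e.hom).trans
      (Homotopy.ofEq (by rw [zero_comp, comp_zero])))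

theorem null_cocone (C L : CochainComplex A ℤ) : Null C (mappingCocone (𝟙 L)) := by
  intro n e
  let E := (mappingCocone (𝟙 L))
  let i := (shiftFunctorAdd' (CochainComplex A ℤ) (1 : ℤ) (n - 1) n (by omega)).app E
  let hn : Homotopy (((shiftFunctor (CochainComplex A ℤ) (n - 1))).map (𝟙 (E⟦(1 : ℤ)⟧)))
      ((shiftFunctor (CochainComplex A ℤ) (n - 1)).map 0) := (homotopyZeroShift L).shift (n - 1)
  exact ⟨(Homotopy.ofEq (show e = (e ≫ i.hom) ≫ (shiftFunctor (CochainComplex A ℤ) (n - 1)).map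
      (𝟙 (E⟦(1 : ℤ)⟧)) ≫ i.inv by
        erw [CategoryTheory.Functor.map_id, id_comp, assoc, i.hom_inv_id]
        exact (comp_id _).symm)).trans
    (((hn.compRight i.inv).compLeft (e ≫ i.hom)).trans
      (Homotopy.ofEq (by rw [Functor.map_zero, zero_comp, comp_zero])))⟩

theorem injective_cocone (L : CochainComplex A ℤ) (hL : ∀ n, Injective (L.X n)) (p : ℤ) :
    Injective ((mappingCocone (𝟙 L)).X p) := by
  have := hL p
  have := hL (p + -1)
  refine ⟨fun {X Y} g f _ => ?_⟩
  refine ⟨Injective.factorThru (g ≫ (mappingCocone.fst (𝟙 L)).f p) f ≫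
      (mappingCocone.inl (𝟙 L)).v p p (add_zero p) +
    Injective.factorThru (g ≫ (mappingCocone.snd (𝟙 L)).v p (p + -1) rfl) f ≫
      (mappingCocone.inr (𝟙 L)).1.v (p + -1) p (by omega), ?_⟩
  rw [Preadditive.comp_add, Injective.comp_factorThru_assoc, Injective.comp_factorThru_assoc, assoc,
    assoc, ← Preadditive.comp_add, mappingCocone.id_X (𝟙 L) p (p + -1) rfl, comp_id]

theorem exists_lift_cocone (L : CochainComplex A ℤ) (hL : ∀ n, Injective (L.X n))
    (S : ShortComplex (CochainComplex A ℤ)) (hS : S.ShortExact) (h₃ : Null S.X₃ L)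
    (a : S.X₁ ⟶ mappingCocone (𝟙 L)) (u : S.X₂ ⟶ L) (w : a ≫ mappingCocone.fst (𝟙 L) = S.f ≫ u) :
    ∃ b : S.X₂ ⟶ mappingCocone (𝟙 L), S.f ≫ b = a ∧ b ≫ mappingCocone.fst (𝟙 L) = u := by
  have := hS.mono_f
  have := hS.epi_g
  obtain ⟨b, hb⟩ := exists_extension _ (injective_cocone L hL) S hS (null_cocone _ L) a
  have h0 : S.f ≫ (u - b ≫ mappingCocone.fst (𝟙 L)) = 0 := by
    rw [Preadditive.comp_sub, reassoc_of% hb, w, sub_self]
  obtain ⟨e, he⟩ := CokernelCofork.IsColimit.desc' hS.gIsCokernel _ h0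
  let z := (shiftFunctorZero (CochainComplex A ℤ) ℤ).app L
  obtain ⟨h⟩ := h₃ 0 (e ≫ z.inv)
  let h' : Homotopy e 0 :=
    (Homotopy.ofEq (show e = (e ≫ z.inv) ≫ z.hom by
      rw [assoc, z.inv_hom_id]; exact (comp_id _).symm)).trans
      ((h.compRight z.hom).trans (Homotopy.ofEq zero_comp))
  let c : S.X₃ ⟶ mappingCocone (𝟙 L) := mappingCocone.lift (𝟙 L) e (-Cochain.ofHomotopy h')
    (by rw [δ_neg, δ_ofHomotopy, Cochain.ofHom_zero, sub_zero, comp_id, neg_add_cancel])
  refine ⟨b + S.g ≫ c, ?_, ?_⟩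
  · rw [Preadditive.comp_add, ← assoc, S.zero, zero_comp, add_zero, hb]
  · have he' : S.g ≫ e = u - b ≫ mappingCocone.fst (𝟙 L) := he
    rw [Preadditive.add_comp, assoc, mappingCocone.lift_fst, he', add_sub_cancel]

end Lifting

section Derived

variable [HasDerivedCategory.{w} A]

open DerivedCategory

/-- no maps in `D(A)` from `X` to the shifts of `L` -/
def OrthD (X L : CochainComplex A ℤ) : Prop := ∀ (m : ℤ) (f : Q.obj X ⟶ (Q.obj L)⟦m⟧), f = 0

theorem orthD_shift {X L : CochainComplex A ℤ} (h : OrthD X L) (k : ℤ) : OrthD (X⟦k⟧) L := by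
  intro m f
  let a := (Q.commShiftIso k).app X
  rw [← cancel_epi a.inv, comp_zero]
  obtain ⟨g, hg⟩ : ∃ g : Q.obj X ⟶ (Q.obj L)⟦m - k⟧,
      a.inv ≫ f = g⟦k⟧' ≫ ((shiftFunctorAdd' (DerivedCategory A) (m - k) k m (by omega)).app _).inv := by
    refine ⟨(shiftFunctor (DerivedCategory A) k).preimage
      (a.inv ≫ f ≫ ((shiftFunctorAdd' (DerivedCategory A) (m - k) k m (by omega)).app _).hom), ?_⟩
    rw [Functor.map_preimage, assoc, assoc, Iso.hom_inv_id, comp_id]
  rw [hg, h _ g, Functor.map_zero, zero_comp]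

theorem null_of_orthD {X L : CochainComplex A ℤ} [L.IsKInjective] (h : OrthD X L) : Null X L := by
  intro n e
  refine homotopy_of_Q_map_eq ?_
  rw [Functor.map_zero, ← cancel_mono ((Q.commShiftIso n).app L).hom, zero_comp]
  exact h n _

theorem isZero_Q_cocone (L : CochainComplex A ℤ) : IsZero (Q.obj (mappingCocone (𝟙 L))) := by
  have h := Q_map_eq_of_homotopy _ (homotopyZeroShift L)
  rw [CategoryTheory.Functor.map_id, Functor.map_zero] at h
  have h1 : IsZero (Q.obj ((mappingCocone (𝟙 L))⟦(1 : ℤ)⟧)) := (IsZero.iff_id_eq_zero _).2 h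
  have h2 : IsZero ((Q.obj (mappingCocone (𝟙 L)))⟦(1 : ℤ)⟧) := h1.of_iso ((Q.commShiftIso (1 : ℤ)).app _).symm
  rw [IsZero.iff_id_eq_zero] at h2 ⊢
  apply (shiftFunctor (DerivedCategory A) (1 : ℤ)).map_injective
  rw [CategoryTheory.Functor.map_id, Functor.map_zero, h2]

end Derived

section Localisation

variable [IsGrothendieckAbelian.{v} A] {ι : Type v} (G : ι → CochainComplex A ℤ)
  {κ : Type v} (Y : κ → CochainComplex A ℤ)

/-- the maps killing the objects `G i` -/
noncomputable def coneGens : MorphismProperty (CochainComplex A ℤ) :=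
  MorphismProperty.ofHoms (fun p : ι × ULift.{v} ℤ => mappingCone.inr (𝟙 ((G p.1)⟦p.2.down⟧)))

/-- the generators of the localisation -/
noncomputable def locGens : MorphismProperty (CochainComplex A ℤ) := gens Y ⊔ coneGens G

instance : MorphismProperty.IsSmall.{v} (coneGens G) := by
  dsimp [coneGens]
  infer_instance

lemma mono_inr (K : CochainComplex A ℤ) : Mono (mappingCone.inr (𝟙 K)) :=
  HomologicalComplex.mono_of_mono_f _ fun p => mono_of_mono_fac (mappingCone.inr_f_snd_v (𝟙 K) p)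

instance : MorphismProperty.IsSmall.{v} (locGens G Y) := by
  refine ⟨small_of_surjective (α := (gens Y).toSet ⊕ (coneGens G).toSet)
    (f := Sum.elim (fun f => ⟨f.1, Or.inl f.2⟩) (fun f => ⟨f.1, Or.inr f.2⟩)) ?_⟩
  rintro ⟨f, hf | hf⟩
  · exact ⟨Sum.inl ⟨f, hf⟩, rfl⟩
  · exact ⟨Sum.inr ⟨f, hf⟩, rfl⟩

lemma mono_of_locGens {B B' : CochainComplex A ℤ} (g : B ⟶ B') (hg : locGens G Y g) : Mono g := by
  obtain hg | hg := hg
  · exact (gens_le Y g hg).1
  · obtain ⟨p⟩ := hg
    exact mono_inr _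

instance : MorphismProperty.HasSmallObjectArgument.{v} (locGens G Y) := by
  obtain ⟨c, hc', hc⟩ := HasCardinalLT.exists_regular_cardinal_forall.{v}
    (fun x : MIndex Y ⊕ (ι × ULift.{v} ℤ) =>
      Subobject (Sum.elim (fun x => MObj Y x) (fun p => (G p.1)⟦p.2.down⟧) x))
  have : Fact c.IsRegular := ⟨hc'⟩
  have : Nonempty c.ord.ToType := by simpa using hc'.ne_zero
  have := WellFoundedLT.toOrderBot c.ord.ToType
  exact ⟨c, inferInstance, inferInstance,
    { preservesColimit {A' B X Y'} i hi f hf := by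
        let hf' : (MorphismProperty.monomorphisms _).TransfiniteCompositionOfShape c.ord.ToType f :=
          { toTransfiniteCompositionOfShape := hf.toTransfiniteCompositionOfShape
            map_mem j hj := by
              have := (hf.attachCells j hj).pushouts_coproducts
              simp only [MorphismProperty.ofHoms_homFamily] at this
              refine (?_ : _ ≤ MorphismProperty.monomorphisms _) _ this
              simp only [MorphismProperty.pushouts_le_iff, MorphismProperty.coproducts_le_iff]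
              exact fun _ _ g hg => mono_of_locGens G Y g hg }
        have (j j' : c.ord.ToType) (φ : j ⟶ j') : Mono (hf'.F.map φ) := hf'.mem_map φ
        apply IsGrothendieckAbelian.preservesColimit_coyoneda_obj_of_mono (Y := hf'.F) (κ := c)
        obtain hi | hi := hi
        · obtain ⟨g⟩ := hi
          exact Subobject.hasCardinalLT_of_mono (hc (Sum.inl g.1)) ((equivShrink _).symm g.2.1).arrow
        · obtain ⟨p⟩ := hi
          exact hc (Sum.inr p) }⟩

variable [HasDerivedCategory.{w} A]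

open DerivedCategory

/-- the local objects -/
def IsLocal : ObjectProperty (DerivedCategory A) := fun X =>
  ∀ (i : ι) (n : ℤ) (f : Q.obj (G i) ⟶ X⟦n⟧), f = 0

variable {G Y}

lemma isLocal_of_iso {X X' : DerivedCategory A} (e : X ≅ X') (h : IsLocal G X) : IsLocal G X' :=
  fun i n f => by
    rw [← cancel_mono ((shiftFunctor (DerivedCategory A) n).map e.inv), zero_comp]
    exact h i n _

lemma exists_ses {B B' : CochainComplex A ℤ} (g : B ⟶ B') (hg : locGens G Y g)
    {L : CochainComplex A ℤ} [L.IsKInjective] (hL : IsLocal G (Q.obj L)) :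
    ∃ (S : ShortComplex (CochainComplex A ℤ)) (e : Arrow.mk S.f ≅ Arrow.mk g),
      S.ShortExact ∧ Null S.X₃ L := by
  obtain hg | hg := hg
  · have := (gens_le Y g hg).1
    have := (gens_le Y g hg).2
    have hS : (ShortComplex.mk _ _ (cokernel.condition g)).ShortExact :=
      { exact := ShortComplex.exact_cokernel g }
    exact ⟨_, Iso.refl _, hS, fun n e =>
      IsKInjective.nonempty_homotopy_zero e (hS.acyclic_X₃ (by dsimp; infer_instance))⟩
  · obtain ⟨p⟩ := hg
    refine ⟨mappingCone.triangleRotateShortComplex (𝟙 ((G p.1)⟦p.2.down⟧)), Iso.refl _, ?_, ?_⟩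
    · exact HomologicalComplex.shortExact_of_degreewise_shortExact _ fun n =>
        (mappingCone.triangleRotateShortComplexSplitting (𝟙 ((G p.1)⟦p.2.down⟧)) n).shortExact
    · exact null_of_orthD (orthD_shift (orthD_shift (fun m f => hL p.1 m f) p.2.down) (1 : ℤ))

lemma rlp_toZero {L : CochainComplex A ℤ} [L.IsKInjective] (hI : ∀ n, Injective (L.X n))
    (hL : IsLocal G (Q.obj L)) : (locGens G Y).rlp (0 : L ⟶ 0) := by
  intro B B' g hg
  obtain ⟨S, e, hS, h₃⟩ := exists_ses g hg hL
  have : HasLiftingProperty S.f (0 : L ⟶ 0) := ⟨fun {a u} sq => by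
    obtain ⟨ψ, hψ⟩ := exists_extension L hI S hS h₃ a
    exact CommSq.HasLift.mk' { l := ψ, fac_left := hψ, fac_right := (isZero_zero _).eq_of_tgt _ _ }⟩
  exact HasLiftingProperty.of_arrow_iso_left e _

lemma rlp_fst {L : CochainComplex A ℤ} [L.IsKInjective] (hI : ∀ n, Injective (L.X n))
    (hL : IsLocal G (Q.obj L)) : (locGens G Y).rlp (mappingCocone.fst (𝟙 L)) := by
  intro B B' g hg
  obtain ⟨S, e, hS, h₃⟩ := exists_ses g hg hL
  have : HasLiftingProperty S.f (mappingCocone.fst (𝟙 L)) := ⟨fun {a u} sq => by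
    obtain ⟨b, hb, hb'⟩ := exists_lift_cocone L hI S hS h₃ a u sq.w
    exact CommSq.HasLift.mk' { l := b, fac_left := hb, fac_right := hb' }⟩
  exact HasLiftingProperty.of_arrow_iso_left e _

theorem exists_reflection (M : CochainComplex A ℤ) :
    ∃ (X : DerivedCategory A) (η : Q.obj M ⟶ X), IsLocal G X ∧
      ∀ X', IsLocal G X' → Function.Bijective (fun f : X ⟶ X' => η ≫ f) := by
  obtain ⟨κ, Y, hY⟩ := exists_small_acyclic (A := A)
  let d := (MorphismProperty.functorialFactorizationData (locGens G Y).rlp.llp (locGens G Y).rlp).factorizationData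
    (0 : M ⟶ 0)
  have hext : ∀ (S : ShortComplex (CochainComplex A ℤ)), S.ShortExact → S.X₃.Acyclic →
      ∀ φ : S.X₁ ⟶ d.Z, ∃ ψ : S.X₂ ⟶ d.Z, S.f ≫ ψ = φ := fun S hS h₃ φ => by
    have := hS.mono_f
    have := qisMono_le_llp Y hY S.f ⟨inferInstance, quasiIso_of_shortExact hS h₃⟩ d.p
      (MorphismProperty.antitone_rlp (show gens Y ≤ locGens G Y from le_sup_left) _ d.hp)
    have sq : CommSq φ S.f d.p 0 := ⟨(isZero_zero _).eq_of_tgt _ _⟩
    exact ⟨sq.lift, sq.fac_left⟩
  have : d.Z.IsKInjective := isKInjective_of_extension d.Z hext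
  refine ⟨Q.obj d.Z, Q.map d.i, fun i n f => ?_, fun X' hX' => ?_⟩
  · let k : ι × ULift.{v} ℤ := (i, ⟨-n⟩)
    let G' := (G i)⟦-n⟧
    have hz : ∀ g : G' ⟶ d.Z, Q.map g = 0 := fun g => by
      have hg : locGens G Y (mappingCone.inr (𝟙 G')) := Or.inr ⟨k⟩
      have := d.hp _ hg
      have sq : CommSq g (mappingCone.inr (𝟙 G')) d.p 0 := ⟨(isZero_zero _).eq_of_tgt _ _⟩
      rw [← sq.fac_left, Functor.map_comp]
      have h0 : IsZero (Q.obj (mappingCone (𝟙 G'))) := by
        have h := Q_map_eq_of_homotopy _ (mappingCone.homotopyToZeroOfId G')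
        rw [CategoryTheory.Functor.map_id, Functor.map_zero] at h
        exact (IsZero.iff_id_eq_zero _).2 h
      rw [h0.eq_of_src (Q.map sq.lift) 0, comp_zero]
    apply (shiftFunctor (DerivedCategory A) (-n)).map_injective
    rw [Functor.map_zero]
    let a := (Q.commShiftIso (-n)).app (G i)
    let w := (shiftFunctorCompIsoId (DerivedCategory A) n (-n) (add_neg_cancel n)).app (Q.obj d.Z)
    rw [← cancel_epi a.hom, ← cancel_mono w.hom, comp_zero, zero_comp]
    obtain ⟨g, hg⟩ := Q_map_surjective_of_isKInjective (Z := G') (I := d.Z)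
      ((a.hom ≫ f⟦-n⟧') ≫ w.hom)
    rw [← hg]
    exact hz g
  · obtain ⟨N, ⟨eN⟩⟩ : ∃ N, Nonempty (Q.obj N ≅ X') := ⟨_, ⟨Q.objObjPreimageIso X'⟩⟩
    obtain ⟨L, r, hLK, hr, -, hI⟩ := exists_kinjective_resolution N
    have := hLK
    have : IsIso (Q.map r) := inferInstance
    let eL : Q.obj L ≅ X' := (asIso (Q.map r)).symm ≪≫ eN
    have hL : IsLocal G (Q.obj L) := isLocal_of_iso eL.symm hX'
    have key : Function.Bijective (fun f : Q.obj d.Z ⟶ Q.obj L => Q.map d.i ≫ f) := by
      refine ⟨?_, fun v => ?_⟩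
      · suffices ∀ f : Q.obj d.Z ⟶ Q.obj L, Q.map d.i ≫ f = 0 → f = 0 from
          fun f₁ f₂ h => sub_eq_zero.1 (this _ (by
            dsimp only at h
            rw [Preadditive.comp_sub, h, sub_self]))
        intro f hf
        obtain ⟨u, rfl⟩ := Q_map_surjective_of_isKInjective f
        rw [← Functor.map_comp] at hf
        obtain ⟨h⟩ := homotopy_of_Q_map_eq (g := 0) (hf.trans (Functor.map_zero _ _ _).symm)
        let a : M ⟶ mappingCocone (𝟙 L) := mappingCocone.lift (𝟙 L) (d.i ≫ u) (-Cochain.ofHomotopy h)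
          (by rw [δ_neg, δ_ofHomotopy, Cochain.ofHom_zero, sub_zero, comp_id, neg_add_cancel])
        have sq : CommSq a d.i (mappingCocone.fst (𝟙 L)) u := ⟨mappingCocone.lift_fst _ _ _ _⟩
        have := d.hi _ (rlp_fst hI hL)
        rw [← sq.fac_right, Functor.map_comp, (isZero_Q_cocone L).eq_of_src (Q.map (mappingCocone.fst (𝟙 L))) 0,
          comp_zero]
      · obtain ⟨v', rfl⟩ := Q_map_surjective_of_isKInjective v
        have sq : CommSq v' d.i (0 : L ⟶ 0) 0 := ⟨(isZero_zero _).eq_of_tgt _ _⟩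
        have := d.hi _ (rlp_toZero hI hL)
        exact ⟨Q.map sq.lift, by dsimp only; rw [← Functor.map_comp, sq.fac_left]⟩
    refine ⟨fun f₁ f₂ h => ?_, fun v => ?_⟩
    · rw [← cancel_mono eL.inv]
      refine key.1 ?_
      dsimp only at h ⊢
      rw [reassoc_of% h]
    · obtain ⟨f, hf⟩ := key.2 (v ≫ eL.inv)
      dsimp only at hf
      exact ⟨f ≫ eL.hom, by dsimp only; rw [reassoc_of% hf, eL.inv_hom_id, comp_id]⟩

variable (G) in
/-- **Bousfield localisation at a set**: the inclusion of the local objects has a left adjoint. -/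
theorem isRightAdjoint_ι : (IsLocal G).ι.IsRightAdjoint := by
  have key : ∀ X : DerivedCategory A, ∃ (X₀ : (IsLocal G).FullSubcategory) (η : X ⟶ X₀.obj),
      ∀ Z : (IsLocal G).FullSubcategory, Function.Bijective (fun f : X₀ ⟶ Z => η ≫ (IsLocal G).ι.map f) := by
    intro X
    obtain ⟨X₁, η, h1, h2⟩ := exists_reflection (G := G) (Q.objPreimage X)
    exact ⟨⟨X₁, h1⟩, (Q.objObjPreimageIso X).inv ≫ η, fun Z => by
      have : (fun f : (⟨X₁, h1⟩ : (IsLocal G).FullSubcategory) ⟶ Z =>
          ((Q.objObjPreimageIso X).inv ≫ η) ≫ (IsLocal G).ι.map f) =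
          (fun g => (Q.objObjPreimageIso X).inv ≫ g) ∘ (fun g : X₁ ⟶ Z.obj => η ≫ g) ∘
            (IsLocal G).ι.map := funext fun f => assoc _ _ _
      rw [this]
      exact (Iso.homFromEquiv (Q.objObjPreimageIso X)).bijective.comp ((h2 Z.obj Z.property).comp
        (Functor.FullyFaithful.map_bijective (IsLocal G).fullyFaithfulι _ _))⟩
  choose F η hη using key
  exact (Adjunction.adjunctionOfEquivLeft (fun X Z => Equiv.ofBijective _ (hη X Z))
    (fun X Z Z' g h => by simp)).isRightAdjoint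

end Localisation

end Groth.Agent.DerComp18
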