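import Groth.Agent.DerComp18.Gen
import Groth.Agent.DerComp18.Local
import Groth.Agent.Mod48.CmpAdj
import Groth.Agent.SiteMod.Basics
import Mathlib.CategoryTheory.Adjunction.AdjointFunctorTheorems
import Mathlib.CategoryTheory.Abelian.Subobject

/-!
The right adjoint of restriction to `C/X` preserves completeness.
-/

universe u

open CategoryTheory CategoryTheory.Limits Opposite DerivedCategory

attribute [local instance] HasDerivedCategory.standard

set_option autoImplicit false

namespace Groth.Agent.DerComp18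

open Groth.Agent.Mod48 Groth.Agent.Mod48.LocGen

variable {C : Type u} [SmallCategory C] {J : GrothendieckTopology C} {O : Sheaf J CommRingCat.{u}}

lemma res_id (M : PreM O) (W : C) (x : M.obj (op W)) : res M (𝟙 W).op x = x :=
  PresheafOfModules.congr_map_apply M (f := (𝟙 W).op) (g := 𝟙 (op W)) rfl x |>.trans (by
    change M.map (𝟙 (op W)) x = x
    first | (simp; rfl) | simp)

/-- Multiplication by `s` is invertible on the localisation at `s`. -/
lemma isIso_smulEnd_locAway (s : DerComp.GSec O) (F : ModSite.Mod O) :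
    IsIso (DerComp.smulEnd s (DerComp.locAway s F)) := by
  let ι := Sigma.ι (fun _ : ℕ => F)
  let π := cokernel.π (DerComp.awayMap s F)
  have rel : ∀ n, ι n ≫ π = DerComp.smulEnd s F ≫ ι (n + 1) ≫ π := fun n => by
    have h : ι n ≫ DerComp.awayMap s F ≫ π = 0 :=
      (congrArg (ι n ≫ ·) (cokernel.condition (DerComp.awayMap s F))).trans comp_zero
    simp only [DerComp.awayMap, ι, Sigma.ι_desc_assoc, Preadditive.sub_comp, Category.assoc] at h
    exact sub_eq_zero.1 h
  let σ : (∐ fun _ : ℕ => F) ⟶ DerComp.locAway s F := Sigma.desc fun n => ι (n + 1) ≫ π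
  let τ : DerComp.locAway s F ⟶ DerComp.locAway s F := cokernel.desc _ σ (Sigma.hom_ext _ _ fun n => by
    simp only [DerComp.awayMap, Sigma.ι_desc_assoc, Preadditive.sub_comp, Category.assoc, σ, Sigma.ι_desc,
      comp_zero, sub_eq_zero]
    exact rel (n + 1))
  have h : π ≫ DerComp.smulEnd s _ ≫ τ = π := Sigma.hom_ext _ _ fun n => by
    rw [← Category.assoc π, ← DerComp.smulEnd_comm, Category.assoc, ← Category.assoc (Sigma.ι _ n),
      ← DerComp.smulEnd_comm, Category.assoc]
    change DerComp.smulEnd s F ≫ ι n ≫ π ≫ cokernel.desc _ σ _ = _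
    rw [cokernel.π_desc, Sigma.ι_desc]
    exact (rel n).symm
  refine ⟨τ, (cancel_epi π).1 (h.trans (Category.comp_id π).symm), ?_⟩
  rw [← DerComp.smulEnd_comm]
  exact (cancel_epi π).1 (h.trans (Category.comp_id π).symm)

variable (O) in
/-- `j_! O_{Y,g}`. -/
noncomputable abbrev awayZero (Y : C) (g : O.obj.obj (op Y)) : ModSite.Mod O :=
  (ModSite.extZero O Y).obj (DerComp.awayOver O Y g)

/-- Its generators. -/
noncomputable def awayGen (Y : C) (g : O.obj.obj (op Y)) (n : ℕ) : ModSite.freeOn O Y ⟶ awayZero O Y g :=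
  (ModSite.extZero O Y).map
    (Sigma.ι (fun _ : ℕ => ModSite.unit (O.over Y)) n ≫ cokernel.π (DerComp.awayMap _ _))

lemma awayGen_hom_ext (Y : C) (g : O.obj.obj (op Y)) ⦃H : ModSite.Mod O⦄ (a b : awayZero O Y g ⟶ H)
    (h : ∀ n, awayGen Y g n ≫ a = awayGen Y g n ≫ b) : a = b := by
  apply ((ModSite.extZeroAdj O Y).homEquiv _ _).injective
  refine (cancel_epi (cokernel.π _)).1 (Sigma.hom_ext _ _ fun n => ?_)
  rw [← Category.assoc, ← Category.assoc, ← Adjunction.homEquiv_naturality_left,
    ← Adjunction.homEquiv_naturality_left]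
  exact congrArg _ (h n)

/-- Multiplication by `g`, on `j_! O_{Y,g}`. -/
noncomputable def awayMul (Y : C) (g : O.obj.obj (op Y)) : awayZero O Y g ⟶ awayZero O Y g :=
  (ModSite.extZero O Y).map (DerComp.smulEnd (DerComp.GSec.ofSect O Y g) _)

instance isIso_awayMul (Y : C) (g : O.obj.obj (op Y)) : IsIso (awayMul Y g) :=
  have := isIso_smulEnd_locAway (DerComp.GSec.ofSect O Y g) (ModSite.unit (O.over Y))
  inferInstanceAs (IsIso ((ModSite.extZero O Y).map _))

lemma eS_awayGen (Y : C) (g : O.obj.obj (op Y)) (n : ℕ) :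
    eS (awayMul Y g) Y (freeOnEquiv Y _ (awayGen Y g n)) = g • freeOnEquiv Y _ (awayGen Y g n) := by
  refine (freeOnEquiv_comp Y (awayGen Y g n) (awayMul Y g)).symm.trans ?_
  rw [← freeOnEquiv_fe, awayGen, awayMul, ← Functor.map_comp, ← extZero_map_smulEnd, ← Functor.map_comp,
    ← DerComp.smulEnd_comm]

lemma killedBy_awayMul (I : DerComp.IdealSh O) (Y : C) (g : O.obj.obj (op Y)) (hg : g ∈ I.ideal Y) (W : C)
    (x : (pre (awayZero O Y g)).obj (op W)) : KilledBy I.ideal (awayMul Y g) W x :=
  forall_of_gen (awayZero O Y g) (awayGen Y g) (awayGen_hom_ext Y g) (fun W x => KilledBy I.ideal (awayMul Y g) W x)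
    killed_zero (fun _ _ _ => killed_add) (fun _ r _ => killed_smul r) (fun _ _ k _ => killed_res k)
    (fun _ _ hS _ h => killed_local hS h)
    (fun i => killed_of_eigen g (eS_awayGen Y g i) ⟨⊤, J.top_mem Y, fun _ k _ => I.map_mem k hg⟩) W x

lemma restr_preservesColimits (X : C) : PreservesColimitsOfSize.{u, u} (ModSite.restr O X) := by
  let T := SheafOfModules.toSheaf.{u} (ModSite.ringSh O)
  let T' := SheafOfModules.toSheaf.{u} (ModSite.ringSh (O.over X))
  have : PreservesColimitsOfSize.{u, u} T := toSheaf_preservesColimits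
  have : PreservesColimitsOfSize.{u, u} T' := toSheaf_preservesColimits
  have : PreservesColimitsOfSize.{u, u} (J.overPullback AddCommGrpCat.{u} X) :=
    ((Over.forget X).sheafAdjunctionCocontinuous AddCommGrpCat.{u} (J.over X) J).leftAdjoint_preservesColimits
  have e : ModSite.restr O X ⋙ T' ≅ T ⋙ J.overPullback AddCommGrpCat.{u} X :=
    NatIso.ofComponents (fun _ => Iso.refl _)
  have : PreservesColimitsOfSize.{u, u} (ModSite.restr O X ⋙ T') := preservesColimits_of_natIso e.symm
  refine ⟨fun {K} _ => ?_⟩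
  have : ReflectsColimitsOfShape K T' := reflectsColimitsOfShape_of_reflectsIsomorphisms
  exact preservesColimitsOfShape_of_reflects_of_preserves _ T'

lemma restr_isLeftAdjoint (X : C) : (ModSite.restr O X).IsLeftAdjoint := by
  have := restr_preservesColimits (O := O) X
  have : IsGrothendieckAbelian.{u} (ModSite.Mod O) :=
    Coh69.sheafOfModules_isGrothendieckAbelian (ModSite.ringSh O)
  have hgen := SiteMod.generating (O := O) Set.univ fun Y => ⟨PUnit, fun _ => Y, fun _ => 𝟙 Y, by
      refine J.superset_covering (fun V g _ => ?_) (J.top_mem Y)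
      exact (Sieve.mem_ofArrows_iff (fun _ : PUnit => Y) (fun _ => 𝟙 Y) g).2 ⟨⟨⟩, g, (Category.comp_id g).symm⟩,
      fun _ => trivial⟩
  have : ObjectProperty.Small.{u} (ObjectProperty.ofObj fun Y : (Set.univ : Set C) => ModSite.freeOn O (Y : C)) :=
    inferInstance
  have : WellPowered.{u} (ModSite.Mod O) := wellPowered_of_isDetecting hgen.1
  exact isLeftAdjoint_of_preservesColimits_of_isSeparating hgen.2 _

variable (X : C)

/-- The right adjoint of restriction to `C/X` on derived categories. -/
lemma restrD_exists_adj : ∃ R : DerivedCategory (ModSite.Mod (O.over X)) ⥤ DerivedCategory (ModSite.Mod O),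
    Nonempty (restrD (O := O) X ⊣ R) := by
  have := restr_isLeftAdjoint (O := O) X
  have := restr_additive (O := O) X
  have := (restr_exact (O := O) X).1
  have := (restr_exact (O := O) X).2
  have : IsGrothendieckAbelian.{u} (ModSite.Mod (O.over X)) :=
    Coh69.sheafOfModules_isGrothendieckAbelian (ModSite.ringSh (O.over X))
  let adj := Adjunction.ofIsLeftAdjoint (ModSite.restr O X)
  have := adj.right_adjoint_additive
  exact ⟨_, ⟨rdAdj adj⟩⟩

end Groth.Agent.DerComp18
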