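import Groth.Agent.DerComp18.IdealOf
import Groth.Agent.DerComp18.SecHom
import Groth.Agent.Mod48.PushProd

/-!
Derived completeness and restriction of scalars.
-/

universe u

open CategoryTheory CategoryTheory.Limits Opposite DerivedCategory

attribute [local instance] HasDerivedCategory.standard

set_option autoImplicit false

namespace Groth.Agent.DerComp18

open Groth.Agent.Mod48 Groth.Agent.Mod48.LocGen

variable {C : Type u} [SmallCategory C] {J : GrothendieckTopology C}

/-- A complex orthogonal to acyclic torsion-free complexes computes maps out of `j_! O_U` by sections. -/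
lemma secHom_of_tfOrth {O : Sheaf J CommRingCat.{u}} (M : CochainComplex (ModSite.Mod O) ℤ)
    (h1 : TFOrth (((SheafOfModules.toSheaf.{u} (ModSite.ringSh O)).mapHomologicalComplex (ComplexShape.up ℤ)).obj M))
    (U : C) : SecHom (ModSite.freeOn O U) M := by
  obtain ⟨J', s, hJ, hs⟩ := enoughKInj_mod O M
  let ab := SheafOfModules.toSheaf.{u} (ModSite.ringSh O)
  have := toSheaf_preservesColimits (O := O)
  have : PreservesFiniteColimits ab := PreservesColimitsOfSize.preservesFiniteColimits _
  have h2 := tfOrth_cone ((ab.mapHomologicalComplex (ComplexShape.up ℤ)).map s) h1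
    (tfOrth_toSheaf (ModSite.ringSh O) J' hJ)
  have hac : (CochainComplex.mappingCone ((ab.mapHomologicalComplex (ComplexShape.up ℤ)).map s)).Acyclic := by
    have : IsIso (Q.map ((ab.mapHomologicalComplex (ComplexShape.up ℤ)).map s)) :=
      (isIso_Q_map_iff_quasiIso (φ := (ab.mapHomologicalComplex (ComplexShape.up ℤ)).map s)).2 inferInstance
    have hz : IsZero (Q.obj (CochainComplex.mappingCone ((ab.mapHomologicalComplex (ComplexShape.up ℤ)).map s))) :=
      (Pretriangulated.Triangle.isZero₃_iff_isIso₁ (Q.mapTriangle.obj (CochainComplex.mappingCone.triangle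
        ((ab.mapHomologicalComplex (ComplexShape.up ℤ)).map s)))
        ((DerivedCategory.mem_distTriang_iff _).2 ⟨_, _, _, ⟨Iso.refl _⟩⟩)).2 this
    intro i
    rw [HomologicalComplex.exactAt_iff_isZero_homology]
    exact ((homologyFunctor _ i).map_isZero hz).of_iso ((homologyFunctorFactors _ i).app _).symm
  have h3 := secAcyclic_of_tfOrth _ hac h2 U
  exact secHom_of_qis s (secInj_of_transfer ab (freeSecMap O U) (freeSecMap_bijective U) s (secInj_of_cone _ h3))
    (secSurj_of_transfer ab (freeSecMap O U) (freeSecMap_bijective U) s (secSurj_of_cone _ h3))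

variable {O O' : Sheaf J CommRingCat.{u}} (φ : O ⟶ O')

/-- Restriction of scalars along `φ`. -/
noncomputable abbrev scalRes : ModSite.Mod O' ⥤ ModSite.Mod O :=
  SheafOfModules.restrictScalars ((sheafCompose J (forget₂ CommRingCat.{u} RingCat.{u})).map φ)

/-- The universal section of the restriction of `j_! O'_U`. -/
noncomputable def etaScal (U : C) : ModSite.freeOn O U ⟶ (scalRes φ).obj (ModSite.freeOn O' U) :=
  (freeOnEquiv U _).symm (freeOnEquiv U (ModSite.freeOn O' U) (𝟙 _))

lemma etaScal_bijective (U : C) (T : ModSite.Mod O') :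
    Function.Bijective fun g : ModSite.freeOn O' U ⟶ T => etaScal φ U ≫ (scalRes φ).map g := by
  have h : (fun g : ModSite.freeOn O' U ⟶ T => etaScal φ U ≫ (scalRes φ).map g) =
      (freeOnEquiv U ((scalRes φ).obj T)).symm ∘ (freeOnEquiv U T) := by
    funext g
    apply (freeOnEquiv U _).injective
    rw [Function.comp_apply, Equiv.apply_symm_apply, freeOnEquiv_comp, etaScal, Equiv.apply_symm_apply,
      freeOnEquiv_eq g]
    rfl
  rw [h]
  exact (freeOnEquiv U _).symm.bijective.comp (freeOnEquiv U T).bijective

lemma fe_etaScal (U : C) (a : O.obj.obj (op U)) :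
    fe O U a ≫ etaScal φ U = etaScal φ U ≫ (scalRes φ).map (fe O' U ((φ.hom.app (op U)).hom a)) := by
  apply (freeOnEquiv U _).injective
  rw [freeOnEquiv_fe, freeOnEquiv_comp, etaScal, Equiv.apply_symm_apply]
  refine Eq.trans ?_ (freeOnEquiv_eq (fe O' U ((φ.hom.app (op U)).hom a)))
  rw [fe, Equiv.apply_symm_apply]
  rfl

variable [PreservesFiniteLimits (scalRes φ)] [PreservesFiniteColimits (scalRes φ)]

/-- `H^m(U, K')` does not change under restriction of scalars. -/
theorem compEnd_scalRes (U : C) (a : O.obj.obj (op U)) (m : ℤ) (K' : DerivedCategory (ModSite.Mod O')) :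
    CompEnd (Pm (fe O' U ((φ.hom.app (op U)).hom a)) m) K' ↔
      CompEnd (Pm (fe O U a) m) ((scalRes φ).mapDerivedCategory.obj K') := by
  refine compEnd_push (scalRes φ).mapDerivedCategory (scalRes φ).mapDerivedCategoryFactorsh.inv (etaScal φ U)
    (etaScal_bijective φ U) (enoughKInj_mod O') (fun I _ => inferInstance) (fun I hI => ?_) _ _
    (fe_etaScal φ U a) m K'
  exact secHom_of_tfOrth (O := O) (((scalRes φ).mapHomologicalComplex (ComplexShape.up ℤ)).obj I) (tfOrth_toSheaf (ModSite.ringSh O') I hI) U

theorem isDerComp_iff_scalRes (I : DerComp.IdealSh O) (I' : DerComp.IdealSh O') (hI' : DerComp.IsIdealExt φ I I')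
    (K' : DerivedCategory (ModSite.Mod O')) :
    DerComp.IsDerComp O' I' K' ↔ DerComp.IsDerComp O I ((scalRes φ).mapDerivedCategory.obj K') := by
  rw [isDerComp_iff_le, isDerComp_iff_le]
  refine ⟨fun h U g hg V k m => ?_, fun h => hI'.2 _ fun U g hg V k m => ?_⟩
  · have := h U (hI'.1 U g hg) V k m
    rw [← CommRingCat.comp_apply, ← φ.hom.naturality, CommRingCat.comp_apply] at this
    exact (compEnd_scalRes φ V _ m K').1 this
  · rw [← CommRingCat.comp_apply, ← φ.hom.naturality, CommRingCat.comp_apply]
    exact (compEnd_scalRes φ V _ m K').2 (h U hg V k m)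

end Groth.Agent.DerComp18
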