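import Groth.Agent.DerComp18.FlatUnit
import Groth.Agent.DerComp18.Scalars
import Groth.Agent.Mod48.FreeOn
import Groth.Agent.SiteMod.RestrTensor
import Mathlib.LinearAlgebra.DirectSum.Finsupp

/-!
The restriction of scalars of a free module is the tensor product of a free module with the restriction of the
structure sheaf.
-/

universe u

open CategoryTheory CategoryTheory.Limits Opposite MonoidalCategory
open scoped Classical

set_option autoImplicit false

namespace Groth.Agent.DerComp18

open Groth.Agent.Mod48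

variable {C : Type u} [SmallCategory C] {J : GrothendieckTopology C} {O O' : Sheaf J CommRingCat.{u}} (φ : O ⟶ O')

/-- `O'` as a module over `O`. -/
noncomputable abbrev scalUnit : ModSite.Mod O := (scalRes φ).obj (ModSite.unit O')

/-- Restriction of scalars of presheaves of modules. -/
noncomputable abbrev scalPre : PreM O' ⥤ PreM O :=
  PresheafOfModules.restrictScalars ((sheafCompose J (forget₂ CommRingCat.{u} RingCat.{u})).map φ).hom

lemma scal_smul (X : Cᵒᵖ) (M : PreM O') (r : O.obj.obj X) (m : M.obj X) :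
    ((r • (show ((scalPre φ).obj M).obj X from m)) : ((scalPre φ).obj M).obj X) = (φ.hom.app X).hom r • m := rfl

/-- Multiplication into the free module, in one degree. -/
noncomputable def theta0App (U : C) (X : Cᵒᵖ) :
    ((freeY U : PreM O) ⊗ pre (scalUnit φ)).obj X ⟶ ((scalPre φ).obj (freeY U)).obj X :=
  ModuleCat.ofHom (Y := ((scalPre φ).obj (freeY U)).obj X)
    { toFun := fun t => TensorProduct.finsuppScalarLeft (O.obj.obj X) ((pre (scalUnit φ)).obj X)
        (X.unop ⟶ U) t
      map_add' := fun a b => map_add _ a b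
      map_smul' := fun r a => by
        refine ((TensorProduct.finsuppScalarLeft (O.obj.obj X) ((pre (scalUnit φ)).obj X)
          (X.unop ⟶ U)).map_smul r a).trans ?_
        refine Finsupp.ext fun i => ?_
        rfl }

lemma theta0App_single (U : C) (X : Cᵒᵖ) (i : X.unop ⟶ U) (r : O.obj.obj X) (m : O'.obj.obj X) :
    (theta0App φ U X).hom (tp (Finsupp.single i r : ((freeY U : PreM O)).obj X) (m : (pre (scalUnit φ)).obj X)) =
      (Finsupp.single i ((φ.hom.app X).hom r * m) : (freeY U : PreM O').obj X) := by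
  refine Finsupp.ext fun j => ?_
  refine (TensorProduct.finsuppScalarLeft_apply_tmul_apply (R := O.obj.obj X) (N := (pre (scalUnit φ)).obj X) _ _ j).trans ?_
  by_cases h : i = j
  · subst h
    rw [Finsupp.single_eq_same, Finsupp.single_eq_same]
    rfl
  · rw [Finsupp.single_eq_of_ne (Ne.symm h), Finsupp.single_eq_of_ne (Ne.symm h)]
    exact zero_smul (O.obj.obj X) (show (pre (scalUnit φ)).obj X from m)

lemma freeY_map_single (U : C) {X Y : Cᵒᵖ} (g : X ⟶ Y) (i : X.unop ⟶ U) (r : O.obj.obj X) :
    res (freeY U : PreM O) g (Finsupp.single i r) = Finsupp.single (g.unop ≫ i) ((O.obj.map g).hom r) := by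
  have h : res (freeY U : PreM O) g (r • (ModuleCat.freeMk i : (freeY U : PreM O).obj X)) =
      (O.obj.map g).hom r • (ModuleCat.freeMk (g.unop ≫ i) : (freeY U : PreM O).obj Y) :=
    (res_smul _ g r _).trans (congrArg _ (ModuleCat.freeDesc_apply _ i))
  have e : ∀ (Z : Cᵒᵖ) (j : Z.unop ⟶ U) (c : O.obj.obj Z),
      c • (ModuleCat.freeMk j : (freeY U : PreM O).obj Z) = Finsupp.single j c := fun Z j c => by
    refine (Finsupp.smul_single' c j 1).trans ?_
    exact congrArg (Finsupp.single j) (mul_one c)
  rw [e, e] at h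
  exact h

/-- Multiplication into the free module. -/
noncomputable def theta0 (U : C) : (freeY U : PreM O) ⊗ pre (scalUnit φ) ⟶ (scalPre φ).obj (freeY U) where
  app X := theta0App φ U X
  naturality {X Y} g := by
    refine ModuleCat.hom_ext (LinearMap.ext fun t => ?_)
    induction t using TensorProduct.induction_on with
    | zero => exact (map_zero _).trans (map_zero _).symm
    | add a b ha hb => exact (map_add _ a b).trans ((congrArg₂ (· + ·) ha hb).trans (map_add _ a b).symm)
    | tmul f m =>
      change (theta0App φ U Y).hom (((freeY U : PreM O) ⊗ pre (scalUnit φ)).map g (tp f m)) =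
        res (freeY U : PreM O') g ((theta0App φ U X).hom (tp f m))
      induction f using Finsupp.induction_linear with
      | zero =>
        have h0 : tp (0 : ((freeY U : PreM O)).obj X) m = 0 := TensorProduct.zero_tmul _ _
        refine Eq.trans (congrArg _ ((congrArg _ h0).trans (map_zero _))) ?_
        refine (map_zero _).trans ?_
        refine Eq.symm ((congrArg _ ((congrArg _ h0).trans (map_zero _))).trans ?_)
        exact res_zero' _ _
      | add a b ha hb =>
        have h0 : (tp (show (freeY U : PreM O).obj X from a + b) m : ((freeY U : PreM O) ⊗ pre (scalUnit φ)).obj X) =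
            tp (show (freeY U : PreM O).obj X from a) m + tp (show (freeY U : PreM O).obj X from b) m :=
          TensorProduct.add_tmul _ _ _
        refine (congrArg _ ((congrArg _ h0).trans (map_add _ _ _))).trans ?_
        refine (map_add _ _ _).trans ((congrArg₂ (· + ·) ha hb).trans ?_)
        refine Eq.symm ((congrArg _ ((congrArg _ h0).trans (map_add _ _ _))).trans ?_)
        exact res_add _ g _ _
      | single i r =>
        rw [map_tp, freeY_map_single]
        refine (theta0App_single φ U Y _ _ _).trans ?_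
        refine Eq.symm ((congrArg (res _ g) (theta0App_single φ U X i r m)).trans ?_)
        refine (freeY_map_single U g i _).trans (congrArg (Finsupp.single _) ?_)
        rw [map_mul]
        exact congrArg (· * _) (CategoryTheory.congr_fun (φ.hom.naturality g) r).symm

lemma theta0_bijective (U : C) (X : Cᵒᵖ) : Function.Bijective ((theta0 φ U).app X).hom :=
  (TensorProduct.finsuppScalarLeft (O.obj.obj X) ((pre (scalUnit φ)).obj X) (X.unop ⟶ U)).bijective

/-- Local isomorphisms are preserved by restriction of scalars. -/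
lemma isLocalIso_scalPre {P Q : PreM O'} (f : P ⟶ Q) (hf : IsLocalIso f) : IsLocalIso ((scalPre φ).map f) :=
  ⟨hf.inj, hf.surj⟩

/-- `free ⊗ O' ≅` restriction of scalars of `free`. -/
noncomputable def thetaFree (U : C) :
    ((ModSite.tensorBi O).obj (ModSite.freeOn O U)).obj (scalUnit φ) ≅ (scalRes φ).obj (ModSite.freeOn O' U) :=
  haveI : IsIso (shf.map (theta0 φ U)) := (isIso_shf_map_iff_isLocalIso _).2
    (Groth.Agent.SiteMod.isLocalIso_of_bijective _ fun X => theta0_bijective φ U X)
  haveI : IsIso (shf.map ((scalPre φ).map (shfU (freeY U : PreM O')))) := (isIso_shf_map_iff_isLocalIso _).2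
    (isLocalIso_scalPre φ _ ((isIso_shf_map_iff_isLocalIso _).1 (isIso_shf_map_shfU _)))
  (tR (scalUnit φ)).mapIso (freeOnIso U) ≪≫ ((tensShfLeft (scalUnit φ)).app (freeY U)).symm ≪≫
    asIso (shf.map (theta0 φ U)) ≪≫ asIso (shf.map ((scalPre φ).map (shfU (freeY U : PreM O')))) ≪≫
    shfCounitIso.app ((scalRes φ).obj (shf.obj (freeY U))) ≪≫ (scalRes φ).mapIso (freeOnIso U).symm

/-- `φ` as a map of `O`-modules. -/
noncomputable def uScal : ModSite.unit O ⟶ scalUnit φ :=
  ⟨show pre (ModSite.unit O) ⟶ pre (scalUnit φ) from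
    { app := fun X => ModuleCat.ofHom (R := (O.obj ⋙ forget₂ CommRingCat.{u} RingCat.{u}).obj X) (X := (pre (ModSite.unit O)).obj X) (Y := (pre (scalUnit φ)).obj X)
        { toFun := fun r => (φ.hom.app X).hom r
          map_add' := fun a b => map_add _ a b
          map_smul' := fun r a => map_mul (φ.hom.app X).hom (show O.obj.obj X from r) (show O.obj.obj X from a) }
      naturality := fun {X Y} g => by
        refine ModuleCat.hom_ext (LinearMap.ext fun r => ?_)
        exact CategoryTheory.congr_fun (φ.hom.naturality g) r }⟩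

section Sections

variable {O : Sheaf J CommRingCat.{u}}

lemma shfMap_shfU {P Q : PreM O} (f : P ⟶ Q) (X : Cᵒᵖ) (x : P.obj X) :
    (fgt.map (shf.map f)).app X ((shfU P).app X x) = (shfU Q).app X (f.app X x) :=
  (congrArg (fun t : P ⟶ pre (shf.obj Q) => t.app X x) (shfU_naturality f)).symm

lemma counit_shfU (F : ModSite.Mod O) (X : Cᵒᵖ) (x : (pre F).obj X) :
    (fgt.map ((shfCounitIso (O := O)).hom.app F)).app X ((shfU (pre F)).app X x) = x :=
  congrArg (fun t : pre F ⟶ pre F => t.app X x) (shfAdj.right_triangle_components F)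

lemma unitR_shfU (X : ModSite.Mod O) (W : Cᵒᵖ) (x : (pre X).obj W) :
    (fgt.map ((unitR (O := O)).hom.app X)).app W
      ((shfU (pre X ⊗ pre (ModSite.unit O))).app W (tp x (1 : O.obj.obj W))) = x := by
  change (fgt.map (shf.map (β_ (pre (ModSite.unit O)) (pre X)).inv ≫ shf.map (λ_ (pre X)).hom ≫
    shfCounitIso.hom.app X)).app W ((shfU (pre X ⊗ pre (ModSite.unit O))).app W (tp x (1 : O.obj.obj W))) = x
  rw [Functor.map_comp, Functor.map_comp]
  refine (congrArg (fun z => (fgt.map (shfCounitIso.hom.app X)).app W ((fgt.map (shf.map (λ_ (pre X)).hom)).app W z))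
    (shfMap_shfU (β_ (pre (ModSite.unit O)) (pre X)).inv W _)).trans ?_
  refine (congrArg (fun z => (fgt.map (shfCounitIso.hom.app X)).app W z) (shfMap_shfU (λ_ (pre X)).hom W _)).trans ?_
  refine (counit_shfU X W _).trans ?_
  exact one_smul (O.obj.obj W) x

lemma psi_apply {W : ModSite.Mod O} (u : ModSite.unit O ⟶ W) (X : ModSite.Mod O) (Z : Cᵒᵖ) (x : (pre X).obj Z) :
    (fgt.map ((psi u).app X)).app Z x =
      (shfU (pre X ⊗ pre W)).app Z (tp x ((fgt.map u).app Z (1 : O.obj.obj Z))) := by
  have h : (unitR (O := O)).hom.app X ≫ (psi u).app X = shf.map (pre X ◁ fgt.map u) :=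
    (Category.assoc _ _ _).symm.trans ((congrArg (· ≫ _) ((unitR (O := O)).hom_inv_id_app X)).trans (Category.id_comp _))
  conv_lhs => rw [← unitR_shfU X Z x]
  refine (congrArg (fun t : shf.obj (pre X ⊗ pre (ModSite.unit O)) ⟶ _ => (fgt.map t).app Z
    ((shfU (pre X ⊗ pre (ModSite.unit O))).app Z (tp x (1 : O.obj.obj Z)))) h).trans ?_
  exact shfMap_shfU (pre X ◁ fgt.map u) Z _

lemma shfFreeYEquiv_id (U : C) :
    shfFreeYEquiv (O := O) U _ (𝟙 _) = (shfU (freeY U)).app (op U) (ModuleCat.freeMk (𝟙 U)) := by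
  change PresheafOfModules.freeYonedaEquiv (shfHomEquiv _ _ (𝟙 _)) = _
  rw [shfHomEquiv, Adjunction.homEquiv_id]
  rfl

end Sections

/-- `free ⊗ O' ≅` restriction of scalars, and the universal sections. -/
theorem psi_thetaFree (U : C) :
    (psi (uScal φ)).app (ModSite.freeOn O U) ≫ (thetaFree φ U).hom = etaScal φ U := by
  apply (freeOnEquiv U _).injective
  rw [etaScal, Equiv.apply_symm_apply, freeOnEquiv_eq]
  let e := freeOnEquiv U (ModSite.freeOn O U) (𝟙 _)
  let δ : (freeY U : PreM O).obj (op U) := ModuleCat.freeMk (𝟙 U)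
  let w : (pre (scalUnit φ)).obj (op U) := (φ.hom.app (op U)).hom 1
  change (fgt.map (thetaFree φ U).hom).app (op U) ((fgt.map ((psi (uScal φ)).app (ModSite.freeOn O U))).app (op U) e) = _
  rw [psi_apply]
  have h1 : (fgt.map (freeOnIso (O := O) U).hom).app (op U) e = (shfU (freeY U)).app (op U) δ := by
    rw [← freeOnEquiv_eq, ← shfFreeYEquiv_id]
    exact (freeOnEquiv U _).apply_symm_apply _
  have h2 : (fgt.map ((tR (scalUnit φ)).map (freeOnIso (O := O) U).hom)).app (op U)
      ((shfU (pre (ModSite.freeOn O U) ⊗ pre (scalUnit φ))).app (op U) (tp e w)) =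
      (shfU (pre (shf.obj (freeY U)) ⊗ pre (scalUnit φ))).app (op U) (tp ((shfU (freeY U)).app (op U) δ) w) :=
    (shfMap_shfU _ (op U) _).trans (congrArg (fun z => (shfU (pre (shf.obj (freeY U)) ⊗ pre (scalUnit φ))).app (op U)
      (tp z w)) h1)
  have h3 : (fgt.map ((tensShfLeft (scalUnit φ)).app (freeY U)).inv).app (op U)
      ((shfU (pre (shf.obj (freeY U)) ⊗ pre (scalUnit φ))).app (op U) (tp ((shfU (freeY U)).app (op U) δ) w)) =
      (shfU (freeY U ⊗ pre (scalUnit φ))).app (op U) (tp δ w) := by
    refine (congrArg _ (shfMap_shfU (shfU (freeY U) ▷ pre (scalUnit φ)) (op U) (tp δ w)).symm).trans ?_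
    exact congrArg (fun t : shf.obj (freeY U ⊗ pre (scalUnit φ)) ⟶ _ => (fgt.map t).app (op U)
      ((shfU (freeY U ⊗ pre (scalUnit φ))).app (op U) (tp δ w))) ((tensShfLeft (scalUnit φ)).app (freeY U)).hom_inv_id
  let δ' : (freeY U : PreM O').obj (op U) := ModuleCat.freeMk (𝟙 U)
  have h4 : (theta0 φ U).app (op U) (tp δ w) = δ' := by
    refine (theta0App_single φ U (op U) (𝟙 U) 1 _).trans (congrArg (Finsupp.single (𝟙 U)) ?_)
    exact (congrArg₂ (· * ·) (map_one (φ.hom.app (op U)).hom) rfl).trans (one_mul _) |>.trans (map_one (φ.hom.app (op U)).hom)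
  have h5 : (fgt.map (freeOnIso (O := O') U).inv).app (op U) ((shfU (freeY U)).app (op U) δ') =
      freeOnEquiv U (ModSite.freeOn O' U) (𝟙 _) := by
    rw [← shfFreeYEquiv_id, ← shfFreeYEquiv_comp, Category.id_comp]
    exact (shfFreeYEquiv U _).apply_symm_apply _
  refine Eq.trans ?_ h5
  refine congrArg (fun z => (fgt.map (freeOnIso (O := O') U).inv).app (op U) z) ?_
  refine Eq.trans ?_ (counit_shfU ((scalRes φ).obj (shf.obj (freeY U))) (op U) _)
  refine congrArg (fun z => (fgt.map (shfCounitIso.hom.app ((scalRes φ).obj (shf.obj (freeY U))))).app (op U) z) ?_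
  refine Eq.trans ?_ (shfMap_shfU ((scalPre φ).map (shfU (freeY U : PreM O'))) (op U) δ')
  refine congrArg (fun z => (fgt.map (shf.map ((scalPre φ).map (shfU (freeY U : PreM O'))))).app (op U) z) ?_
  refine Eq.trans ?_ (((shfMap_shfU (theta0 φ U) (op U) (tp δ w))).trans (congrArg _ h4))
  refine congrArg (fun z => (fgt.map (shf.map (theta0 φ U))).app (op U) z) ?_
  exact (congrArg _ h2).trans h3

end Groth.Agent.DerComp18
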