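import Groth.Agent.DerComp18.PushPerp
import Groth.Agent.DR40.CompFinite
import Groth.Agent.DR39.TA
import Groth.Agent.Coh69.Grothendieck
import Mathlib.CategoryTheory.Linear.Yoneda

/-!
Derived completion computed on global sections: passage to complexes of modules over `GSec O`.
-/

universe u

open CategoryTheory CategoryTheory.Limits CategoryTheory.Pretriangulated DerivedCategory HomologicalComplex

attribute [local instance] HasDerivedCategory.standard

set_option autoImplicit false
set_option linter.style.haveILetI false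

namespace Groth.Agent.DerComp18

open Groth.Agent.Mod48 Groth.Agent.Mod48.LocGen Groth.Agent.DR39

variable {C : Type u} [SmallCategory C] {J : GrothendieckTopology C} {O : Sheaf J CommRingCat.{u}}

variable (O) in
/-- Global sections, linearly over `GSec O`. -/
noncomputable abbrev secR : ModSite.Mod O ⥤ ModuleCat.{u} (DerComp.GSec O) :=
  (linearCoyoneda (DerComp.GSec O) (ModSite.Mod O)).obj (Opposite.op (ModSite.unit O))

/-- Global sections of a complex. -/
noncomputable abbrev secC (M : CC O) : DRing.Cx (DerComp.GSec O) :=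
  ((secR O).mapHomologicalComplex (ComplexShape.up ℤ)).obj M

/-- Global sections of a chain map. -/
noncomputable abbrev secM {M N : CC O} (φ : M ⟶ N) : secC M ⟶ secC N :=
  ((secR O).mapHomologicalComplex (ComplexShape.up ℤ)).map φ

lemma secM_smulC (s : DerComp.GSec O) (M : CC O) : secM (smulC s M) = s • 𝟙 (secC M) :=
  HomologicalComplex.hom_ext _ _ fun i => ModuleCat.hom_ext (LinearMap.ext fun x =>
    (DerComp.smulEnd_comm s x).symm)

variable (M : CC O) (m : ℤ)

/-- A cycle of global sections as a map to the cycles. -/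
noncomputable def cycOf (x : Zd (secC M) m) : ModSite.unit O ⟶ M.cycles m :=
  M.liftCycles (show ModSite.unit O ⟶ M.X m from x.1) (m + 1) (CochainComplex.next ℤ m) x.2

lemma cycOf_i (x : Zd (secC M) m) : cycOf M m x ≫ M.iCycles m = (show ModSite.unit O ⟶ M.X m from x.1) :=
  liftCycles_i _ _ _ _ _

/-- Cycles of global sections as morphisms in the derived category. -/
noncomputable def rhoZ : Zd (secC M) m →ₗ[DerComp.GSec O] (Pd (ModSite.unit O) m ⟶ Q.obj M) where
  toFun x := Q.map (cycleHom (cycOf M m x))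
  map_add' x y := by
    rw [← Functor.map_add]
    congr 1
    refine from_single_hom_ext ?_
    rw [HomologicalComplex.add_f_apply, cycleHom_f, cycleHom_f, cycleHom_f, cycOf_i, cycOf_i, cycOf_i,
      ← Preadditive.comp_add]
    rfl
  map_smul' s x := by
    rw [RingHom.id_apply]
    have h : cycOf M m (s • x) = DerComp.smulEnd s (ModSite.unit O) ≫ cycOf M m x := by
      rw [← cancel_mono (M.iCycles m), Category.assoc, cycOf_i, cycOf_i]
      rfl
    rw [h, ← single_map_cycleHom, Functor.map_comp]
    change Pm (DerComp.smulEnd s (ModSite.unit O)) m ≫ _ = _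
    rw [Pm_smulEnd_eq, Linear.smul_comp, Category.id_comp]

lemma rhoZ_natural {N : CC O} (φ : M ⟶ N) (x : Zd (secC M) m) :
    rhoZ N m (zmap (secM φ) m x) = rhoZ M m x ≫ Q.map φ := by
  change Q.map _ = Q.map _ ≫ Q.map φ
  rw [← Functor.map_comp, cycleHom_comp]
  congr 2
  rw [← cancel_mono (N.iCycles m), Category.assoc, cyclesMap_i, ← Category.assoc, cycOf_i, cycOf_i]
  rfl

variable [hM : M.IsKInjective]

lemma rhoZ_surjective : Function.Surjective (rhoZ M m) := fun y => by
  obtain ⟨z, hz⟩ := (secHom_of_isKInjective (ModSite.unit O) M m).1 y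
  refine ⟨⟨(show (secC M).X m from z ≫ M.iCycles m), ?_⟩, ?_⟩
  · change (z ≫ M.iCycles m) ≫ M.d m (m + 1) = 0
    rw [Category.assoc, iCycles_d, comp_zero]
  · rw [← hz]
    change Q.map _ = _
    congr 2
    rw [← cancel_mono (M.iCycles m), cycOf_i]

lemma ker_rhoZ : LinearMap.ker (rhoZ M m) = LinearMap.ker (hcls (secC M) m) := by
  ext x
  rw [LinearMap.mem_ker, LinearMap.mem_ker, hcls_eq_zero_iff]
  constructor
  · intro h
    obtain ⟨w, hw⟩ := (secHom_of_isKInjective (ModSite.unit O) M m).2 _ h
    exact ⟨(show (secC M).X (m - 1) from w), hw.trans (cycOf_i M m x)⟩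
  · rintro ⟨w, hw⟩
    show Q.map (cycleHom (cycOf M m x)) = 0
    refine (Q_map_eq_of_homotopy _ (cycleHomHomotopy _ (show ModSite.unit O ⟶ M.X (m - 1) from w) ?_)).trans
      (Functor.map_zero _ _ _)
    exact hw.trans (cycOf_i M m x).symm

/-- Cohomology of the global sections of a K-injective complex. -/
noncomputable def rho : (secC M).homology m ≃ₗ[DerComp.GSec O] (Pd (ModSite.unit O) m ⟶ Q.obj M) :=
  ((hcls (secC M) m).quotKerEquivOfSurjective (hcls_surjective _ m)).symm.trans
    ((Submodule.quotEquivOfEq _ _ (ker_rhoZ M m).symm).trans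
      ((rhoZ M m).quotKerEquivOfSurjective (rhoZ_surjective M m)))

lemma rho_hcls (x : Zd (secC M) m) : rho M m (hcls (secC M) m x) = rhoZ M m x := by
  have : ((hcls (secC M) m).quotKerEquivOfSurjective (hcls_surjective _ m)).symm (hcls (secC M) m x) =
      Submodule.Quotient.mk x := by
    rw [LinearEquiv.symm_apply_eq]
    rfl
  rw [rho, LinearEquiv.trans_apply, LinearEquiv.trans_apply, this]
  rfl

lemma rho_natural {N : CC O} [N.IsKInjective] (φ : M ⟶ N) (x : (secC M).homology m) :
    rho N m ((homologyMap (secM φ) m).hom x) = rho M m x ≫ Q.map φ := by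
  obtain ⟨z, rfl⟩ := hcls_surjective (secC M) m x
  rw [homologyMap_hcls, rho_hcls, rho_hcls, rhoZ_natural]

/-- The same, on the derived category of modules. -/
noncomputable def rhoQ : Dual.HD (DerComp.GSec O) ((QA _).obj (secC M)) m ≃ₗ[DerComp.GSec O]
    (Pd (ModSite.unit O) m ⟶ Q.obj M) :=
  (HQIso (secC M) m).toLinearEquiv.trans (rho M m)

lemma rhoQ_natural {N : CC O} [N.IsKInjective] (φ : M ⟶ N) (x : Dual.HD (DerComp.GSec O) ((QA _).obj (secC M)) m) :
    rhoQ N m (((HF _ m).map ((QA _).map (secM φ))).hom x) = rhoQ M m x ≫ Q.map φ := by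
  have h := congrArg (fun t => t.hom x) (HQIso_naturality (secM φ) m)
  exact (congrArg (rho N m) h).trans (rho_natural M m φ _)

omit hM

/-- Derived completeness of the global sections of a complete K-injective complex. -/
theorem isDerivedComplete_secC {I : Ideal (DerComp.GSec O)} {𝓘 : DerComp.IdealSh O}
    (hI : ∀ a ∈ I, ∀ U : C, a.1 U ∈ 𝓘.ideal U) [M.IsKInjective] (hM : DerComp.IsDerComp O 𝓘 (Q.obj M)) :
    DRing.IsDerivedComplete I ((QA _).obj (secC M)) := by
  refine (DR40.dc_iff I _).2 fun a ha n => ?_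
  have hc : CompEnd (a • 𝟙 (Pd (ModSite.unit O) n)) (Q.obj M) :=
    compEnd_smul_of_local a _ (fun U => ⟨⊤, J.top_mem U, fun V _ _ k =>
      (isDerComp_iff O _ _).1 hM V _ (hI a ha V) k⟩) _
  have : DCM.Comp a (Pd (ModSite.unit O) n ⟶ Q.obj M) := by
    have e : ∀ y, Phi (a • 𝟙 (Pd (ModSite.unit O) n)) (Q.obj M) y = DCM.T a _ y := fun y => funext fun k => by
      simp only [Phi, DCM.T_apply, Linear.smul_comp, Category.id_comp]
    have h2 := hc
    rw [CompEnd, funext e] at h2
    exact h2
  exact DCM.comp_equiv (rhoQ M n).symm this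

/-- A triangle criterion for orthogonality. -/
theorem orth_of_smul_triangle {A : Type u} [CommRing A] {I : Ideal A} {f : A} (hf : f ∈ I) {X N : Dual.D A}
    {g : X ⟶ N} {h : N ⟶ X⟦(1 : ℤ)⟧} (hT : Triangle.mk (f • 𝟙 X) g h ∈ distinguishedTriangles)
    (hN : DR40.Orth I N) : DR40.Orth I X := fun E hE z => by
  refine DCM.eq_zero_of_surjective (DR40.comp_hom f X E ((DR40.dc_iff I E).1 hE f hf)) (fun z => ?_) z
  obtain ⟨(y : X ⟶ E), (hy : z = (f • 𝟙 X) ≫ y)⟩ :=
    Triangle.yoneda_exact₂ _ (inv_rot_of_distTriang _ hT) z ((hN.shift (-1)) E hE _)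
  refine ⟨y, ?_⟩
  rw [hy, Linear.smul_comp, Category.id_comp]

lemma isZero_homology_secC_of_acyclic [M.IsKInjective] (h : M.Acyclic) (n : ℤ) :
    IsZero ((secC M).homology n) := by
  obtain ⟨H⟩ := CochainComplex.IsKInjective.nonempty_homotopy_zero (𝟙 M) h
  have h1 := (((secR O).mapHomotopy H).homologyMap_eq n)
  rw [CategoryTheory.Functor.map_id, homologyMap_id, Functor.map_zero, homologyMap_zero] at h1
  exact (IsZero.iff_id_eq_zero _).2 h1

omit M
theorem orth_secC_of_kc {I : Ideal (DerComp.GSec O)} : ∀ (l : List (DerComp.GSec O)), (∀ s ∈ l, s ∈ I) →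
    ∀ M : CC O, M.IsKInjective → (kc l M).Acyclic → DR40.Orth I ((QA _).obj (secC M))
  | [], _, M, hM, h => DR40.orth_of_isZero (isZero_of_forall fun n =>
      (isZero_HF_Q_iff (secC M) n).2 (isZero_homology_secC_of_acyclic M h n))
  | s :: l, hl, M, hM, h => by
    have hK : (CochainComplex.mappingCone (smulC s M)).IsKInjective := isKInjective_cone _ hM hM
    have ih := orth_secC_of_kc l (fun t ht => hl t (List.mem_cons_of_mem _ ht)) _ hK h
    let T := DerivedCategory.Q.mapTriangle.obj (CochainComplex.mappingCone.triangle (s • 𝟙 (secC M)))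
    have hT : T ∈ distinguishedTriangles :=
      (DerivedCategory.mem_distTriang_iff _).2 ⟨_, _, s • 𝟙 (secC M), ⟨Iso.refl _⟩⟩
    have h0 : Triangle.mk (Q.map (s • 𝟙 (secC M))) T.mor₂ T.mor₃ ∈ distinguishedTriangles := hT
    rw [Functor.map_smul, CategoryTheory.Functor.map_id] at h0
    refine orth_of_smul_triangle (hl s List.mem_cons_self) h0 (ih.of_iso ((QA _).mapIso ?_))
    exact CochainComplex.mappingCone.mapHomologicalComplexIso (smulC s M) (secR O) ≪≫
      eqToIso (congrArg (fun t => CochainComplex.mappingCone t) (secM_smulC s M))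

end Groth.Agent.DerComp18
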