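import Groth.Agent.DerComp18.TermSec
import Groth.Agent.DerComp18.Sections
import Groth.Agent.Mod48.Exact
import Groth.Agent.SiteMod.Injective
import Groth.Agent.Mod48.ModGen
import Groth.Agent.CohDer42.Res
import Groth.Agent.CohDer42.AcClass
import Groth.Agent.Coh69.Sections

/-!
Global classes of bounded below complexes with acyclic terms are represented by cycles of global sections.
-/

universe u

open CategoryTheory CategoryTheory.Limits Opposite HomologicalComplex

attribute [local instance] HasDerivedCategory.standard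

set_option autoImplicit false
set_option synthInstance.maxHeartbeats 200000

namespace Groth.Agent.DerComp18

open Groth.Agent.Mod48 Groth.Agent.Mod48.LocGen

variable {C : Type u} [SmallCategory C] {J : GrothendieckTopology C} {O : Sheaf J CommRingCat.{u}}

/-- The class of modules with totally acyclic underlying abelian sheaf. -/
def TAc (O : Sheaf J CommRingCat.{u}) : ObjectProperty (ModSite.Mod O) :=
  fun M => CohCx.IsTotallyAcyclic (ModSite.toAb M)

lemma tac_injective (I : ModSite.Mod O) [Injective I] : TAc O I :=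
  SiteMod.isTotallyAcyclic_toSheaf_injective (ModSite.ringSh O) I

open CategoryTheory.Abelian in
lemma tac_X₃ {S : ShortComplex (ModSite.Mod O)} (hS : S.ShortExact) (h1 : TAc O S.X₁) (h2 : TAc O S.X₂) :
    TAc O S.X₃ := by
  have : PreservesFiniteColimits (SheafOfModules.toSheaf.{u} (ModSite.ringSh O)) :=
    (toSheaf_preservesColimits (O := O)).preservesFiniteColimits
  intro W p
  refine subsingleton_of_forall_eq 0 fun y => ?_
  obtain ⟨z, rfl⟩ := Ext.covariant_sequence_exact₃ _
    (hS.map_of_exact (SheafOfModules.toSheaf (ModSite.ringSh O))) y (rfl : p + 1 + 1 = p + 2)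
    (@Subsingleton.elim _ (h1 W (p + 1)) _ _)
  obtain rfl : z = 0 := @Subsingleton.elim _ (h2 W p) z 0
  exact Ext.zero_comp _ _ _ _ _

variable {T : C} (hT : IsTerminal T)

include hT in
/-- Global sections lift along an epimorphism with totally acyclic kernel. -/
lemma exists_unit_lift {S : ShortComplex (ModSite.Mod O)} (hS : S.ShortExact) (h1 : TAc O S.X₁)
    (g : ModSite.unit O ⟶ S.X₃) : ∃ g' : ModSite.unit O ⟶ S.X₂, g' ≫ S.g = g := by
  have : PreservesFiniteColimits (SheafOfModules.toSheaf.{u} (ModSite.ringSh O)) :=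
    (toSheaf_preservesColimits (O := O)).preservesFiniteColimits
  have hS' := hS.map_of_exact (SheafOfModules.toSheaf (ModSite.ringSh O))
  have : Subsingleton (Coh69.HE (S.map (SheafOfModules.toSheaf (ModSite.ringSh O))).X₁ 1 T) :=
    SiteCoh.hu_subsingleton_of_isTotallyAcyclic h1 T 0
  obtain ⟨t, ht⟩ := Coh69.surjective_of_subsingleton_H1 hS' T (unitVal (T := T) S.X₃ g)
  obtain ⟨g', hg'⟩ := (unitVal_bijective hT S.X₂).2 t
  refine ⟨g', (unitVal_bijective hT S.X₃).1 ?_⟩
  rw [unitVal_comp, hg']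
  exact ht

include hT in
lemma secR_shortExact {S : ShortComplex (ModSite.Mod O)} (hS : S.ShortExact) (h1 : TAc O S.X₁) :
    (S.map (secR O)).ShortExact where
  exact := by
    rw [ShortComplex.moduleCat_exact_iff]
    intro x hx
    have := hS.mono_f
    exact ⟨hS.exact.lift x hx, hS.exact.lift_f x hx⟩
  mono_f := (ModuleCat.mono_iff_injective _).2 fun x y h => by
    have := hS.mono_f
    exact (cancel_mono S.f).1 h
  epi_g := (ModuleCat.epi_iff_surjective _).2 fun g => exists_unit_lift hT hS h1 g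

include hT in
lemma acyclic_secC (M : CC O) (a : ℤ) [M.IsStrictlyGE a] (hM : M.Acyclic) (hX : ∀ n, TAc O (M.X n)) :
    (secC M).Acyclic :=
  CohDer42.acyclic_map_of_adapted (secR O) (TAc O)
    (fun _ hS h1 h2 => ⟨tac_X₃ hS h1 h2, secR_shortExact hT hS h1⟩) M a hM
    fun n => Or.inr ⟨_, hX n, ⟨Iso.refl _⟩⟩

include hT in
lemma exists_boundary_of_acyclic (M : CC O) (a : ℤ) [M.IsStrictlyGE a] (hM : M.Acyclic) (hX : ∀ n, TAc O (M.X n))
    (m : ℤ) (c : ModSite.unit O ⟶ M.X m) (hc : c ≫ M.d m (m + 1) = 0) :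
    ∃ b : ModSite.unit O ⟶ M.X (m - 1), b ≫ M.d (m - 1) m = c := by
  have h := acyclic_secC hT M a hM hX m
  rw [exactAt_iff' _ (m - 1) m (m + 1) (by simp) (by simp), ShortComplex.moduleCat_exact_iff] at h
  exact h c hc

/-- The cokernel of a monomorphic quasi-isomorphism is acyclic. -/
lemma acyclic_cokernel {A : Type*} [Category A] [Abelian A] {K L : CochainComplex A ℤ} (s : K ⟶ L) [Mono s]
    [QuasiIso s] : (cokernel s).Acyclic := fun i => by
  have hS := CohDer42.shortExact_cokernel s
  rw [exactAt_iff_isZero_homology]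
  have h3 := hS.homology_exact₃ i (i + 1) rfl
  have hδ : hS.δ i (i + 1) rfl = 0 := by
    rw [← cancel_mono (homologyMap s (i + 1)), zero_comp]
    exact hS.δ_comp i (i + 1) rfl
  have hg : homologyMap (cokernel.π s) i = 0 := by
    rw [← cancel_epi (homologyMap s i), comp_zero]
    rw [← homologyMap_comp, cokernel.condition, homologyMap_zero]
  exact h3.isZero_of_both_zeros hg hδ

section Generic

variable {A : Type*} [Category A] [Abelian A] {K L : CochainComplex A ℤ} (s : K ⟶ L) [Mono s]

/-- The cokernel sequence in one degree. -/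
noncomputable abbrev cokSeq (n : ℤ) : ShortComplex A :=
  ShortComplex.mk (s.f n) ((cokernel.π s).f n) (by rw [← comp_f, cokernel.condition]; rfl)

lemma shortExact_cokSeq (n : ℤ) : (cokSeq s n).ShortExact :=
  ShortComplex.shortExact_of_iso (ShortComplex.isoMk (Iso.refl _) (Iso.refl _) (Iso.refl _) (by simp) (by simp))
    ((CohDer42.shortExact_cokernel s).map_of_exact (eval A (ComplexShape.up ℤ) n))

lemma isStrictlyGE_cokernel (a : ℤ) [L.IsStrictlyGE a] : (cokernel s).IsStrictlyGE a :=
  (CochainComplex.isStrictlyGE_iff _ a).2 fun i hi => by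
    have := (shortExact_cokSeq s i).epi_g
    exact IsZero.of_epi ((cokernel.π s).f i) (L.isZero_of_isStrictlyGE a i hi)

/-- Injectivity on cohomology of sections from acyclicity on the cokernel. -/
lemma secInj_of_cokernel {U : A}
    (hlift : ∀ (n : ℤ) (w : U ⟶ (cokernel s).X n), ∃ w' : U ⟶ L.X n, w' ≫ (cokernel.π s).f n = w)
    (hQ : SecAcyclic U (cokernel s)) : SecInj U s := by
  rintro m c hc ⟨b, hb⟩
  have hcyc : (b ≫ (cokernel.π s).f (m - 1)) ≫ (cokernel s).d (m - 1) (m - 1 + 1) = 0 := by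
    rw [sub_add_cancel, Category.assoc, (cokernel.π s).comm, ← Category.assoc, hb, Category.assoc]
    have h0 : s.f m ≫ (cokernel.π s).f m = 0 := (cokSeq s m).zero
    rw [h0, comp_zero]
  obtain ⟨w, hw⟩ := hQ (m - 1) _ hcyc
  obtain ⟨w', hw'⟩ := hlift (m - 1 - 1) w
  have hv : (b - w' ≫ L.d (m - 1 - 1) (m - 1)) ≫ (cokSeq s (m - 1)).g = 0 := by
    change (b - w' ≫ L.d (m - 1 - 1) (m - 1)) ≫ (cokernel.π s).f (m - 1) = 0
    rw [Preadditive.sub_comp, Category.assoc, ← (cokernel.π s).comm, ← Category.assoc, hw', hw, sub_self]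
  have := (shortExact_cokSeq s (m - 1)).mono_f
  obtain ⟨v, hv'⟩ : ∃ v : U ⟶ K.X (m - 1), v ≫ s.f (m - 1) = b - w' ≫ L.d (m - 1 - 1) (m - 1) :=
    ⟨(shortExact_cokSeq s (m - 1)).exact.lift _ hv, (shortExact_cokSeq s (m - 1)).exact.lift_f _ hv⟩
  refine ⟨v, ?_⟩
  have : Mono (s.f m) := (shortExact_cokSeq s m).mono_f
  rw [← cancel_mono (s.f m), Category.assoc, ← s.comm, ← Category.assoc, hv', Preadditive.sub_comp, Category.assoc,
    L.d_comp_d, comp_zero, sub_zero, hb]

/-- Injectivity on cohomology of sections for a monomorphic quasi-isomorphism with adapted terms. -/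
lemma secInj_of_class [QuasiIso s] (U : A) (T : A → Prop) (a : ℤ) [L.IsStrictlyGE a]
    (hlift : ∀ S : ShortComplex A, S.ShortExact → T S.X₁ → ∀ w : U ⟶ S.X₃, ∃ w', w' ≫ S.g = w)
    (hT3 : ∀ S : ShortComplex A, S.ShortExact → T S.X₁ → T S.X₂ → T S.X₃) (hK : ∀ n, T (K.X n))
    (hL : ∀ n, T (L.X n))
    (hac : ∀ M : CochainComplex A ℤ, M.IsStrictlyGE a → M.Acyclic → (∀ n, T (M.X n)) → SecAcyclic U M) :
    SecInj U s :=
  secInj_of_cokernel s (fun n => hlift _ (shortExact_cokSeq s n) (hK n))
    (hac _ (isStrictlyGE_cokernel s a) (acyclic_cokernel s) fun n => hT3 _ (shortExact_cokSeq s n) (hK n) (hL n))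

end Generic

include hT in
/-- A cycle of global sections which vanishes in the derived category is a boundary. -/
theorem exists_boundary_of_rhoZ_eq_zero (E : CC O) (a : ℤ) [E.IsStrictlyGE a] (hX : ∀ n, TAc O (E.X n)) (m : ℤ)
    (x : DR39.Zd (secC E) m) (hx : rhoZ E m x = 0) :
    ∃ b : ModSite.unit O ⟶ E.X (m - 1), b ≫ E.d (m - 1) m = (show ModSite.unit O ⟶ E.X m from x.1) := by
  obtain ⟨L, s, hLa, hLI, hmono, hqis⟩ := CohDer42.exists_resolution (A := ModSite.Mod O) (fun Y => Injective Y)
    (fun Y => ⟨Injective.under Y, Injective.ι Y, inferInstance, inferInstance⟩) E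
    ⟨_, isZero_zero (ModSite.Mod O), (isZero_zero _).injective⟩ a
  have : ∀ n, Injective (L.X n) := hLI
  have : L.IsKInjective := CochainComplex.isKInjective_of_injective L a
  have : Mono s := HomologicalComplex.mono_of_mono_f s hmono
  have hcyc : DerivedCategory.Q.map (cycleHom (cycOf E m x ≫ cyclesMap s m)) = 0 := by
    rw [← cycleHom_comp, Functor.map_comp]
    change rhoZ E m x ≫ _ = 0
    rw [hx, zero_comp]
  obtain ⟨b, hb⟩ := (secHom_of_isKInjective (ModSite.unit O) L m).2 _ hcyc
  have hb' : b ≫ L.d (m - 1) m = (show ModSite.unit O ⟶ E.X m from x.1) ≫ s.f m := by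
    rw [hb, Category.assoc, cyclesMap_i, ← Category.assoc, cycOf_i]
  exact secInj_of_class s (ModSite.unit O) (TAc O) a (fun S hS h1 => exists_unit_lift hT hS h1)
    (fun S hS h1 h2 => tac_X₃ hS h1 h2) hX (fun n => tac_injective _)
    (fun M _ hM hMX k c hc => exists_boundary_of_acyclic hT M a hM hMX k c hc) m _ x.2 ⟨b, hb'⟩

end Groth.Agent.DerComp18
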