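import Groth.Agent.DerComp18.TermSec
import Groth.Agent.DerComp18.HomFinite
import Groth.Agent.SiteMod.UnitExt
import Groth.Agent.Serre71.Finite
import Groth.Agent.Mod48.ModGen
import Groth.Prelude.Def_DCoh2

/-!
Maps out of the structure module into a coherent module in the derived category are finite over global sections.
-/

universe u

open CategoryTheory CategoryTheory.Limits Opposite DerivedCategory AlgebraicGeometry CategoryTheory.Abelian

attribute [local instance] HasDerivedCategory.standard

set_option autoImplicit false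

namespace Groth.Agent.DerComp18

open Groth.Agent.Mod48 Groth.Agent.Mod48.LocGen

lemma finite_of_semilinear {R S : Type*} [CommRing R] [Ring S] (σ : R ≃+* S) {M N : Type*} [AddCommGroup M]
    [Module R M] [AddCommGroup N] [Module S N] (f : M ≃+ N) (h : ∀ (r : R) (x : M), f (r • x) = σ r • f x)
    [Module.Finite S N] : Module.Finite R M := by
  obtain ⟨n, s, hs⟩ := Module.Finite.exists_fin (R := S) (M := N)
  refine Module.Finite.of_fg_top ⟨(Set.finite_range (f.symm ∘ s)).toFinset, ?_⟩
  rw [Set.Finite.coe_toFinset, eq_top_iff]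
  rintro y -
  have key : ∀ z ∈ Submodule.span S (Set.range s), f.symm z ∈ Submodule.span R (Set.range (f.symm ∘ s)) := by
    intro z hz
    induction hz using Submodule.span_induction with
    | mem z hz => obtain ⟨i, rfl⟩ := hz; exact Submodule.subset_span ⟨i, rfl⟩
    | zero => rw [map_zero]; exact zero_mem _
    | add a b _ _ ha hb => rw [map_add]; exact add_mem ha hb
    | smul r a _ ha =>
      have : f.symm (r • a) = σ.symm r • f.symm a := f.injective (by
        rw [h, AddEquiv.apply_symm_apply, AddEquiv.apply_symm_apply, RingEquiv.apply_symm_apply])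
      rw [this]
      exact Submodule.smul_mem _ _ ha
  have := key (f y) (hs ▸ Submodule.mem_top)
  rwa [AddEquiv.symm_apply_apply] at this

section Site

variable {C : Type u} [SmallCategory C] {J : GrothendieckTopology C} {O : Sheaf J CommRingCat.{u}}

/-- `Ext` out of the unit as morphisms in the derived category. -/
noncomputable def extUnitEquiv (M : ModSite.Mod O) (n : ℕ) :
    Ext.{u} (ModSite.unit O) M n ≃+ (SiteCmp.inD O (ModSite.unit O) ⟶ (SiteCmp.inD O M)⟦(n : ℤ)⟧) :=
  Ext.homAddEquiv

lemma extUnitEquiv_comp (M : ModSite.Mod O) (n : ℕ) (s : DerComp.GSec O) (ξ : Ext.{u} (ModSite.unit O) M n) :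
    extUnitEquiv M n (ξ.comp (Ext.mk₀ (DerComp.smulEnd s M)) (add_zero n)) = s • extUnitEquiv M n ξ := by
  change (ξ.comp (Ext.mk₀ (DerComp.smulEnd s M)) (add_zero n)).hom = s • ξ.hom
  rw [Ext.comp_hom, Ext.mk₀_hom, ShiftedHom.comp_mk₀]
  have h : (singleFunctor (ModSite.Mod O) 0).map (DerComp.smulEnd s M) = s • 𝟙 (SiteCmp.inD O M) := by
    have h1 : DerComp.smulEnd s M = s • 𝟙 M := (Category.comp_id (DerComp.smulEnd s M)).symm
    rw [h1, Functor.map_smul, CategoryTheory.Functor.map_id]
  rw [h, Functor.map_smul, CategoryTheory.Functor.map_id]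
  exact (Linear.comp_smul _ _ _ _ _ _).trans (congrArg (s • ·) (Category.comp_id _))

end Site

variable {X : Scheme.{u}}

lemma toSheaf_smulEnd (s : DerComp.GSec X.sheaf) (M : ModSite.Mod X.sheaf) :
    (SheafOfModules.toSheaf (ModSite.ringSh X.sheaf)).map (DerComp.smulEnd s M) =
      Coh.smulAb (X := X) M (s.1 (⊤ : X.Opens)) := by
  apply ObjectProperty.hom_ext
  ext U m
  change ((DerComp.smulEnd s M).val.app U).hom m = _
  rw [DerComp.smulEnd_apply]
  rw [Coh.smulAb_app]
  have e : (Coh.resTop X U (s.1 (⊤ : X.Opens))) = s.1 U.unop :=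
    DerComp.GSec.compat (O := X.sheaf) s (homOfLE (le_top (a := U.unop)))
  rw [e]

/-- **Finiteness for the structure module.** -/
theorem finite_hom_unit_single (A : Type u) [CommRing A] [IsNoetherianRing A] [X.Over (Spec (CommRingCat.of A))]
    [IsProper (X ↘ Spec (CommRingCat.of A))] (M : ModSite.Mod X.sheaf) (hM : Coh.IsCoh (X := X) M) (n : ℕ) :
    Module.Finite (DerComp.GSec X.sheaf)
      (SiteCmp.inD X.sheaf (ModSite.unit X.sheaf) ⟶ (SiteCmp.inD X.sheaf M)⟦(n : ℤ)⟧) := by
  haveI := Serre71.finite_hh_of_isProper A (X := X) M hM n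
  have : Module.Finite (Coh.Γtop X) (Coh.HH X M n) := by
    obtain ⟨k, g, hg⟩ := Module.Finite.exists_fin (R := A) (M := Coh.HH X M n)
    refine Module.Finite.of_fg_top ⟨(Set.finite_range g).toFinset, ?_⟩
    rw [Set.Finite.coe_toFinset, eq_top_iff]
    rintro y -
    have hy : y ∈ Submodule.span A (Set.range g) := hg ▸ Submodule.mem_top
    induction hy using Submodule.span_induction with
    | mem z hz => exact Submodule.subset_span hz
    | zero => exact zero_mem _
    | add a b _ _ ha hb => exact add_mem ha hb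
    | smul r a _ ha => exact Submodule.smul_mem _ (Coh.toGlobal (X ↘ Spec (CommRingCat.of A)) r) ha
  let Φ : Ext.{u} (ModSite.unit X.sheaf) M n ≃+ Coh.HH X M n := SiteMod.unitExtEquiv (ModSite.ringSh X.sheaf) M n
  refine finite_of_semilinear (S := Coh.Γtop X) (gsecEquiv X.sheaf (isTerminalTop (α := X.Opens)))
    ((extUnitEquiv M n).symm.trans Φ) fun s x => ?_
  obtain ⟨ξ, rfl⟩ := (extUnitEquiv M n).surjective x
  rw [← extUnitEquiv_comp, AddEquiv.trans_apply, AddEquiv.trans_apply, AddEquiv.symm_apply_apply,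
    AddEquiv.symm_apply_apply]
  refine (SiteCoh.extTransfer_naturality (SheafOfModules.toSheaf (ModSite.ringSh X.sheaf))
    (SiteMod.unitSec (ModSite.ringSh X.sheaf)) ξ (DerComp.smulEnd s M)).trans ?_
  rw [toSheaf_smulEnd]
  rfl

end Groth.Agent.DerComp18
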