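import Groth.Agent.DerComp18.SecAcyclic
import Groth.Agent.DerComp18.UnitFinite
import Groth.Agent.DerComp18.FlatUnit
import Groth.Agent.SiteMod.SheafHomAcyclic
import Groth.Agent.QC70.ExtCoh
import Groth.Agent.CohDer42.AcCrit
import Groth.Agent.LimTop61.SteinFinite
import Mathlib.CategoryTheory.Abelian.Injective.Extend

/-!
Morphisms between coherent modules in the derived category of a proper scheme form finite modules over the global
sections.
-/

universe w v u

open CategoryTheory CategoryTheory.Limits Opposite HomologicalComplex AlgebraicGeometry DerivedCategory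

attribute [local instance] HasDerivedCategory.standard

set_option autoImplicit false
set_option synthInstance.maxHeartbeats 200000

namespace Groth.Agent.DerComp18

open Groth.Agent.Mod48 Groth.Agent.Mod48.LocGen

lemma liftCycles_congr_pre {A : Type*} [Category A] [Abelian A] {M : CochainComplex A ℤ} {m : ℤ} {X X' : A} (e : X' ⟶ X)
    {c : X ⟶ M.X m} {c' : X' ⟶ M.X m} (hc : c ≫ M.d m (m + 1) = 0) (hc' : c' ≫ M.d m (m + 1) = 0)
    (h : c' = e ≫ c) : M.liftCycles c' (m + 1) (CochainComplex.next ℤ m) hc' =
      e ≫ M.liftCycles c (m + 1) (CochainComplex.next ℤ m) hc := by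
  rw [← cancel_mono (M.iCycles m), Category.assoc, liftCycles_i, liftCycles_i, h]

lemma Q_map_liftCycles_eq_zero {A : Type*} [Category A] [Abelian A] [HasDerivedCategory A] {M : CochainComplex A ℤ}
    {m : ℤ} {X : A} {c : X ⟶ M.X m} (hc : c ≫ M.d m (m + 1) = 0) (w : X ⟶ M.X (m - 1))
    (hw : w ≫ M.d (m - 1) m = c) : Q.map (cycleHom (M.liftCycles c (m + 1) (CochainComplex.next ℤ m) hc)) = 0 := by
  rw [Q_map_eq_of_homotopy _ (cycleHomHomotopy _ w (by rw [liftCycles_i, hw])), Functor.map_zero]

section Site

variable {C : Type u} [SmallCategory C] {J : GrothendieckTopology C} {O : Sheaf J CommRingCat.{u}}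
variable (F : ModSite.Mod O) [ModSite.HasSheafHom F]

/-- The structure sheaf tensored with `F` is `F`. -/
noncomputable def unitTens : ((ModSite.tensorBi O).flip.obj F).obj (ModSite.unit O) ≅ F := tensUnit.app F

/-- Sections of the internal hom are morphisms. -/
noncomputable def unitAdj {M : ModSite.Mod O} :
    (ModSite.unit O ⟶ (ModSite.sheafHom F).obj M) →ₗ[DerComp.GSec O] (F ⟶ M) where
  toFun z := (unitTens F).inv ≫ ((ModSite.sheafHomAdj F).homEquiv _ M).symm z
  map_add' z z' := by
    rw [Adjunction.homEquiv_counit, Adjunction.homEquiv_counit, Adjunction.homEquiv_counit, Functor.map_add,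
      Preadditive.add_comp, Preadditive.comp_add]
  map_smul' s z := by
    rw [DerComp.smul_def, DerComp.smul_def, RingHom.id_apply, Adjunction.homEquiv_naturality_left_symm]
    have h : ((ModSite.tensorBi O).flip.obj F).map (DerComp.smulEnd s (ModSite.unit O)) =
        DerComp.smulEnd s (((ModSite.tensorBi O).obj (ModSite.unit O)).obj F) :=
      tensorBi_map_app_smulEnd s (ModSite.unit O) F
    rw [h]
    refine (Category.assoc _ _ _).symm.trans ((congrArg (· ≫ _) ?_).trans (Category.assoc _ _ _))
    exact (DerComp.smulEnd_comm s (unitTens F).inv).symm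

lemma unitAdj_apply {M : ModSite.Mod O} (z : ModSite.unit O ⟶ (ModSite.sheafHom F).obj M) :
    unitAdj F z = (unitTens F).inv ≫ ((ModSite.sheafHomAdj F).homEquiv _ M).symm z := rfl

lemma unitAdj_surjective (M : ModSite.Mod O) (x : F ⟶ M) :
    ∃ z : ModSite.unit O ⟶ (ModSite.sheafHom F).obj M, unitAdj F z = x :=
  ⟨(ModSite.sheafHomAdj F).homEquiv _ M ((unitTens F).hom ≫ x), by
    rw [unitAdj_apply, Equiv.symm_apply_apply, Iso.inv_hom_id_assoc]⟩

lemma unitAdj_injective (M : ModSite.Mod O) (z z' : ModSite.unit O ⟶ (ModSite.sheafHom F).obj M)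
    (h : unitAdj F z = unitAdj F z') : z = z' := by
  rw [unitAdj_apply, unitAdj_apply, cancel_epi] at h
  exact ((ModSite.sheafHomAdj F).homEquiv _ M).symm.injective h

lemma unitAdj_comp {M N : ModSite.Mod O} (z : ModSite.unit O ⟶ (ModSite.sheafHom F).obj M) (g : M ⟶ N) :
    unitAdj F (z ≫ (ModSite.sheafHom F).map g) = unitAdj F z ≫ g := by
  rw [unitAdj_apply, unitAdj_apply, Adjunction.homEquiv_naturality_right_symm]
  exact (Category.assoc _ _ _).symm

variable (I : CC O)

/-- The complex of internal homs. -/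
noncomputable abbrev homCx : CC O := ((ModSite.sheafHom F).mapHomologicalComplex (ComplexShape.up ℤ)).obj I

lemma unitAdj_cycle {m : ℤ} (z : DR39.Zd (secC (homCx F I)) m) :
    unitAdj F (show ModSite.unit O ⟶ (ModSite.sheafHom F).obj (I.X m) from z.1) ≫ I.d m (m + 1) = 0 := by
  rw [← unitAdj_comp]
  have h : (show ModSite.unit O ⟶ (ModSite.sheafHom F).obj (I.X m) from z.1) ≫
      (ModSite.sheafHom F).map (I.d m (m + 1)) = 0 := z.2
  rw [h, map_zero]

/-- Global cycles of the internal hom complex give maps in the derived category. -/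
noncomputable def homTheta (m : ℤ) :
    DR39.Zd (secC (homCx F I)) m →ₗ[DerComp.GSec O] (Pd F m ⟶ Q.obj I) where
  toFun z := Q.map (cycleHom (I.liftCycles (unitAdj F _) (m + 1) (CochainComplex.next ℤ m) (unitAdj_cycle F I z)))
  map_add' z z' := by
    rw [← Functor.map_add]
    congr 1
    refine from_single_hom_ext ?_
    rw [HomologicalComplex.add_f_apply, cycleHom_f, cycleHom_f, cycleHom_f, liftCycles_i, liftCycles_i, liftCycles_i,
      ← Preadditive.comp_add, ← map_add]
    rfl
  map_smul' s z := by
    rw [RingHom.id_apply]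
    have h : I.liftCycles (unitAdj F _) (m + 1) (CochainComplex.next ℤ m) (unitAdj_cycle F I (s • z)) =
        DerComp.smulEnd s F ≫ I.liftCycles (unitAdj F _) (m + 1) (CochainComplex.next ℤ m) (unitAdj_cycle F I z) := by
      refine liftCycles_congr_pre (DerComp.smulEnd s F) _ _ ?_
      exact (LinearMap.map_smul (unitAdj F) s _).trans (DerComp.smul_def s _)
    rw [h, ← single_map_cycleHom, Functor.map_comp]
    change Pm (DerComp.smulEnd s F) m ≫ _ = _
    rw [Pm_smulEnd_eq, Linear.smul_comp, Category.id_comp]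

lemma homTheta_surjective [I.IsKInjective] (m : ℤ) : Function.Surjective (homTheta F I m) := fun y => by
  obtain ⟨c, hc⟩ := (secHom_of_isKInjective F I m).1 y
  obtain ⟨z, hz⟩ := unitAdj_surjective F (I.X m) (c ≫ I.iCycles m)
  refine ⟨⟨(show (secC (homCx F I)).X m from z), ?_⟩, ?_⟩
  · refine unitAdj_injective F _ _ _ ?_
    change unitAdj F (z ≫ (ModSite.sheafHom F).map (I.d m (m + 1))) = unitAdj F 0
    rw [unitAdj_comp, hz, Category.assoc, iCycles_d, comp_zero, map_zero]
  · rw [← hc]
    change Q.map _ = _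
    congr 2
    rw [← cancel_mono (I.iCycles m), liftCycles_i]
    exact hz

lemma homTheta_apply (m : ℤ) (z : DR39.Zd (secC (homCx F I)) m) :
    homTheta F I m z = Q.map (cycleHom (I.liftCycles (unitAdj F _) (m + 1) (CochainComplex.next ℤ m)
      (unitAdj_cycle F I z))) := rfl

lemma homTheta_eq_zero (m : ℤ) (z : DR39.Zd (secC (homCx F I)) m)
    (b : ModSite.unit O ⟶ (homCx F I).X (m - 1))
    (hb : b ≫ (homCx F I).d (m - 1) m = (show ModSite.unit O ⟶ (homCx F I).X m from z.1)) :
    homTheta F I m z = 0 := by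
  rw [homTheta_apply]
  have hw : unitAdj F (show ModSite.unit O ⟶ (ModSite.sheafHom F).obj (I.X (m - 1)) from b) ≫ I.d (m - 1) m =
      unitAdj F (show ModSite.unit O ⟶ (ModSite.sheafHom F).obj (I.X m) from z.1) := by
    rw [← hb]
    exact (unitAdj_comp F b _).symm
  exact Q_map_liftCycles_eq_zero _ _ hw

variable {T : C} (hT : IsTerminal T)

include hT in
/-- Finiteness of the hom out of `F` from finiteness for the structure module. -/
theorem finite_hom_of_homCx [IsNoetherianRing (DerComp.GSec O)] [I.IsKInjective] (a : ℤ)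
    [(homCx F I).IsStrictlyGE a] (hX : ∀ n, TAc O ((homCx F I).X n)) (m : ℤ)
    (h : Module.Finite (DerComp.GSec O) (Pd (ModSite.unit O) m ⟶ Q.obj (homCx F I))) :
    Module.Finite (DerComp.GSec O) (Pd F m ⟶ Q.obj I) := by
  have hker : LinearMap.ker (rhoZ (homCx F I) m) ≤ LinearMap.ker (homTheta F I m) := fun z hz => by
    obtain ⟨b, hb⟩ := exists_boundary_of_rhoZ_eq_zero hT (homCx F I) a hX m z hz
    exact homTheta_eq_zero F I m z b hb
  haveI := h
  haveI : IsNoetherian (DerComp.GSec O) (Pd (ModSite.unit O) m ⟶ Q.obj (homCx F I)) :=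
    isNoetherian_of_isNoetherianRing_of_finite _ _
  haveI : Module.Finite (DerComp.GSec O)
      (DR39.Zd (secC (homCx F I)) m ⧸ LinearMap.ker (rhoZ (homCx F I) m)) :=
    Module.Finite.equiv (rhoZ (homCx F I) m).quotKerEquivRange.symm
  exact Module.Finite.of_surjective (Submodule.liftQ _ (homTheta F I m) hker) fun y => by
    obtain ⟨z, hz⟩ := homTheta_surjective F I m y
    exact ⟨Submodule.Quotient.mk z, hz⟩

end Site

section Shift

variable {A : Type v} [Category.{u} A] [Abelian A] [HasDerivedCategory.{w} A] {B : Type*} [CommRing B]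
  [Linear B A]

omit [Category.{u} A] [Abelian A] [HasDerivedCategory.{w} A] [Linear B A] in
lemma finite_of_equiv {M N : Type*} [AddCommGroup M] [Module B M] [AddCommGroup N] [Module B N] (e : M ≃ₗ[B] N)
    (h : Module.Finite B M) : Module.Finite B N :=
  have := h
  Module.Finite.equiv e

/-- Shifting both degrees. -/
lemma finite_hom_single_shift {M N : A} (p q : ℤ)
    (h : Module.Finite B ((singleFunctor A (p - q)).obj M ⟶ (singleFunctor A 0).obj N)) :
    Module.Finite B ((singleFunctor A p).obj M ⟶ (singleFunctor A q).obj N) := by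
  let eM := ((singleFunctors A).shiftIso (-q) p (p - q) (by omega)).app M
  let eN := ((singleFunctors A).shiftIso (-q) q 0 (by omega)).app N
  have h' : Module.Finite B (((singleFunctor A (p - q)).obj M)⟦-q⟧ ⟶ ((singleFunctor A 0).obj N)⟦-q⟧) :=
    Module.Finite.of_surjective ((shiftFunctor (DerivedCategory A) (-q)).mapLinearMap B) fun g =>
      (shiftFunctor (DerivedCategory A) (-q)).map_surjective g
  exact finite_of_equiv (Linear.homCongr B eM eN) h'

lemma finite_hom_single_of_shift {M N : A} (p n : ℤ) (hn : p = n)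
    (h : Module.Finite B ((singleFunctor A 0).obj M ⟶ ((singleFunctor A 0).obj N)⟦n⟧)) :
    Module.Finite B ((singleFunctor A p).obj M ⟶ (singleFunctor A 0).obj N) := by
  have h' : Module.Finite B (((singleFunctor A 0).obj M)⟦-n⟧ ⟶ (((singleFunctor A 0).obj N)⟦n⟧)⟦-n⟧) :=
    Module.Finite.of_surjective ((shiftFunctor (DerivedCategory A) (-n)).mapLinearMap B) fun g =>
      (shiftFunctor (DerivedCategory A) (-n)).map_surjective g
  exact finite_of_equiv (Linear.homCongr B (((singleFunctors A).shiftIso (-n) p 0 (by omega)).app M)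
    ((shiftFunctorCompIsoId (DerivedCategory A) n (-n) (by omega)).app _)) h'

lemma finite_hom_of_lt (p q : ℤ) (h : p < q) (M N : A) :
    Module.Finite B ((singleFunctor A p).obj M ⟶ (singleFunctor A q).obj N) := by
  have : Subsingleton ((singleFunctor A p).obj M ⟶ (singleFunctor A q).obj N) := subsingleton_of_forall_eq 0 fun f =>
    TStructure.t.zero_of_isLE_of_isGE f p q h inferInstance inferInstance
  infer_instance

end Shift

section Scheme

variable {X : Scheme.{u}}

/-- Finiteness for the structure module, in all degrees. -/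
lemma finite_hom_unit_single' (A : Type u) [CommRing A] [IsNoetherianRing A] [X.Over (Spec (CommRingCat.of A))]
    [IsProper (X ↘ Spec (CommRingCat.of A))] (m : ℤ) (M : ModSite.Mod X.sheaf) (hM : Coh.IsCoh (X := X) M) (q : ℤ) :
    Module.Finite (DerComp.GSec X.sheaf)
      (Pd (ModSite.unit X.sheaf) m ⟶ (singleFunctor (ModSite.Mod X.sheaf) q).obj M) := by
  refine finite_hom_single_shift m q ?_
  by_cases h : 0 ≤ m - q
  · obtain ⟨n, hn⟩ : ∃ n : ℕ, m - q = n := ⟨(m - q).toNat, by omega⟩
    exact finite_hom_single_of_shift (m - q) (n : ℤ) (by omega) (finite_hom_unit_single A M hM n)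
  · exact finite_hom_of_lt (m - q) 0 (by omega) _ _

/-- Global sections of a proper scheme over a Noetherian ring form a Noetherian ring. -/
lemma isNoetherianRing_gsec_of_proper (A : Type u) [CommRing A] [IsNoetherianRing A]
    [X.Over (Spec (CommRingCat.of A))] [IsProper (X ↘ Spec (CommRingCat.of A))] :
    IsNoetherianRing (DerComp.GSec X.sheaf) := by
  have h := LimTop61.finite_appTop_of_isProper (CommRingCat.of A) (X ↘ Spec (CommRingCat.of A))
  let φ : A →+* Γ(X, ⊤) := ((Scheme.ΓSpecIso (CommRingCat.of A)).inv ≫ (X ↘ Spec (CommRingCat.of A)).appTop).hom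
  let _ : Algebra A Γ(X, ⊤) := φ.toAlgebra
  have : Module.Finite A Γ(X, ⊤) := h
  have : IsNoetherianRing Γ(X, ⊤) := IsNoetherianRing.of_finite A Γ(X, ⊤)
  exact @isNoetherianRing_gsec _ _ _ X.sheaf _ (isTerminalTop (α := X.Opens)) this

lemma isCoh_homology_homCx [IsLocallyNoetherian X] (F G : ModSite.Mod X.sheaf) (hF : Coh.IsCoh (X := X) F)
    (hG : Coh.IsCoh (X := X) G) [ModSite.HasSheafHom F] (R : InjectiveResolution G) (i : ℤ) :
    Coh.IsCoh (X := X) ((homCx F R.cochainComplex).homology i) := by
  let K := ((ModSite.sheafHom F).mapHomologicalComplex (ComplexShape.up ℕ)).obj R.cocomplex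
  let e : (K.extend ComplexShape.embeddingUpNat).homology i ≅ (homCx F R.cochainComplex).homology i :=
    (homologyFunctor (ModSite.Mod X.sheaf) (ComplexShape.up ℤ) i).mapIso
      (CohDer42.mapExtendIso (ModSite.sheafHom F) R.cocomplex)
  refine QC70.isCoh_of_iso e ?_
  by_cases hi : 0 ≤ i
  · exact QC70.isCoh_of_iso ((R.isoRightDerivedObj (ModSite.sheafHom F) i.toNat) ≪≫
      (K.extendHomologyIso ComplexShape.embeddingUpNat (show (i.toNat : ℤ) = i by omega)).symm)
      (QC70.isCoh_extSh F G hF hG i.toNat)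
  · refine QC70.isCoh_of_isZero ?_
    exact (K.extend_exactAt _ i fun k hk => hi (by simp at hk; omega)).isZero_homology

variable (X) in
/-- Coherent modules, as a property on the site. -/
def cohP : ObjectProperty (ModSite.Mod X.sheaf) := fun M => Coh.IsCoh (X := X) M

lemma cohP_of_iso {M N : ModSite.Mod X.sheaf} (e : M ≅ N) (h : cohP X M) : cohP X N := QC70.isCoh_of_iso e h

/-- **Finiteness for two coherent modules.** -/
theorem finite_hom_single_single (A : Type u) [CommRing A] [IsNoetherianRing A] [X.Over (Spec (CommRingCat.of A))]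
    [IsProper (X ↘ Spec (CommRingCat.of A))] (F G : ModSite.Mod X.sheaf) (hF : Coh.IsCoh (X := X) F)
    (hG : Coh.IsCoh (X := X) G) (p q : ℤ) :
    Module.Finite (DerComp.GSec X.sheaf)
      ((singleFunctor (ModSite.Mod X.sheaf) p).obj F ⟶ (singleFunctor (ModSite.Mod X.sheaf) q).obj G) := by
  have : IsLocallyNoetherian X := LocallyOfFiniteType.isLocallyNoetherian (X ↘ Spec (CommRingCat.of A))
  have := isNoetherianRing_gsec_of_proper (X := X) A
  have := QC70.hasSheafHom_modSite (X := X) F
  obtain ⟨R⟩ := (HasInjectiveResolution.out : Nonempty (InjectiveResolution G))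
  let I := R.cochainComplex
  have : I.IsKInjective := CochainComplex.isKInjective_of_injective I 0
  have hE : (homCx F I).IsStrictlyGE 0 := inferInstance
  have hX : ∀ n, TAc X.sheaf ((homCx F I).X n) := fun n =>
    SiteCoh.isTotallyAcyclic_of_torExtends (SiteMod.torExtends_sheafHom F (I.X n))
  have hu : ∀ m : ℤ, Module.Finite (DerComp.GSec X.sheaf)
      (Pd (ModSite.unit X.sheaf) m ⟶ Q.obj (homCx F I)) := fun m =>
    finite_hom_of_isGE_target (cohP X) cohP_of_iso _ m (finite_hom_unit_single' A m) _
      (fun i => QC70.isCoh_of_iso ((homologyFunctorFactors (ModSite.Mod X.sheaf) i).app (homCx F I)).symm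
        (isCoh_homology_homCx F G hF hG R i)) 0
  have h0 : Module.Finite (DerComp.GSec X.sheaf) (Pd F (p - q) ⟶ Q.obj I) :=
    finite_hom_of_homCx F I (isTerminalTop (α := X.Opens)) 0 hX (p - q) (hu _)
  have h1 : Module.Finite (DerComp.GSec X.sheaf)
      ((singleFunctor (ModSite.Mod X.sheaf) (p - q)).obj F ⟶ (singleFunctor (ModSite.Mod X.sheaf) 0).obj G) :=
    finite_hom_congr_iso (Iso.refl _) (asIso (Q.map R.ι')).symm h0
  exact finite_hom_single_shift p q h1

/-- **Finiteness of morphisms from bounded above to bounded below coherent complexes.** -/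
theorem finite_hom_cohD (A : Type u) [CommRing A] [IsNoetherianRing A] [X.Over (Spec (CommRingCat.of A))]
    [IsProper (X ↘ Spec (CommRingCat.of A))] (F G : DerivedCategory (ModSite.Mod X.sheaf))
    (hF : DCoh.IsCohD (X := X) F) (hG : DCoh.IsCohD (X := X) G) (a b : ℤ) [F.IsLE a] [G.IsGE b] :
    Module.Finite (DerComp.GSec X.sheaf) (F ⟶ G) := by
  have := isNoetherianRing_gsec_of_proper (X := X) A
  exact finite_hom_of_isLE_source (cohP X) cohP_of_iso G b (fun M hM p =>
    finite_hom_of_isGE_target (cohP X) cohP_of_iso _ p (fun N hN q => finite_hom_single_single A M N hM hN p q) G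
      (fun i => hG i) b) F (fun i => hF i) a

end Scheme

end Groth.Agent.DerComp18
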